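/-
helper81: piece IX of helper16's CALL S3805 (Frattini argument: a normal subgroup containing
`b = φ (1, sr 0)` has index at most 6).
-/
import Cfsg.Agent.Helper16.S3Core

set_option autoImplicit false
open Cfsg Cfsg.Agent.Helper16 DihedralGroup
open scoped ComplexConjugate

namespace Cfsg.Agent.Helper81

theorem ks_sr_conj : ∀ i : ZMod 3,
    (((1 : DihedralGroup 3), sr i) : NM) = (1, r i) * (1, sr 0) * (1, r i)⁻¹ := by decide

theorem ks_r_mul : ∀ i : ZMod 3, (((1 : DihedralGroup 3), r i) : NM) = (1, sr 0) * (1, sr i) := by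
  decide

theorem ks_t2_sq : (((1 : DihedralGroup 3), r (1 : ZMod 3)) : NM) ^ 2 ≠ 1 := by decide

theorem ks_t2_cube : (((1 : DihedralGroup 3), r (1 : ZMod 3)) : NM) ^ 3 = 1 := by decide

theorem ks_t2_ne : (((1 : DihedralGroup 3), r (1 : ZMod 3)) : NM) ≠ 1 := by decide

theorem s3_index_le_six {G : Type*} [Group G] [Finite G] {φ : NM →* G} (h : S3Cfg φ) (M : Subgroup G) [M.Normal] (hb : φ (1, sr 0) ∈ M) (ht : φ (r 1, 1) ∉ M) : M.index ≤ 6 := by
  classical
  haveI : Fact (Nat.Prime 3) := ⟨by norm_num⟩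
  -- `φ (1 × D₃) ≤ M`
  have hsr : ∀ i : ZMod 3, φ (1, sr i) ∈ M := by
    intro i
    rw [ks_sr_conj i, map_mul, map_mul, map_inv]
    exact Subgroup.Normal.conj_mem inferInstance _ hb _
  have hr : ∀ i : ZMod 3, φ (1, r i) ∈ M := by
    intro i
    rw [ks_r_mul i, map_mul]
    exact M.mul_mem hb (hsr i)
  have hall : ∀ k : DihedralGroup 3, φ (1, k) ∈ M := by
    intro k
    cases k with
    | r i => exact hr i
    | sr i => exact hsr i
  -- the element `t₂`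
  obtain ⟨t₂, ht₂⟩ : ∃ t₂ : G, t₂ = φ (1, r 1) := ⟨_, rfl⟩
  have ht₂M : t₂ ∈ M := by rw [ht₂]; exact hr 1
  have hm2 : (((1 : DihedralGroup 3), r (1 : ZMod 3)) : NM) ^ 2 ≠ 1 := ks_t2_sq
  have ht₂3 : t₂ ^ 3 = 1 := by
    rw [ht₂, ← map_pow]
    rw [ks_t2_cube, map_one]
  have ht₂1 : t₂ ≠ 1 := by
    intro h1
    exact ks_t2_ne (h.inj (by rw [← ht₂, h1, map_one]))
  -- a Sylow 3-subgroup of `M` containing `t₂`
  have ho : orderOf (⟨t₂, ht₂M⟩ : M) = 3 := by
    apply orderOf_eq_prime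
    · apply Subtype.ext
      simpa using ht₂3
    · intro h1
      exact ht₂1 (congrArg Subtype.val h1)
  have hpg : IsPGroup 3 (Subgroup.zpowers (⟨t₂, ht₂M⟩ : M)) :=
    IsPGroup.of_card (n := 1) (by rw [Nat.card_zpowers, ho, pow_one])
  obtain ⟨Q, hQ⟩ := hpg.exists_le_sylow
  have ht₂Q : (⟨t₂, ht₂M⟩ : M) ∈ Q := hQ (Subgroup.mem_zpowers _)
  haveI : Nontrivial (↥(Q : Subgroup M)) :=
    ⟨⟨⟨⟨t₂, ht₂M⟩, ht₂Q⟩, 1, fun h1 => ht₂1 (congrArg (fun q : ↥(Q : Subgroup M) => ((q : M) : G)) h1)⟩⟩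
  haveI := Q.2.center_nontrivial
  obtain ⟨z, hz⟩ := exists_ne (1 : Subgroup.center (↥(Q : Subgroup M)))
  obtain ⟨zG, hzG⟩ : ∃ zG : G, zG = (((z : ↥(Q : Subgroup M)) : M) : G) := ⟨_, rfl⟩
  have hzG1 : zG ≠ 1 := by
    intro h1
    apply hz
    apply Subtype.ext
    apply Subtype.ext
    apply Subtype.ext
    rw [← hzG, h1]
    rfl
  have hzcomm : ∀ q : ↥(Q : Subgroup M), ((q : M) : G) * zG = zG * ((q : M) : G) := by
    intro q
    have h1 := Subgroup.mem_center_iff.mp z.2 q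
    have h2 := congrArg (fun q : ↥(Q : Subgroup M) => ((q : M) : G)) h1
    rw [hzG]
    exact h2
  -- `z` lies in the range of `φ`
  have hzr : zG ∈ φ.range := by
    apply h.mem_range_of_commute hm2
    have h1 := hzcomm ⟨⟨t₂, ht₂M⟩, ht₂Q⟩
    rw [← ht₂]
    exact h1.symm
  obtain ⟨n, hn⟩ := hzr
  have hn2 : n ^ 2 ≠ 1 := by
    intro h2
    apply hzG1
    obtain ⟨k, hk⟩ := Q.2 (z : ↥(Q : Subgroup M))
    have hk' : zG ^ 3 ^ k = 1 := by
      have h3 := congrArg (fun q : ↥(Q : Subgroup M) => ((q : M) : G)) hk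
      rw [hzG]
      simpa using h3
    have hz2 : zG ^ 2 = 1 := by rw [← hn, ← map_pow, h2, map_one]
    have d1 := orderOf_dvd_of_pow_eq_one hk'
    have d2 := orderOf_dvd_of_pow_eq_one hz2
    have hcop : Nat.Coprime 2 (3 ^ k) := Nat.Coprime.pow_right k (by norm_num)
    have d3 : orderOf zG ∣ 1 := by
      have := Nat.dvd_gcd d2 d1
      rwa [hcop] at this
    exact orderOf_eq_one_iff.mp (Nat.dvd_one.mp d3)
  have hQr : ∀ q : ↥(Q : Subgroup M), ((q : M) : G) ∈ φ.range := by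
    intro q
    apply h.mem_range_of_commute hn2
    rw [hn]
    exact hzcomm q
  -- Frattini
  have hfr := Sylow.normalizer_sup_eq_top Q
  have hle : Subgroup.normalizer ((((Q : Subgroup M).map M.subtype : Subgroup G)) : Set G) ≤ φ.range := by
    intro g hg
    have h1 := (Subgroup.mem_normalizer_iff.mp hg t₂).mp
      ⟨⟨t₂, ht₂M⟩, ht₂Q, rfl⟩
    obtain ⟨q, hq, hqg⟩ := h1
    apply h.ti _ hm2 g
    rw [← ht₂, ← hqg]
    exact hQr ⟨q, hq⟩
  have htop : φ.range ⊔ M = ⊤ := by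
    rw [eq_top_iff, ← hfr]
    exact sup_le_sup_right hle M
  -- the surjection `D₃ → G ⧸ M`
  have hsurj : Function.Surjective (fun d : DihedralGroup 3 => (QuotientGroup.mk (φ (d, 1)) : G ⧸ M)) := by
    intro x
    obtain ⟨g, rfl⟩ := QuotientGroup.mk_surjective x
    have hg : g ∈ φ.range ⊔ M := by rw [htop]; exact Subgroup.mem_top g
    obtain ⟨y, ⟨m, hm⟩, w, hw, hyw⟩ := Subgroup.mem_sup_of_normal_right.mp hg
    refine ⟨m.1, ?_⟩
    show (QuotientGroup.mk (φ (m.1, 1)) : G ⧸ M) = QuotientGroup.mk g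
    rw [QuotientGroup.eq]
    have e : (m : NM) = (m.1, 1) * (1, m.2) := by
      ext <;> simp
    have e2 : (φ (m.1, 1))⁻¹ * g = φ (1, m.2) * w := by
      rw [← hyw, ← hm]
      nth_rewrite 2 [e]
      rw [map_mul]
      group
    rw [e2]
    exact M.mul_mem (hall m.2) hw
  have hcard := Nat.card_le_card_of_surjective _ hsurj
  rw [DihedralGroup.nat_card] at hcard
  exact hcard

end Cfsg.Agent.Helper81
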