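import Mathlib.Algebra.BigOperators.Group.Finset.Basic
import Mathlib.Data.Finset.Powerset
import Mathlib.Data.Fintype.Card
import Mathlib.Data.Nat.Choose.Basic
import Mathlib.Tactic

/-!
# Combinatorics of exceptional characters ("sunflower" lemma) and an arithmetic lemma

* `sunflower`: a family of `3`-sets, any two of which are equal or meet in exactly two points, with
  at least five distinct members, has a common `2`-subset.
* `coherence`: the corresponding statement for integer matrices with Gram matrix `2 J + I` up to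
  repetition of columns.
* `arith_homocyclic`: the diophantine equation behind Brauer's theorem on Sylow `2`-subgroups of
  type `(2^m, 2^m)`.
-/

set_option autoImplicit false

namespace Cfsg.Agent.Helper81

/-- The diophantine step: `(1 + x + y)(xy + x + y) = 9xy` with `x ≡ y ≡ 1 (mod 16)` forces
`x = y = 1`. -/
theorem arith_homocyclic (x y : ℤ) (hx : (16 : ℤ) ∣ x - 1) (hy : (16 : ℤ) ∣ y - 1)
    (h : (1 + x + y) * (x * y + x + y) = 9 * (x * y)) : x = 1 ∧ y = 1 := by
  obtain ⟨d, hd⟩ : ∃ d : ℤ, d = 8 - (x + y) := ⟨_, rfl⟩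
  have h1 : d * (x * y) = (x + y) * (x + y + 1) := by rw [hd]; linear_combination -h
  have h2 : d ∣ 72 := by
    have h3 : (72 : ℤ) = d * (x * y) + d * (17 - d) := by rw [h1, hd]; ring
    rw [h3]
    exact Dvd.dvd.add (Dvd.intro _ rfl) (Dvd.intro _ rfl)
  have hmod : (16 : ℤ) ∣ d - 6 := by
    have e : d - 6 = -(x - 1) - (y - 1) := by rw [hd]; ring
    rw [e]
    exact Dvd.dvd.sub ((Int.dvd_neg).mpr hx) hy
  obtain ⟨k, hk⟩ := hmod
  have hle : d ≤ 72 := Int.le_of_dvd (by norm_num) h2
  have hge : -72 ≤ d := by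
    have : -d ≤ 72 := Int.le_of_dvd (by norm_num) ((Int.neg_dvd).mpr h2)
    linarith
  have hk1 : -4 ≤ k := by omega
  have hk2 : k ≤ 4 := by omega
  have hd6 : d = 6 := by
    have hdk : d = 16 * k + 6 := by linarith
    rw [hdk] at h2 ⊢
    interval_cases k <;> first | rfl | (exfalso; revert h2; decide)
  rw [hd6] at h1 hd
  have hs : x + y = 2 := by linarith
  have hq : x * y = 1 := by
    have : (6 : ℤ) * (x * y) = 6 := by rw [h1, hs]; norm_num
    linarith
  have hx1 : (x - 1) ^ 2 = 0 := by
    have hy' : y = 2 - x := by linarith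
    rw [hy'] at hq
    linear_combination -hq
  have hx' : x = 1 := by
    have := pow_eq_zero_iff (two_ne_zero) |>.mp hx1
    linarith
  exact ⟨hx', by linarith⟩

/-- **Sunflower lemma** for `3`-sets: a family `S i` of `3`-sets such that any two members are
equal (for related indices) or meet in exactly two points (for unrelated ones), with classes of
size at most `3` and at least `13` indices, has two common points. -/
theorem sunflower {X I : Type*} [DecidableEq X] [Fintype I] (S : I → Finset X)
    (rel : I → I → Prop) (hcard : ∀ i, (S i).card = 3) (hrel : ∀ i j, rel i j → S i = S j)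
    (hnrel : ∀ i j, ¬ rel i j → (S i ∩ S j).card = 2)
    (hfib : ∀ i (F : Finset I), (∀ j ∈ F, rel i j) → F.card ≤ 3) (hI : 13 ≤ Fintype.card I) :
    ∃ a b : X, a ≠ b ∧ ∀ i, a ∈ S i ∧ b ∈ S i := by
  classical
  have hne : Nonempty I := by
    rcases isEmpty_or_nonempty I with h | h
    · rw [Fintype.card_eq_zero] at hI; omega
    · exact h
  obtain ⟨i1⟩ := hne
  obtain ⟨i2, h12⟩ : ∃ i2, ¬ rel i1 i2 := by
    by_contra hcon
    push Not at hcon
    have h := hfib i1 Finset.univ (fun j _ => hcon j)
    rw [Finset.card_univ] at h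
    omega
  obtain ⟨C, hC⟩ : ∃ C : Finset X, C = S i1 ∩ S i2 := ⟨_, rfl⟩
  have hCcard : C.card = 2 := by rw [hC]; exact hnrel i1 i2 h12
  obtain ⟨U, hU⟩ : ∃ U : Finset X, U = S i1 ∪ S i2 := ⟨_, rfl⟩
  have hUcard : U.card = 4 := by
    have := Finset.card_union_add_card_inter (S i1) (S i2)
    rw [hcard, hcard, ← hC, hCcard, ← hU] at this
    omega
  have hC1 : C ⊆ S i1 := by rw [hC]; exact Finset.inter_subset_left
  have hC2 : C ⊆ S i2 := by rw [hC]; exact Finset.inter_subset_right
  have hS1U : S i1 ⊆ U := by rw [hU]; exact Finset.subset_union_left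
  have hS2U : S i2 ⊆ U := by rw [hU]; exact Finset.subset_union_right
  have hd1 : (S i1 \ C).card = 1 := by
    rw [Finset.card_sdiff_of_subset hC1, hcard, hCcard]
  have hd2 : (S i2 \ C).card = 1 := by
    rw [Finset.card_sdiff_of_subset hC2, hcard, hCcard]
  have hdisj12 : Disjoint (S i1 \ C) (S i2 \ C) := by
    rw [Finset.disjoint_left]
    intro x hx1 hx2
    rw [Finset.mem_sdiff] at hx1 hx2
    exact hx1.2 (by rw [hC]; exact Finset.mem_inter.mpr ⟨hx1.1, hx2.1⟩)
  -- the key sublemma
  have key : ∀ i, ¬ rel i i1 → ¬ rel i i2 → ¬ C ⊆ S i → S i ⊆ U := by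
    intro i hi1 hi2 hCi
    have hc1 : (S i ∩ S i1).card = 2 := hnrel i i1 hi1
    have hc2 : (S i ∩ S i2).card = 2 := hnrel i i2 hi2
    have hlt : (S i ∩ C).card ≤ 1 := by
      have hss : S i ∩ C ⊂ C := by
        refine ⟨Finset.inter_subset_right, fun hcon => hCi (fun x hx => ?_)⟩
        exact (Finset.mem_inter.mp (hcon hx)).1
      have := Finset.card_lt_card hss
      omega
    have hsplit : ∀ k, C ⊆ S k → S i ∩ S k = (S i ∩ C) ∪ (S i ∩ (S k \ C)) := by
      intro k hk
      ext x
      simp only [Finset.mem_inter, Finset.mem_union, Finset.mem_sdiff]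
      constructor
      · rintro ⟨hx, hxk⟩
        by_cases hxC : x ∈ C
        · exact Or.inl ⟨hx, hxC⟩
        · exact Or.inr ⟨hx, hxk, hxC⟩
      · rintro (⟨hx, hxC⟩ | ⟨hx, hxk, -⟩)
        · exact ⟨hx, hk hxC⟩
        · exact ⟨hx, hxk⟩
    have hdisj : ∀ k, Disjoint (S i ∩ C) (S i ∩ (S k \ C)) := by
      intro k
      rw [Finset.disjoint_left]
      intro x hx1 hx2
      exact (Finset.mem_sdiff.mp (Finset.mem_inter.mp hx2).2).2 (Finset.mem_inter.mp hx1).2
    have hsub : ∀ k, C ⊆ S k → (S k \ C).card = 1 → (S i ∩ S k).card = 2 → S k \ C ⊆ S i := by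
      intro k hk hkc hik
      rw [hsplit k hk, Finset.card_union_of_disjoint (hdisj k)] at hik
      have h1 : (S i ∩ (S k \ C)).card ≤ (S k \ C).card :=
        Finset.card_le_card Finset.inter_subset_right
      have h2 : S i ∩ (S k \ C) = S k \ C :=
        Finset.eq_of_subset_of_card_le Finset.inter_subset_right (by omega)
      rw [← h2]
      exact Finset.inter_subset_left
    have hp := hsub i1 hC1 hd1 hc1
    have hq := hsub i2 hC2 hd2 hc2
    have hone : (S i ∩ C).card = 1 := by
      have hik := hc1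
      rw [hsplit i1 hC1, Finset.card_union_of_disjoint (hdisj i1)] at hik
      have h1 : (S i ∩ (S i1 \ C)).card ≤ (S i1 \ C).card :=
        Finset.card_le_card Finset.inter_subset_right
      omega
    -- `S i` is the union of three disjoint pieces
    have hunion : (S i ∩ C) ∪ ((S i1 \ C) ∪ (S i2 \ C)) ⊆ S i := by
      intro x hx
      rcases Finset.mem_union.mp hx with hx | hx
      · exact (Finset.mem_inter.mp hx).1
      · rcases Finset.mem_union.mp hx with hx | hx
        · exact hp hx
        · exact hq hx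
    have hdisj3 : Disjoint (S i ∩ C) ((S i1 \ C) ∪ (S i2 \ C)) := by
      rw [Finset.disjoint_left]
      intro x hx1 hx2
      have hxC := (Finset.mem_inter.mp hx1).2
      rcases Finset.mem_union.mp hx2 with hx | hx
      · exact (Finset.mem_sdiff.mp hx).2 hxC
      · exact (Finset.mem_sdiff.mp hx).2 hxC
    have hcard3 : ((S i ∩ C) ∪ ((S i1 \ C) ∪ (S i2 \ C))).card = 3 := by
      rw [Finset.card_union_of_disjoint hdisj3, Finset.card_union_of_disjoint hdisj12, hone, hd1,
        hd2]
    have heq : (S i ∩ C) ∪ ((S i1 \ C) ∪ (S i2 \ C)) = S i :=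
      Finset.eq_of_subset_of_card_le hunion (by rw [hcard3, hcard])
    rw [← heq]
    intro x hx
    rcases Finset.mem_union.mp hx with hx | hx
    · exact hS1U (hC1 (Finset.mem_inter.mp hx).2)
    · rcases Finset.mem_union.mp hx with hx | hx
      · exact hS1U (Finset.mem_sdiff.mp hx).1
      · exact hS2U (Finset.mem_sdiff.mp hx).1
  -- a third set outside `U`
  obtain ⟨i3, h3U⟩ : ∃ i3, ¬ S i3 ⊆ U := by
    by_contra hcon
    push Not at hcon
    have h1 : (Finset.univ : Finset I).card ≤ 3 * ((Finset.univ : Finset I).image S).card := by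
      apply Finset.card_le_mul_card_image
      intro W hW
      obtain ⟨i0, -, rfl⟩ := Finset.mem_image.mp hW
      apply hfib i0
      intro j hj
      rw [Finset.mem_filter] at hj
      by_contra hr
      have := hnrel i0 j hr
      rw [hj.2, Finset.inter_self, hcard] at this
      omega
    have h2 : ((Finset.univ : Finset I).image S) ⊆ U.powersetCard 3 := by
      intro W hW
      obtain ⟨i0, -, rfl⟩ := Finset.mem_image.mp hW
      exact Finset.mem_powersetCard.mpr ⟨hcon i0, hcard i0⟩
    have h3 := Finset.card_le_card h2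
    rw [Finset.card_powersetCard, hUcard] at h3
    have h4 : Nat.choose 4 3 = 4 := by decide
    rw [h4] at h3
    rw [Finset.card_univ] at h1
    omega
  have h31 : ¬ rel i3 i1 := fun h => h3U (by rw [hrel i3 i1 h]; exact hS1U)
  have h32 : ¬ rel i3 i2 := fun h => h3U (by rw [hrel i3 i2 h]; exact hS2U)
  have hC3 : C ⊆ S i3 := by
    by_contra hcon
    exact h3U (key i3 h31 h32 hcon)
  have hCU : C ⊆ U := hC1.trans hS1U
  have h3UC : S i3 ∩ U = C := by
    symm
    apply Finset.eq_of_subset_of_card_le (Finset.subset_inter hC3 hCU)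
    have hss : S i3 ∩ U ⊂ S i3 := by
      refine ⟨Finset.inter_subset_left, fun hcon => h3U (fun x hx => ?_)⟩
      exact (Finset.mem_inter.mp (hcon hx)).2
    have := Finset.card_lt_card hss
    rw [hcard] at this
    omega
  have hall : ∀ i, C ⊆ S i := by
    intro i
    by_contra hcon
    have hi1 : ¬ rel i i1 := fun h => hcon (by rw [hrel i i1 h]; exact hC1)
    have hi2 : ¬ rel i i2 := fun h => hcon (by rw [hrel i i2 h]; exact hC2)
    have hi3 : ¬ rel i i3 := fun h => hcon (by rw [hrel i i3 h]; exact hC3)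
    have hiU := key i hi1 hi2 hcon
    have h2 := hnrel i i3 hi3
    have hsub : S i ∩ S i3 ⊆ S i ∩ C := by
      intro x hx
      have hx1 := (Finset.mem_inter.mp hx).1
      have hx3 := (Finset.mem_inter.mp hx).2
      refine Finset.mem_inter.mpr ⟨hx1, ?_⟩
      rw [← h3UC]
      exact Finset.mem_inter.mpr ⟨hx3, hiU hx1⟩
    have hss : S i ∩ C ⊂ C := by
      refine ⟨Finset.inter_subset_right, fun hc => hcon (fun x hx => ?_)⟩
      exact (Finset.mem_inter.mp (hc hx)).1
    have h3 := Finset.card_lt_card hss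
    have h4 := Finset.card_le_card hsub
    omega
  obtain ⟨a, b, hab, hCab⟩ := Finset.card_eq_two.mp hCcard
  refine ⟨a, b, hab, fun i => ⟨hall i ?_, hall i ?_⟩⟩
  · rw [hCab]; exact Finset.mem_insert_self _ _
  · rw [hCab]; exact Finset.mem_insert_of_mem (Finset.mem_singleton_self _)

/-- **Coherence**: an integer matrix whose columns have norm `3` and pairwise inner products `2`
or `3` (with at most three columns in each class of equal columns and at least `13` columns) has
two rows constant `± 1`; in each column there is exactly one further nonzero entry. -/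
theorem coherence {X I : Type*} [Fintype X] [DecidableEq X] [Fintype I] (d : X → I → ℤ)
    (hnorm : ∀ i, ∑ x, d x i ^ 2 = 3)
    (hgram : ∀ i j, ∑ x, d x i * d x j = 2 ∨ ∑ x, d x i * d x j = 3)
    (hfib : ∀ i (F : Finset I), (∀ j ∈ F, ∑ x, d x i * d x j = 3) → F.card ≤ 3)
    (hI : 13 ≤ Fintype.card I) :
    ∃ a b : X, a ≠ b ∧ ∃ sa sb : ℤ, (sa = 1 ∨ sa = -1) ∧ (sb = 1 ∨ sb = -1) ∧
      (∀ i, d a i = sa) ∧ (∀ i, d b i = sb) ∧
      ∀ i, ∃ c : X, c ≠ a ∧ c ≠ b ∧ (d c i = 1 ∨ d c i = -1) ∧
        (∀ x, x ≠ a → x ≠ b → x ≠ c → d x i = 0) ∧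
        ∀ j, d c j = if ∑ x, d x i * d x j = 3 then d c i else 0 := by
  classical
  -- entries are `0, ± 1`
  have hent : ∀ x i, d x i = 0 ∨ d x i = 1 ∨ d x i = -1 := by
    intro x i
    have h1 : d x i ^ 2 ≤ ∑ y, d y i ^ 2 :=
      Finset.single_le_sum (f := fun y => d y i ^ 2) (fun y _ => sq_nonneg _) (Finset.mem_univ x)
    rw [hnorm] at h1
    have h2 : -1 ≤ d x i := by nlinarith
    have h3 : d x i ≤ 1 := by nlinarith
    omega
  have hsq : ∀ x i, d x i ^ 2 = if d x i ≠ 0 then 1 else 0 := by
    intro x i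
    rcases hent x i with h | h | h <;> rw [h] <;> norm_num
  obtain ⟨S, hS⟩ : ∃ S : I → Finset X, ∀ i x, x ∈ S i ↔ d x i ≠ 0 :=
    ⟨fun i => Finset.univ.filter (fun x => d x i ≠ 0), fun i x => by simp⟩
  have hScard : ∀ i, (S i).card = 3 := by
    intro i
    have h1 := hnorm i
    simp only [hsq] at h1
    rw [Finset.sum_boole] at h1
    have h2 : S i = Finset.univ.filter (fun x => d x i ≠ 0) := by
      ext x; rw [hS]; simp
    rw [h2]
    exact_mod_cast h1
  have hdiff : ∀ i j, ∑ x, (d x i - d x j) ^ 2 = 6 - 2 * ∑ x, d x i * d x j := by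
    intro i j
    have h1 : ∀ x, (d x i - d x j) ^ 2 = d x i ^ 2 + d x j ^ 2 - 2 * (d x i * d x j) := by
      intro x; ring
    simp only [h1]
    rw [Finset.sum_sub_distrib, Finset.sum_add_distrib, hnorm, hnorm, ← Finset.mul_sum]
    norm_num
  have hrelEq : ∀ i j, ∑ x, d x i * d x j = 3 → ∀ x, d x i = d x j := by
    intro i j h x
    have h1 := hdiff i j
    rw [h] at h1
    have h2 : ∑ x, (d x i - d x j) ^ 2 = 0 := by rw [h1]; norm_num
    have h3 := (Finset.sum_eq_zero_iff_of_nonneg (fun y _ => sq_nonneg (d y i - d y j))).mp h2 x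
      (Finset.mem_univ x)
    have h4 : d x i - d x j = 0 := pow_eq_zero_iff (two_ne_zero) |>.mp h3
    linarith
  have hagree : ∀ i j, ∑ x, d x i * d x j = 2 → ∀ x, d x i ≠ 0 → d x j ≠ 0 → d x i = d x j := by
    intro i j h x hxi hxj
    have h1 := hdiff i j
    rw [h] at h1
    have h2 : (d x i - d x j) ^ 2 ≤ ∑ y, (d y i - d y j) ^ 2 :=
      Finset.single_le_sum (f := fun y => (d y i - d y j) ^ 2) (fun y _ => sq_nonneg _)
        (Finset.mem_univ x)
    rw [h1] at h2
    rcases hent x i with h3 | h3 | h3 <;> rcases hent x j with h4 | h4 | h4 <;>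
      first
        | exact absurd h3 hxi
        | exact absurd h4 hxj
        | (rw [h3, h4]; done)
        | (exfalso; rw [h3, h4] at h2; norm_num at h2)
  have hinter : ∀ i j, ∑ x, d x i * d x j = 2 → (S i ∩ S j).card = 2 := by
    intro i j h
    have h1 : ∀ x, d x i * d x j = if x ∈ S i ∩ S j then 1 else 0 := by
      intro x
      by_cases hx : x ∈ S i ∩ S j
      · rw [if_pos hx]
        rw [Finset.mem_inter, hS, hS] at hx
        have h2 := hagree i j h x hx.1 hx.2
        rw [← h2]
        rcases hent x i with h3 | h3 | h3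
        · exact absurd h3 hx.1
        · rw [h3]; norm_num
        · rw [h3]; norm_num
      · rw [if_neg hx]
        rw [Finset.mem_inter, hS, hS] at hx
        by_cases h3 : d x i = 0
        · rw [h3, zero_mul]
        · have h4 : d x j = 0 := by
            by_contra h4
            exact hx ⟨h3, h4⟩
          rw [h4, mul_zero]
    have h2 := h
    simp only [h1] at h2
    rw [Finset.sum_boole] at h2
    have h3 : Finset.univ.filter (fun x => x ∈ S i ∩ S j) = S i ∩ S j := by
      ext x; simp
    rw [h3] at h2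
    exact_mod_cast h2
  obtain ⟨a, b, hab, hcommon⟩ := sunflower S (fun i j => ∑ x, d x i * d x j = 3) hScard
    (fun i j h => by
      ext x
      rw [hS, hS, hrelEq i j h x])
    (fun i j h => hinter i j ((hgram i j).resolve_right h)) hfib hI
  have hne : Nonempty I := by
    rcases isEmpty_or_nonempty I with h | h
    · rw [Fintype.card_eq_zero] at hI; omega
    · exact h
  obtain ⟨i1⟩ := hne
  have hconst : ∀ y, (∀ i, y ∈ S i) → ∀ i, d y i = d y i1 := by
    intro y hy i
    rcases hgram i1 i with h | h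
    · exact (hagree i1 i h y ((hS _ _).mp (hy i1)) ((hS _ _).mp (hy i))).symm
    · exact (hrelEq i1 i h y).symm
  have hpm : ∀ y i, d y i ≠ 0 → d y i = 1 ∨ d y i = -1 := by
    intro y i h
    rcases hent y i with h1 | h1 | h1
    · exact absurd h1 h
    · exact Or.inl h1
    · exact Or.inr h1
  refine ⟨a, b, hab, d a i1, d b i1, hpm a i1 ((hS _ _).mp (hcommon i1).1),
    hpm b i1 ((hS _ _).mp (hcommon i1).2), hconst a (fun i => (hcommon i).1),
    hconst b (fun i => (hcommon i).2), ?_⟩
  intro i
  have hcard1 : (((S i).erase a).erase b).card = 1 := by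
    rw [Finset.card_erase_of_mem (Finset.mem_erase.mpr ⟨hab.symm, (hcommon i).2⟩),
      Finset.card_erase_of_mem (hcommon i).1, hScard]
  obtain ⟨c, hc⟩ := Finset.card_eq_one.mp hcard1
  have hcmem : c ∈ ((S i).erase a).erase b := by rw [hc]; exact Finset.mem_singleton_self _
  have hcb : c ≠ b := (Finset.mem_erase.mp hcmem).1
  have hca : c ≠ a := (Finset.mem_erase.mp (Finset.mem_erase.mp hcmem).2).1
  have hcS : c ∈ S i := (Finset.mem_erase.mp (Finset.mem_erase.mp hcmem).2).2
  refine ⟨c, hca, hcb, hpm c i ((hS _ _).mp hcS), ?_, ?_⟩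
  · intro x hxa hxb hxc
    by_contra hx
    have h1 : x ∈ ((S i).erase a).erase b :=
      Finset.mem_erase.mpr ⟨hxb, Finset.mem_erase.mpr ⟨hxa, (hS _ _).mpr hx⟩⟩
    rw [hc, Finset.mem_singleton] at h1
    exact hxc h1
  · intro j
    rcases hgram i j with h | h
    · rw [if_neg (by rw [h]; norm_num)]
      by_contra hcj
      have h1 : ({a, b, c} : Finset X) ⊆ S i ∩ S j := by
        intro x hx
        simp only [Finset.mem_insert, Finset.mem_singleton] at hx
        rcases hx with rfl | rfl | rfl
        · exact Finset.mem_inter.mpr ⟨(hcommon i).1, (hcommon j).1⟩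
        · exact Finset.mem_inter.mpr ⟨(hcommon i).2, (hcommon j).2⟩
        · exact Finset.mem_inter.mpr ⟨hcS, (hS _ _).mpr hcj⟩
      have h2 := Finset.card_le_card h1
      rw [hinter i j h] at h2
      have h3 : ({a, b, c} : Finset X).card = 3 := by
        rw [Finset.card_insert_of_notMem (by
          simp only [Finset.mem_insert, Finset.mem_singleton, not_or]
          exact ⟨hab, hca.symm⟩), Finset.card_pair hcb.symm]
      omega
    · rw [if_pos h]
      exact (hrelEq i j h c).symm

end Cfsg.Agent.Helper81
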