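import Cfsg.Agent.Helper81.AbelChar
import Cfsg.Agent.Helper81.Sunflower
import Cfsg.Agent.Helper81.Blocks
import Cfsg.Agent.Helper3.Induced
import Cfsg.Agent.Helper79.Basic
import Cfsg.Agent.Helper80.CharIrr

/-!
# Exceptional characters from an abelian subgroup with a fixed-point-free automorphism of order 3

The character-theoretic core of Brauer's theorem on groups with Sylow `2`-subgroups of type
`(2^m, 2^m)`, `m ≥ 2`, in an abstract form: `exists_linear_of_section_data`.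
-/

set_option autoImplicit false
open Cfsg
open scoped ComplexConjugate

namespace Cfsg.Agent.Helper81

universe u v

/-- The multiplicity of a linear character in the pull-back of an irreducible character is a
natural number. -/
theorem exists_linMult {G : Type u} [Group G] {Q : Type v} [Group Q] [Fintype Q]
    (χ : Cfsg.IrrCharacter G) (ι : Q →* G) (lam : Q →* ℂˣ) :
    ∃ n : ℕ, ∑ q : Q, (χ : G → ℂ) (ι q) * conj ((lam q : ℂˣ) : ℂ) = (Fintype.card Q : ℂ) * n := by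
  have h1 : Cfsg.IsCharacter Q (fun q => (χ : G → ℂ) (ι q)) :=
    Helper79.isCharacter_comp (Helper79.isCharacter_of_irr χ.2) ι
  have h2 : Cfsg.IsCharacter Q (fun q => ((lam q : ℂˣ) : ℂ)) :=
    Helper79.isCharacter_of_irr (Helper79.isIrrCharacter_of_hom lam)
  obtain ⟨n, hn⟩ := Helper3.classInner_isCharacter_nat h1 h2
  refine ⟨n, ?_⟩
  unfold Cfsg.classInner at hn
  have hc : (Nat.card Q : ℂ) ≠ 0 := by exact_mod_cast Nat.card_pos.ne'
  rw [← Nat.card_eq_fintype_card, ← hn, mul_inv_cancel_left₀ hc]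

/-- Fourier inversion on a finite commutative group. -/
theorem fourier_inversion {Q : Type*} [CommGroup Q] [Fintype Q] [DecidableEq Q]
    [Fintype (Q →* ℂˣ)] (f : Q → ℂ) (m : (Q →* ℂˣ) → ℂ)
    (hm : ∀ lam : Q →* ℂˣ, ∑ q : Q, f q * conj ((lam q : ℂˣ) : ℂ) = (Fintype.card Q : ℂ) * m lam)
    (q : Q) : f q = ∑ lam : Q →* ℂˣ, m lam * ((lam q : ℂˣ) : ℂ) := by
  have hn : (Fintype.card Q : ℂ) ≠ 0 := by exact_mod_cast Fintype.card_ne_zero
  apply mul_left_cancel₀ hn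
  rw [Finset.mul_sum]
  have h1 : ∀ lam : Q →* ℂˣ, (Fintype.card Q : ℂ) * (m lam * ((lam q : ℂˣ) : ℂ))
      = ∑ q' : Q, f q' * ((lam (q'⁻¹ * q) : ℂˣ) : ℂ) := by
    intro lam
    rw [← mul_assoc, ← hm lam, Finset.sum_mul]
    refine Finset.sum_congr rfl fun q' _ => ?_
    rw [linChar_conj, mul_assoc, ← Units.val_mul, ← map_mul]
  simp only [h1]
  rw [Finset.sum_comm]
  simp only [← Finset.mul_sum, sum_dual]
  rw [Finset.sum_eq_single q]
  · simp [mul_comm]
  · intro q' _ hq'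
    rw [if_neg, mul_zero]
    intro h
    exact hq' (inv_mul_eq_one.mp h)
  · intro h; exact absurd (Finset.mem_univ q) h

/-- Sums against a kernel supported on the orbits of a map of order three. -/
theorem sum_theta_mul {Q : Type*} [Fintype Q] [DecidableEq Q] (Θ : Q → Q → ℂ) (α : Q → Q) (n : ℂ)
    (q : Q) (h0 : Θ q q = n) (h1 : Θ q (α q) = n) (h2 : Θ q (α (α q)) = n)
    (hz : ∀ q', q' ≠ q → q' ≠ α q → q' ≠ α (α q) → Θ q q' = 0)
    (hd1 : α q ≠ q) (hd2 : α (α q) ≠ q) (hd3 : α (α q) ≠ α q) (F : Q → ℂ) :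
    ∑ q', Θ q q' * F q' = n * (F q + F (α q) + F (α (α q))) := by
  have hsub : ∑ q' ∈ ({q, α q, α (α q)} : Finset Q), Θ q q' * F q' = ∑ q', Θ q q' * F q' := by
    apply Finset.sum_subset (Finset.subset_univ _)
    intro q' _ hq'
    simp only [Finset.mem_insert, Finset.mem_singleton, not_or] at hq'
    rw [hz q' hq'.1 hq'.2.1 hq'.2.2, zero_mul]
  rw [← hsub, Finset.sum_insert (by
      simp only [Finset.mem_insert, Finset.mem_singleton, not_or]
      exact ⟨hd1.symm, hd2.symm⟩), Finset.sum_pair hd3.symm, h0, h1, h2]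
  ring

/-- **Exceptional characters for an abelian section with a fixed-point-free automorphism of order
three.**  Let `ι : Q →* G` be a homomorphism from a finite commutative group of order divisible by
`16`, `α` an automorphism of `Q` of order `3` without fixed points induced by conjugation in `G`,
and `T` a set of irreducible characters of `G` containing the principal character such that the
"column orthogonality relations" `H1`, `H3`, `H4` hold on `ι(Q)`.  If `Q` has an involution `q0` and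
a nontrivial linear character trivial on all involutions, then `T` contains a nonprincipal linear
character which is trivial on `ι(Q)`. -/
theorem exists_linear_of_section_data {G : Type u} [Group G] [Fintype G]
    {Q : Type v} [CommGroup Q] [Fintype Q] (hQ : 16 ∣ Fintype.card Q)
    (ι : Q →* G) (α : Q →* Q) (hα3 : ∀ q, α (α (α q)) = q) (hαfix : ∀ q, α q = q → q = 1)
    (hαconj : ∀ q, ∃ g : G, ι (α q) = g * ι q * g⁻¹)
    (T : Finset (Cfsg.IrrCharacter G)) (htriv : trivIrr G ∈ T)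
    (H1 : ∀ q : Q, q ≠ 1 →
      ∑ χ ∈ T, (χ : G → ℂ) (ι q) * conj ((χ : G → ℂ) (ι q)) = (Fintype.card Q : ℂ))
    (H3 : ∀ q q' : Q, q ≠ 1 → q' ≠ q → q' ≠ α q → q' ≠ α (α q) →
      ∑ χ ∈ T, (χ : G → ℂ) (ι q) * conj ((χ : G → ℂ) (ι q')) = 0)
    (q0 : Q) (hq0 : q0 * q0 = 1) (hq01 : q0 ≠ 1)
    (lam0 : Q →* ℂˣ) (hlam0 : lam0 ≠ 1) (hlam0' : ∀ q : Q, q * q = 1 → lam0 q = 1)
    (H4 : ∀ w : G, (w = 1 ∨ ∃ x : G, w = x * ι q0 * x⁻¹ * ι q0) → ∀ q : Q, q * q ≠ 1 →
      ∑ χ ∈ T, (χ : G → ℂ) w * conj ((χ : G → ℂ) (ι q)) = 0) :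
    ∃ Λ ∈ T, Λ ≠ trivIrr G ∧ (Λ : G → ℂ) 1 = 1 ∧ ∀ q : Q, (Λ : G → ℂ) (ι q) = 1 := by
  classical
  have := Fintype.ofFinite (Q →* ℂˣ)
  have := Fintype.ofFinite (Cfsg.IrrCharacter G)
  obtain ⟨n, hn⟩ : ∃ n : ℂ, n = (Fintype.card Q : ℂ) := ⟨_, rfl⟩
  have hn0 : n ≠ 0 := by rw [hn]; exact_mod_cast Fintype.card_ne_zero
  -- multiplicities
  choose m hm' using fun (χ : Cfsg.IrrCharacter G) (lam : Q →* ℂˣ) => exists_linMult χ ι lam
  have hm : ∀ (χ : Cfsg.IrrCharacter G) (lam : Q →* ℂˣ),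
      ∑ q : Q, (χ : G → ℂ) (ι q) * conj ((lam q : ℂˣ) : ℂ) = n * m χ lam := by
    intro χ lam; rw [hn]; exact hm' χ lam
  obtain ⟨dd, hdd⟩ : ∃ dd : Cfsg.IrrCharacter G → (Q →* ℂˣ) → ℤ,
      ∀ χ lam, dd χ lam = (m χ 1 : ℤ) - m χ lam := ⟨_, fun _ _ => rfl⟩
  have hdd1 : ∀ χ, dd χ 1 = 0 := fun χ => by rw [hdd, sub_self]
  have K0 : ∀ χ lam, n * (dd χ lam : ℂ)
      = ∑ q, (χ : G → ℂ) (ι q) * (1 - conj ((lam q : ℂˣ) : ℂ)) := by
    intro χ lam
    have h1 := hm χ 1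
    have h2 := hm χ lam
    simp only [MonoidHom.one_apply, Units.val_one, map_one, mul_one] at h1
    simp only [mul_sub, mul_one, Finset.sum_sub_distrib]
    rw [h1, h2, hdd]
    push_cast
    ring
  have K0' : ∀ χ lam, n * (dd χ lam : ℂ)
      = ∑ q, conj ((χ : G → ℂ) (ι q)) * (1 - ((lam q : ℂˣ) : ℂ)) := by
    intro χ lam
    have h := congrArg conj (K0 χ lam)
    rw [map_mul, map_sum, map_intCast, hn, map_natCast] at h
    rw [hn, h]
    refine Finset.sum_congr rfl fun q _ => ?_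
    rw [map_mul, map_sub, map_one, Complex.conj_conj]
  -- the action of `α`
  have hcl : ∀ (χ : Cfsg.IrrCharacter G) (q : Q), (χ : G → ℂ) (ι (α q)) = (χ : G → ℂ) (ι q) := by
    intro χ q
    obtain ⟨g, hg⟩ := hαconj q
    rw [hg, irr_conj]
  have hα1 : α 1 = 1 := map_one α
  have hd1 : ∀ q : Q, q ≠ 1 → α q ≠ q := fun q hq h => hq (hαfix q h)
  have hd2 : ∀ q : Q, q ≠ 1 → α (α q) ≠ q := by
    intro q hq h
    apply hd1 q hq
    have h1 := congrArg α h
    rw [hα3] at h1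
    exact h1.symm
  have hd3 : ∀ q : Q, q ≠ 1 → α (α q) ≠ α q := by
    intro q hq h
    have h1 := hαfix (α q) h
    apply hq
    have h2 := hα3 q
    rw [h1, hα1, hα1] at h2
    exact h2.symm
  -- composition of characters with `α`
  have hc3 : ∀ mu : Q →* ℂˣ, ((mu.comp α).comp α).comp α = mu := by
    intro mu
    ext q
    simp only [MonoidHom.comp_apply, hα3]
  have hcomp1 : ∀ mu : Q →* ℂˣ, mu.comp α = 1 → mu = 1 := by
    intro mu h
    have h1 := hc3 mu
    rw [h] at h1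
    rw [← h1]
    ext q
    simp
  have hF1 : ∀ mu : Q →* ℂˣ, mu ≠ 1 → mu.comp α ≠ mu := by
    intro mu hmu h
    apply hmu
    -- the map `q ↦ α q * q⁻¹` is injective, hence surjective
    have hinj : Function.Injective (fun q : Q => α q * q⁻¹) := by
      intro q r hqr
      have h1 : α (q * r⁻¹) = q * r⁻¹ := by
        rw [map_mul, map_inv]
        have h2 : α q * q⁻¹ = α r * r⁻¹ := hqr
        calc α q * (α r)⁻¹ = (α q * q⁻¹) * q * (α r)⁻¹ := by group
          _ = (α r * r⁻¹) * q * (α r)⁻¹ := by rw [h2]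
          _ = q * r⁻¹ := by
            rw [mul_inv_eq_iff_eq_mul, mul_comm (α r) r⁻¹, mul_comm (r⁻¹ * α r) q, mul_assoc]
      have h3 := hαfix _ h1
      exact mul_inv_eq_one.mp h3
    have hsurj : Function.Surjective (fun q : Q => α q * q⁻¹) := Finite.surjective_of_injective hinj
    ext q
    obtain ⟨r, hr⟩ := hsurj q
    have h4 : mu (α r) = mu r := by
      have := congrArg (fun f : Q →* ℂˣ => f r) h
      simpa using this
    have h5 : mu q = 1 := by
      rw [← hr]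
      show mu (α r * r⁻¹) = 1
      rw [map_mul, map_inv, h4, mul_inv_cancel]
    rw [h5]
    rfl
  have hF2 : ∀ mu : Q →* ℂˣ, mu ≠ 1 → (mu.comp α).comp α ≠ mu := by
    intro mu hmu h
    apply hF1 mu hmu
    have h1 := congrArg (fun f : Q →* ℂˣ => f.comp α) h
    simp only [hc3] at h1
    exact h1.symm
  have hF3 : ∀ mu : Q →* ℂˣ, mu ≠ 1 → (mu.comp α).comp α ≠ mu.comp α :=
    fun mu hmu => hF1 (mu.comp α) (fun h => hmu (hcomp1 mu h))
  -- the kernel `Θ`
  obtain ⟨Θ, hΘ⟩ : ∃ Θ : Q → Q → ℂ, ∀ q q',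
      Θ q q' = ∑ χ ∈ T, (χ : G → ℂ) (ι q) * conj ((χ : G → ℂ) (ι q')) := ⟨_, fun _ _ => rfl⟩
  have hΘ0 : ∀ q : Q, q ≠ 1 → Θ q q = n := by
    intro q hq; rw [hΘ, hn]; exact H1 q hq
  have hΘ1 : ∀ q : Q, q ≠ 1 → Θ q (α q) = n := by
    intro q hq
    rw [← hΘ0 q hq, hΘ, hΘ]
    simp only [hcl]
  have hΘ2 : ∀ q : Q, q ≠ 1 → Θ q (α (α q)) = n := by
    intro q hq
    rw [← hΘ0 q hq, hΘ, hΘ]
    simp only [hcl]
  -- the Gram matrix
  have hGram : ∀ lam mu : Q →* ℂˣ, lam ≠ 1 → mu ≠ 1 →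
      ∑ χ ∈ T, dd χ lam * dd χ mu = 3 + (if lam = mu then 1 else 0)
        + (if lam = mu.comp α then 1 else 0) + (if lam = (mu.comp α).comp α then 1 else 0) := by
    intro lam mu hlam hmu
    have hmu' : mu.comp α ≠ 1 := fun h => hmu (hcomp1 mu h)
    have hmu'' : (mu.comp α).comp α ≠ 1 := fun h => hmu' (hcomp1 _ h)
    have hA : n * n * ((∑ χ ∈ T, dd χ lam * dd χ mu : ℤ) : ℂ)
        = ∑ χ ∈ T, (∑ q, (χ : G → ℂ) (ι q) * (1 - conj ((lam q : ℂˣ) : ℂ)))
            * (∑ q', conj ((χ : G → ℂ) (ι q')) * (1 - ((mu q' : ℂˣ) : ℂ))) := by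
      push_cast
      rw [Finset.mul_sum]
      refine Finset.sum_congr rfl fun χ _ => ?_
      rw [← K0 χ lam, ← K0' χ mu]
      ring
    have hB : ∑ χ ∈ T, (∑ q, (χ : G → ℂ) (ι q) * (1 - conj ((lam q : ℂˣ) : ℂ)))
            * (∑ q', conj ((χ : G → ℂ) (ι q')) * (1 - ((mu q' : ℂˣ) : ℂ)))
        = ∑ q, (1 - conj ((lam q : ℂˣ) : ℂ)) * ∑ q', Θ q q' * (1 - ((mu q' : ℂˣ) : ℂ)) := by
      simp only [Finset.sum_mul_sum]
      rw [Finset.sum_comm]
      refine Finset.sum_congr rfl fun q _ => ?_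
      rw [Finset.sum_comm, Finset.mul_sum]
      refine Finset.sum_congr rfl fun q' _ => ?_
      rw [hΘ, Finset.sum_mul, Finset.mul_sum]
      refine Finset.sum_congr rfl fun χ _ => ?_
      ring
    have hC : ∀ q : Q, (1 - conj ((lam q : ℂˣ) : ℂ)) * ∑ q', Θ q q' * (1 - ((mu q' : ℂˣ) : ℂ))
        = (1 - conj ((lam q : ℂˣ) : ℂ)) * (n * ((1 - ((mu q : ℂˣ) : ℂ))
            + (1 - ((mu (α q) : ℂˣ) : ℂ)) + (1 - ((mu (α (α q)) : ℂˣ) : ℂ)))) := by
      intro q
      by_cases hq : q = 1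
      · rw [hq, map_one, Units.val_one, map_one, sub_self, zero_mul, zero_mul]
      · rw [sum_theta_mul Θ α n q (hΘ0 q hq) (hΘ1 q hq) (hΘ2 q hq)
          (fun q' h1 h2 h3 => by rw [hΘ]; exact H3 q q' hq h1 h2 h3) (hd1 q hq) (hd2 q hq)
          (hd3 q hq) (fun q' => 1 - ((mu q' : ℂˣ) : ℂ))]
    have hexp : ∀ q : Q, (1 - conj ((lam q : ℂˣ) : ℂ)) * (n * ((1 - ((mu q : ℂˣ) : ℂ))
            + (1 - ((mu (α q) : ℂˣ) : ℂ)) + (1 - ((mu (α (α q)) : ℂˣ) : ℂ))))
        = n * (3 - ((mu q : ℂˣ) : ℂ) - (((mu.comp α) q : ℂˣ) : ℂ)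
            - ((((mu.comp α).comp α) q : ℂˣ) : ℂ)
            - 3 * conj ((lam q : ℂˣ) : ℂ) + conj ((lam q : ℂˣ) : ℂ) * ((mu q : ℂˣ) : ℂ)
            + conj ((lam q : ℂˣ) : ℂ) * (((mu.comp α) q : ℂˣ) : ℂ)
            + conj ((lam q : ℂˣ) : ℂ) * ((((mu.comp α).comp α) q : ℂˣ) : ℂ)) := by
      intro q
      simp only [MonoidHom.comp_apply]
      ring
    have key : n * n * ((∑ χ ∈ T, dd χ lam * dd χ mu : ℤ) : ℂ)
        = n * n * (3 + (if lam = mu then 1 else 0) + (if lam = mu.comp α then 1 else 0)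
            + (if lam = (mu.comp α).comp α then 1 else 0)) := by
      rw [hA, hB]
      simp only [hC, hexp]
      rw [← Finset.mul_sum]
      simp only [Finset.sum_add_distrib, Finset.sum_sub_distrib, ← Finset.mul_sum, sum_linChar,
        sum_linChar_conj, sum_linChar_conj_mul, if_neg hlam, if_neg hmu, if_neg hmu',
        if_neg hmu'', Finset.sum_const, Finset.card_univ, nsmul_eq_mul, ← hn]
      split_ifs <;> ring
    have h1 := mul_left_cancel₀ (mul_ne_zero hn0 hn0) key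
    have h2 : ((∑ χ ∈ T, dd χ lam * dd χ mu : ℤ) : ℂ)
        = ((3 + (if lam = mu then 1 else 0) + (if lam = mu.comp α then 1 else 0)
            + (if lam = (mu.comp α).comp α then 1 else 0) : ℤ) : ℂ) := by
      rw [h1]
      push_cast
      rfl
    exact_mod_cast h2
  -- the principal character
  have hddtriv : ∀ lam : Q →* ℂˣ, lam ≠ 1 → dd (trivIrr G) lam = 1 := by
    intro lam hlam
    have h1 := hm (trivIrr G) 1
    have h2 := hm (trivIrr G) lam
    simp only [trivIrr_apply, one_mul, MonoidHom.one_apply, Units.val_one, map_one,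
      Finset.sum_const, Finset.card_univ, nsmul_eq_mul, mul_one] at h1
    simp only [trivIrr_apply, one_mul] at h2
    rw [sum_linChar_conj, if_neg hlam] at h2
    rw [← hn] at h1
    have h3 : (m (trivIrr G) 1 : ℂ) = 1 :=
      (mul_left_cancel₀ hn0 (h1.symm.trans (mul_one n).symm))
    have h4 : (m (trivIrr G) lam : ℂ) = 0 := by
      rcases mul_eq_zero.mp h2.symm with h | h
      · exact absurd h hn0
      · exact h
    have h3' : m (trivIrr G) 1 = 1 := by exact_mod_cast h3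
    have h4' : m (trivIrr G) lam = 0 := by exact_mod_cast h4
    rw [hdd, h3', h4']
    norm_num
  -- the matrix without the principal character
  obtain ⟨d', hd'⟩ : ∃ d' : Cfsg.IrrCharacter G → {lam : Q →* ℂˣ // lam ≠ 1} → ℤ,
      ∀ χ i, d' χ i = if χ ∈ T ∧ χ ≠ trivIrr G then dd χ i.1 else 0 := ⟨_, fun _ _ => rfl⟩
  have hsumd' : ∀ i j : {lam : Q →* ℂˣ // lam ≠ 1},
      ∑ χ : Cfsg.IrrCharacter G, d' χ i * d' χ j = (∑ χ ∈ T, dd χ i.1 * dd χ j.1) - 1 := by
    intro i j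
    have h1 : ∀ χ : Cfsg.IrrCharacter G, d' χ i * d' χ j
        = if χ ∈ T.erase (trivIrr G) then dd χ i.1 * dd χ j.1 else 0 := by
      intro χ
      rw [hd', hd']
      by_cases h : χ ∈ T ∧ χ ≠ trivIrr G
      · rw [if_pos h, if_pos h, if_pos (Finset.mem_erase.mpr ⟨h.2, h.1⟩)]
      · rw [if_neg h, if_neg h, if_neg (fun h' => h ⟨(Finset.mem_erase.mp h').2,
          (Finset.mem_erase.mp h').1⟩), zero_mul]
    simp only [h1]
    rw [Finset.sum_ite_mem, Finset.univ_inter, Finset.sum_erase_eq_sub htriv, hddtriv _ i.2,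
      hddtriv _ j.2]
    ring
  have hgramd' : ∀ i j : {lam : Q →* ℂˣ // lam ≠ 1},
      ∑ χ : Cfsg.IrrCharacter G, d' χ i * d' χ j
        = 2 + (if i.1 = j.1 then 1 else 0) + (if i.1 = j.1.comp α then 1 else 0)
          + (if i.1 = (j.1.comp α).comp α then 1 else 0) := by
    intro i j
    rw [hsumd', hGram i.1 j.1 i.2 j.2]
    ring
  have hnorm : ∀ i : {lam : Q →* ℂˣ // lam ≠ 1}, ∑ χ : Cfsg.IrrCharacter G, d' χ i ^ 2 = 3 := by
    intro i
    simp only [pow_two]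
    rw [hgramd', if_pos rfl, if_neg (hF1 i.1 i.2).symm, if_neg (hF2 i.1 i.2).symm]
    norm_num
  have hgram : ∀ i j : {lam : Q →* ℂˣ // lam ≠ 1},
      ∑ χ : Cfsg.IrrCharacter G, d' χ i * d' χ j = 2 ∨
        ∑ χ : Cfsg.IrrCharacter G, d' χ i * d' χ j = 3 := by
    intro i j
    rw [hgramd']
    by_cases h1 : i.1 = j.1
    · rw [if_pos h1, h1, if_neg (hF1 j.1 j.2).symm, if_neg (hF2 j.1 j.2).symm]
      right; rfl
    · rw [if_neg h1]
      by_cases h2 : i.1 = j.1.comp α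
      · rw [if_pos h2, h2, if_neg (hF3 j.1 j.2).symm]
        right; rfl
      · rw [if_neg h2]
        by_cases h3 : i.1 = (j.1.comp α).comp α
        · rw [if_pos h3]; right; rfl
        · rw [if_neg h3]; left; rfl
  have hrel3 : ∀ i j : {lam : Q →* ℂˣ // lam ≠ 1},
      ∑ χ : Cfsg.IrrCharacter G, d' χ i * d' χ j = 3 →
        j.1 = i.1 ∨ j.1 = (i.1.comp α).comp α ∨ j.1 = i.1.comp α := by
    intro i j h
    rw [hgramd'] at h
    by_cases h1 : i.1 = j.1
    · exact Or.inl h1.symm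
    · rw [if_neg h1] at h
      by_cases h2 : i.1 = j.1.comp α
      · right; left
        rw [h2, hc3]
      · rw [if_neg h2] at h
        by_cases h3 : i.1 = (j.1.comp α).comp α
        · right; right
          rw [h3, hc3]
        · rw [if_neg h3] at h
          norm_num at h
  have hrel3' : ∀ i j : {lam : Q →* ℂˣ // lam ≠ 1},
      (j.1 = i.1 ∨ j.1 = (i.1.comp α).comp α ∨ j.1 = i.1.comp α) →
        ∑ χ : Cfsg.IrrCharacter G, d' χ i * d' χ j = 3 := by
    rintro ⟨mu, hmu⟩ ⟨lam, hlam⟩ h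
    rw [hgramd']
    simp only at h ⊢
    rcases h with rfl | rfl | rfl
    · rw [if_pos rfl, if_neg (hF1 lam hlam).symm, if_neg (hF2 lam hlam).symm]
      norm_num
    · rw [hc3, if_pos rfl, if_neg (hF2 mu hmu).symm, if_neg (hF1 mu hmu).symm]
      norm_num
    · rw [hc3, if_pos rfl, if_neg (hF1 mu hmu).symm, if_neg (hF2 mu hmu).symm]
      norm_num
  have hfib : ∀ (i : {lam : Q →* ℂˣ // lam ≠ 1}) (F : Finset {lam : Q →* ℂˣ // lam ≠ 1}),
      (∀ j ∈ F, ∑ χ : Cfsg.IrrCharacter G, d' χ i * d' χ j = 3) → F.card ≤ 3 := by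
    intro i F hF
    have h1 : F.image Subtype.val ⊆ {i.1, (i.1.comp α).comp α, i.1.comp α} := by
      intro lam hlam
      obtain ⟨j, hj, rfl⟩ := Finset.mem_image.mp hlam
      simp only [Finset.mem_insert, Finset.mem_singleton]
      exact hrel3 i j (hF j hj)
    have h2 := Finset.card_le_card h1
    rw [Finset.card_image_of_injective _ Subtype.val_injective] at h2
    exact h2.trans Finset.card_le_three
  have hI : 13 ≤ Fintype.card {lam : Q →* ℂˣ // lam ≠ 1} := by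
    have h1 : Fintype.card {lam : Q →* ℂˣ // lam ≠ 1} = Fintype.card (Q →* ℂˣ) - 1 := by
      rw [Fintype.card_subtype_compl, Fintype.card_subtype_eq]
    have h2 : Fintype.card (Q →* ℂˣ) = Fintype.card Q := by
      rw [← Nat.card_eq_fintype_card, card_linChar]
    have h3 : 16 ≤ Fintype.card Q := Nat.le_of_dvd Fintype.card_pos hQ
    omega
  obtain ⟨a, b, hab, sa, sb, hsa, hsb, hda, hdb, hcol⟩ := coherence d' hnorm hgram hfib hI
  obtain ⟨i0, hi0⟩ : ∃ i0 : {lam : Q →* ℂˣ // lam ≠ 1}, i0.1 = lam0 := ⟨⟨lam0, hlam0⟩, rfl⟩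
  obtain ⟨c, hca, hcb, hct, hcz, hcj⟩ := hcol i0
  obtain ⟨t, ht⟩ : ∃ t : ℤ, t = d' c i0 := ⟨_, rfl⟩
  rw [← ht] at hct hcj
  -- membership
  have hmemT : ∀ (χ : Cfsg.IrrCharacter G) (i : {lam : Q →* ℂˣ // lam ≠ 1}), d' χ i ≠ 0 →
      (χ ∈ T ∧ χ ≠ trivIrr G) ∧ d' χ i = dd χ i.1 := by
    intro χ i h
    rw [hd'] at h ⊢
    by_cases h1 : χ ∈ T ∧ χ ≠ trivIrr G
    · exact ⟨h1, by rw [if_pos h1]⟩
    · rw [if_neg h1] at h
      exact absurd rfl h
  have hsa0 : sa ≠ 0 := by rcases hsa with h | h <;> rw [h] <;> norm_num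
  have hsb0 : sb ≠ 0 := by rcases hsb with h | h <;> rw [h] <;> norm_num
  have ht0 : t ≠ 0 := by rcases hct with h | h <;> rw [h] <;> norm_num
  have haT : a ∈ T ∧ a ≠ trivIrr G := (hmemT a i0 (by rw [hda]; exact hsa0)).1
  have hbT : b ∈ T ∧ b ≠ trivIrr G := (hmemT b i0 (by rw [hdb]; exact hsb0)).1
  have hcT : c ∈ T ∧ c ≠ trivIrr G := (hmemT c i0 (by rw [← ht]; exact ht0)).1
  have hdda : ∀ lam : Q →* ℂˣ, lam ≠ 1 → dd a lam = sa := by
    intro lam hlam
    rw [← hda ⟨lam, hlam⟩, hd', if_pos haT]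
  have hddb : ∀ lam : Q →* ℂˣ, lam ≠ 1 → dd b lam = sb := by
    intro lam hlam
    rw [← hdb ⟨lam, hlam⟩, hd', if_pos hbT]
  have hddc : ∀ lam : Q →* ℂˣ, dd c lam = t * ((if lam = lam0 then 1 else 0)
      + (if lam = (lam0.comp α).comp α then 1 else 0) + (if lam = lam0.comp α then 1 else 0)) := by
    intro lam
    have hl1 : lam0.comp α ≠ 1 := fun h => hlam0 (hcomp1 lam0 h)
    have hl2 : (lam0.comp α).comp α ≠ 1 := fun h => hl1 (hcomp1 _ h)
    by_cases hlam : lam = 1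
    · rw [hlam, hdd1, if_neg (Ne.symm hlam0), if_neg (Ne.symm hl2), if_neg (Ne.symm hl1)]
      ring
    · have h1 : dd c lam = d' c ⟨lam, hlam⟩ := by rw [hd', if_pos hcT]
      rw [h1, hcj ⟨lam, hlam⟩]
      by_cases h3 : ∑ χ : Cfsg.IrrCharacter G, d' χ i0 * d' χ ⟨lam, hlam⟩ = 3
      · rw [if_pos h3]
        rcases hrel3 i0 ⟨lam, hlam⟩ h3 with h | h | h
        · have h' : lam = lam0 := by rw [← hi0]; exact h
          rw [if_pos h', h', if_neg (hF2 lam0 hlam0).symm, if_neg (hF1 lam0 hlam0).symm]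
          ring
        · have h' : lam = (lam0.comp α).comp α := by rw [← hi0]; exact h
          rw [if_pos h', h', if_neg (hF2 lam0 hlam0), if_neg (hF3 lam0 hlam0)]
          ring
        · have h' : lam = lam0.comp α := by rw [← hi0]; exact h
          rw [if_pos h', h', if_neg (hF1 lam0 hlam0), if_neg (hF3 lam0 hlam0).symm]
          ring
      · rw [if_neg h3]
        have h4 : lam ≠ lam0 := fun h =>
          h3 (hrel3' i0 ⟨lam, hlam⟩ (Or.inl (by rw [hi0]; exact h)))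
        have h5 : lam ≠ (lam0.comp α).comp α := fun h =>
          h3 (hrel3' i0 ⟨lam, hlam⟩ (Or.inr (Or.inl (by rw [hi0]; exact h))))
        have h6 : lam ≠ lam0.comp α := fun h =>
          h3 (hrel3' i0 ⟨lam, hlam⟩ (Or.inr (Or.inr (by rw [hi0]; exact h))))
        rw [if_neg h4, if_neg h5, if_neg h6]
        ring
  have hddc0 : dd c lam0 = t := by
    rw [ht, hd', if_pos hcT, hi0]
  -- Fourier inversion
  obtain ⟨S, hS⟩ : ∃ S : Q → ℂ, ∀ q, S q = if q = 1 then n else 0 := ⟨_, fun _ => rfl⟩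
  have hFI : ∀ (χ : Cfsg.IrrCharacter G) (q : Q), (χ : G → ℂ) (ι q)
      = (m χ 1 : ℂ) * S q - ∑ lam : Q →* ℂˣ, (dd χ lam : ℂ) * ((lam q : ℂˣ) : ℂ) := by
    intro χ q
    rw [fourier_inversion (fun q => (χ : G → ℂ) (ι q)) (fun lam => (m χ lam : ℂ))
      (fun lam => hm' χ lam) q]
    have h1 : ∀ lam : Q →* ℂˣ, (m χ lam : ℂ) * ((lam q : ℂˣ) : ℂ)
        = (m χ 1 : ℂ) * ((lam q : ℂˣ) : ℂ) - (dd χ lam : ℂ) * ((lam q : ℂˣ) : ℂ) := by
      intro lam
      rw [hdd]; push_cast; ring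
    simp only [h1, Finset.sum_sub_distrib, ← Finset.mul_sum]
    rw [sum_dual, hS, hn]
  have hvalconst : ∀ (χ : Cfsg.IrrCharacter G) (s : ℤ),
      (∀ lam : Q →* ℂˣ, lam ≠ 1 → dd χ lam = s) →
      ∀ q : Q, (χ : G → ℂ) (ι q) = ((m χ 1 : ℂ) - s) * S q + s := by
    intro χ s hs q
    rw [hFI]
    have h1 : ∀ lam : Q →* ℂˣ, (dd χ lam : ℂ) * ((lam q : ℂˣ) : ℂ)
        = (s : ℂ) * ((lam q : ℂˣ) : ℂ) - (if lam = 1 then (s : ℂ) else 0) := by
      intro lam
      by_cases hlam : lam = 1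
      · rw [hlam, hdd1, if_pos rfl]; simp
      · rw [hs lam hlam, if_neg hlam, sub_zero]
    simp only [h1, Finset.sum_sub_distrib, ← Finset.mul_sum, Finset.sum_ite_eq', Finset.mem_univ,
      if_true]
    rw [sum_dual, hS, hn]
    ring
  have hvalc : ∀ q : Q, (c : G → ℂ) (ι q) = (m c 1 : ℂ) * S q
      - (t : ℂ) * (((lam0 q : ℂˣ) : ℂ) + ((lam0 (α (α q)) : ℂˣ) : ℂ)
          + ((lam0 (α q) : ℂˣ) : ℂ)) := by
    intro q
    rw [hFI]
    congr 1
    have h1 : ∀ lam : Q →* ℂˣ, (dd c lam : ℂ) * ((lam q : ℂˣ) : ℂ)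
        = (t : ℂ) * ((if lam = lam0 then ((lam q : ℂˣ) : ℂ) else 0)
          + (if lam = (lam0.comp α).comp α then ((lam q : ℂˣ) : ℂ) else 0)
          + (if lam = lam0.comp α then ((lam q : ℂˣ) : ℂ) else 0)) := by
      intro lam
      rw [hddc]
      push_cast
      split_ifs <;> ring
    simp only [h1, ← Finset.mul_sum, Finset.sum_add_distrib, Finset.sum_ite_eq', Finset.mem_univ,
      if_true, MonoidHom.comp_apply]
  -- values
  have hSq : ∀ q : Q, q ≠ 1 → S q = 0 := fun q hq => by rw [hS, if_neg hq]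
  have hS1 : S 1 = n := by rw [hS, if_pos rfl]
  have hau : ∀ q : Q, q ≠ 1 → (a : G → ℂ) (ι q) = sa := by
    intro q hq
    rw [hvalconst a sa hdda q, hSq q hq, mul_zero, zero_add]
  have hbu : ∀ q : Q, q ≠ 1 → (b : G → ℂ) (ι q) = sb := by
    intro q hq
    rw [hvalconst b sb hddb q, hSq q hq, mul_zero, zero_add]
  obtain ⟨N, hN⟩ : ∃ N : ℤ, N = (Fintype.card Q : ℤ) := ⟨_, rfl⟩
  have hNn : (N : ℂ) = n := by rw [hN, hn]; push_cast; rfl
  obtain ⟨la, hla⟩ : ∃ la : ℤ, la = ((m a 1 : ℤ) - sa) * N + sa := ⟨_, rfl⟩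
  obtain ⟨lb, hlb⟩ : ∃ lb : ℤ, lb = ((m b 1 : ℤ) - sb) * N + sb := ⟨_, rfl⟩
  obtain ⟨f, hf⟩ : ∃ f : ℤ, f = (m c 1 : ℤ) * N - 3 * t := ⟨_, rfl⟩
  have ha1 : (a : G → ℂ) 1 = (la : ℂ) := by
    have h := hvalconst a sa hdda 1
    rw [map_one, hS1] at h
    rw [h, hla, ← hNn]
    push_cast
    ring
  have hb1 : (b : G → ℂ) 1 = (lb : ℂ) := by
    have h := hvalconst b sb hddb 1
    rw [map_one, hS1] at h
    rw [h, hlb, ← hNn]
    push_cast
    ring
  have hc1 : (c : G → ℂ) 1 = (f : ℂ) := by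
    have h := hvalc 1
    rw [map_one, hS1] at h
    rw [h, hf, ← hNn]
    simp only [map_one, Units.val_one]
    push_cast
    ring
  have hcu : (c : G → ℂ) (ι q0) = -3 * (t : ℂ) := by
    have h1 : α q0 * α q0 = 1 := by rw [← map_mul, hq0, map_one]
    have h2 : α (α q0) * α (α q0) = 1 := by rw [← map_mul, h1, map_one]
    rw [hvalc q0, hSq q0 hq01, hlam0' q0 hq0, hlam0' _ h1, hlam0' _ h2]
    simp only [Units.val_one]
    ring
  have hpos : ∀ (χ : Cfsg.IrrCharacter G) (l : ℤ), (χ : G → ℂ) 1 = (l : ℂ) → 1 ≤ l := by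
    intro χ l h
    rw [irr_one_eq_charDegree] at h
    have h1 : ((Cfsg.charDegree (χ : G → ℂ) : ℤ) : ℂ) = (l : ℂ) := by
      rw [← h]; push_cast; rfl
    have h2 : (Cfsg.charDegree (χ : G → ℂ) : ℤ) = l := by exact_mod_cast h1
    have h3 := charDegree_pos χ
    omega
  have hla1 : 1 ≤ la := hpos a la ha1
  have hlb1 : 1 ≤ lb := hpos b lb hb1
  have hf1 : 1 ≤ f := hpos c f hc1
  -- the generalized character attached to `lam0`
  have hD : ∀ w : G, ∑ χ ∈ T, (dd χ lam0 : ℂ) * (χ : G → ℂ) w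
      = 1 + (sa : ℂ) * (a : G → ℂ) w + (sb : ℂ) * (b : G → ℂ) w + (t : ℂ) * (c : G → ℂ) w := by
    intro w
    rw [← Finset.add_sum_erase T _ htriv, hddtriv lam0 hlam0, trivIrr_apply]
    have h1 : ∑ χ ∈ T.erase (trivIrr G), (dd χ lam0 : ℂ) * (χ : G → ℂ) w
        = ∑ χ ∈ ({a, b, c} : Finset (Cfsg.IrrCharacter G)), (dd χ lam0 : ℂ) * (χ : G → ℂ) w := by
      symm
      apply Finset.sum_subset
      · intro χ hχ
        simp only [Finset.mem_insert, Finset.mem_singleton] at hχ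
        rcases hχ with rfl | rfl | rfl
        · exact Finset.mem_erase.mpr ⟨haT.2, haT.1⟩
        · exact Finset.mem_erase.mpr ⟨hbT.2, hbT.1⟩
        · exact Finset.mem_erase.mpr ⟨hcT.2, hcT.1⟩
      · intro χ hχ hχ'
        simp only [Finset.mem_insert, Finset.mem_singleton, not_or] at hχ'
        have h2 := hcz χ hχ'.1 hχ'.2.1 hχ'.2.2
        rw [hd', if_pos ⟨(Finset.mem_erase.mp hχ).2, (Finset.mem_erase.mp hχ).1⟩, hi0] at h2
        rw [h2]
        simp
    rw [h1, Finset.sum_insert (by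
        simp only [Finset.mem_insert, Finset.mem_singleton, not_or]
        exact ⟨hab, hca.symm⟩), Finset.sum_pair hcb.symm,
      hdda lam0 hlam0, hddb lam0 hlam0, hddc0]
    push_cast
    ring
  have hDzero : ∀ w : G, (w = 1 ∨ ∃ x : G, w = x * ι q0 * x⁻¹ * ι q0) →
      ∑ χ ∈ T, (dd χ lam0 : ℂ) * (χ : G → ℂ) w = 0 := by
    intro w hw
    apply mul_left_cancel₀ hn0
    rw [mul_zero, Finset.mul_sum]
    have h1 : ∀ χ ∈ T, n * ((dd χ lam0 : ℂ) * (χ : G → ℂ) w)
        = ∑ q, (1 - ((lam0 q : ℂˣ) : ℂ)) * ((χ : G → ℂ) w * conj ((χ : G → ℂ) (ι q))) := by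
      intro χ _
      rw [← mul_assoc, K0', Finset.sum_mul]
      refine Finset.sum_congr rfl fun q _ => ?_
      ring
    rw [Finset.sum_congr rfl h1, Finset.sum_comm]
    apply Finset.sum_eq_zero
    intro q _
    rw [← Finset.mul_sum]
    by_cases hq : q * q = 1
    · rw [hlam0' q hq, Units.val_one, sub_self, zero_mul]
    · rw [H4 w hw q hq, mul_zero]
  -- the two equations
  have hsa2 : (sa : ℂ) * sa = 1 := by
    rcases hsa with h | h <;> rw [h] <;> norm_num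
  have hsb2 : (sb : ℂ) * sb = 1 := by
    rcases hsb with h | h <;> rw [h] <;> norm_num
  have ht2 : (t : ℂ) * t = 1 := by
    rcases hct with h | h <;> rw [h] <;> norm_num
  have hE1 : 1 + sa * la + sb * lb + t * f = 0 := by
    have h := hD 1
    rw [hDzero 1 (Or.inl rfl), ha1, hb1, hc1] at h
    exact_mod_cast h.symm
  have hlaC : (la : ℂ) ≠ 0 := by
    have : la ≠ 0 := by omega
    exact_mod_cast this
  have hlbC : (lb : ℂ) ≠ 0 := by
    have : lb ≠ 0 := by omega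
    exact_mod_cast this
  have hfC : (f : ℂ) ≠ 0 := by
    have : f ≠ 0 := by omega
    exact_mod_cast this
  have hE3 : la * lb * f + sa * lb * f + sb * la * f + 9 * t * la * lb = 0 := by
    have h1 : ∑ x : G, ∑ χ ∈ T, (dd χ lam0 : ℂ) * (χ : G → ℂ) (x * ι q0 * x⁻¹ * ι q0) = 0 :=
      Finset.sum_eq_zero fun x _ => hDzero _ (Or.inr ⟨x, rfl⟩)
    simp only [hD, Finset.sum_add_distrib, ← Finset.mul_sum, Helper80.irr_sum_conj_mul,
      Finset.sum_const, Finset.card_univ, nsmul_eq_mul, mul_one, hau q0 hq01, hbu q0 hq01, hcu,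
      ha1, hb1, hc1] at h1
    have hG0 : (Fintype.card G : ℂ) ≠ 0 := by exact_mod_cast Fintype.card_ne_zero
    have h2 : (1 : ℂ) + sa * (sa * sa / la) + sb * (sb * sb / lb)
        + t * ((-3 * t) * (-3 * t) / f) = 0 := by
      apply mul_left_cancel₀ hG0
      rw [mul_zero, ← h1]
      ring
    have h3 : (-3 * (t : ℂ)) * (-3 * t) = 9 := by linear_combination 9 * ht2
    rw [hsa2, hsb2, h3] at h2
    have h4 : ((la * lb * f + sa * lb * f + sb * la * f + 9 * t * la * lb : ℤ) : ℂ) = 0 := by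
      push_cast
      field_simp at h2
      linear_combination h2
    exact_mod_cast h4
  -- arithmetic
  have hsa2' : sa * sa = 1 := by rcases hsa with h | h <;> rw [h] <;> norm_num
  have hsb2' : sb * sb = 1 := by rcases hsb with h | h <;> rw [h] <;> norm_num
  have ht2' : t * t = 1 := by rcases hct with h | h <;> rw [h] <;> norm_num
  obtain ⟨x, hx⟩ : ∃ x : ℤ, x = sa * la := ⟨_, rfl⟩
  obtain ⟨y, hy⟩ : ∃ y : ℤ, y = sb * lb := ⟨_, rfl⟩
  obtain ⟨z, hz⟩ : ∃ z : ℤ, z = t * f := ⟨_, rfl⟩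
  have hlax : la = sa * x := by rw [hx, ← mul_assoc, hsa2', one_mul]
  have hlby : lb = sb * y := by rw [hy, ← mul_assoc, hsb2', one_mul]
  have hfz : f = t * z := by rw [hz, ← mul_assoc, ht2', one_mul]
  have hxyz1 : 1 + x + y + z = 0 := by rw [hx, hy, hz]; exact hE1
  have hxyz2 : x * y * z + y * z + x * z + 9 * x * y = 0 := by
    have h1 : sa * sb * t * (x * y * z + y * z + x * z + 9 * x * y) = 0 := by
      rw [hlax, hlby, hfz] at hE3
      linear_combination hE3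
    have h2 : sa * sb * t ≠ 0 := mul_ne_zero (mul_ne_zero hsa0 hsb0) ht0
    exact (mul_eq_zero.mp h1).resolve_left h2
  have h16 : (16 : ℤ) ∣ N := by rw [hN]; exact_mod_cast hQ
  have hx16 : (16 : ℤ) ∣ x - 1 := by
    have e : x - 1 = sa * ((m a 1 : ℤ) - sa) * N + (sa * sa - 1) := by rw [hx, hla]; ring
    rw [e, hsa2', sub_self, add_zero]
    exact Dvd.dvd.mul_left h16 _
  have hy16 : (16 : ℤ) ∣ y - 1 := by
    have e : y - 1 = sb * ((m b 1 : ℤ) - sb) * N + (sb * sb - 1) := by rw [hy, hlb]; ring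
    rw [e, hsb2', sub_self, add_zero]
    exact Dvd.dvd.mul_left h16 _
  have hfinal : (1 + x + y) * (x * y + x + y) = 9 * (x * y) := by
    have hz' : z = -(1 + x + y) := by linarith
    rw [hz'] at hxyz2
    linear_combination -hxyz2
  obtain ⟨hx1, -⟩ := arith_homocyclic x y hx16 hy16 hfinal
  -- conclusion
  have hsa1 : sa = 1 := by
    rcases hsa with h | h
    · exact h
    · exfalso
      rw [hx1, h] at hx
      omega
  have hla' : la = 1 := by
    rw [hx1, hsa1, one_mul] at hx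
    exact hx.symm
  refine ⟨a, haT.1, haT.2, ?_, ?_⟩
  · rw [ha1, hla']; norm_num
  · intro q
    by_cases hq : q = 1
    · rw [hq, map_one, ha1, hla']; norm_num
    · rw [hau q hq, hsa1]; norm_num

end Cfsg.Agent.Helper81
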