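import Cfsg.Agent.Helper81.SectionSum
import Mathlib.GroupTheory.SpecificGroups.KleinFour
import Mathlib.GroupTheory.Transfer

/-!
# The principal `2`-block of a group with a Klein four Sylow `2`-subgroup

Support lemmas: sums of a character over a subgroup, integrality at involutions, Burnside's
normal `p`-complement in terms of `Cfsg.pPrimeCore`, non-vanishing of principal block characters
at `p`-central elements.
-/

set_option autoImplicit false
open Cfsg
open scoped ComplexConjugate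

namespace Cfsg.Agent.Helper81

universe u

variable {G : Type u} [Group G]

/-- The sum of an irreducible character over a subgroup `Q` is `|Q|` times a natural number (the
multiplicity of the principal character of `Q` in the restriction). -/
theorem exists_nat_sum_subgroup [Finite G] (χ : Cfsg.IrrCharacter G) (Q : Subgroup G) [Fintype Q] :
    ∃ m : ℕ, ∑ x : Q, (χ : G → ℂ) x = (Nat.card Q : ℂ) * m := by
  classical
  have := Fintype.ofFinite (Cfsg.IrrCharacter Q)
  obtain ⟨n, ρ, -, hχ⟩ := χ.2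
  obtain ⟨σ, hσdef⟩ : ∃ σ : Representation ℂ Q (Fin n → ℂ), σ = ρ.comp Q.subtype := ⟨_, rfl⟩
  have hσ : ∀ x : Q, σ.character x = (χ : G → ℂ) x := by
    intro x
    rw [← hχ, hσdef]
    rfl
  obtain ⟨m, hm⟩ := exists_mult_of_mem_natSpanIrr (character_mem_natSpanIrr σ)
  refine ⟨m (trivIrr Q), ?_⟩
  have h1 := mult_eq_innerInv (fun θ : Cfsg.IrrCharacter Q => (m θ : ℂ)) (trivIrr Q)
  rw [← hm, innerInv] at h1
  simp only [trivIrr_apply, mul_one, hσ] at h1
  have hcard : (Nat.card Q : ℂ) ≠ 0 := by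
    have : 0 < Nat.card Q := Nat.card_pos
    exact_mod_cast this.ne'
  rw [← h1, ← mul_assoc, mul_inv_cancel₀ hcard, one_mul]

/-- An irreducible character takes integer values at involutions. -/
theorem irr_involution_int [Finite G] (χ : Cfsg.IrrCharacter G) {z : G} (hz : orderOf z = 2) :
    ∃ k : ℤ, (χ : G → ℂ) z = k := by
  classical
  have : Fintype (Subgroup.zpowers z) := Fintype.ofFinite _
  obtain ⟨m, hm⟩ := exists_nat_sum_subgroup χ (Subgroup.zpowers z)
  have hcard : Nat.card (Subgroup.zpowers z) = 2 := by rw [Nat.card_zpowers, hz]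
  have hsum : ∑ x : Subgroup.zpowers z, (χ : G → ℂ) x = (χ : G → ℂ) 1 + (χ : G → ℂ) z := by
    have hz1 : z ≠ 1 := by
      intro h
      rw [h, orderOf_one] at hz
      exact absurd hz (by norm_num)
    obtain ⟨z', hz'⟩ : ∃ z' : Subgroup.zpowers z, (z' : G) = z := ⟨⟨z, Subgroup.mem_zpowers z⟩, rfl⟩
    have hne : (1 : Subgroup.zpowers z) ≠ z' := by
      intro h
      apply hz1
      rw [← hz', ← h]
      rfl
    have huniv : ({1, z'} : Finset (Subgroup.zpowers z)) = Finset.univ := by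
      apply Finset.eq_univ_of_card
      rw [Finset.card_pair hne, ← Nat.card_eq_fintype_card, hcard]
    rw [← huniv, Finset.sum_pair hne, hz']
    rfl
  rw [hsum, hcard, irr_one_eq_charDegree] at hm
  refine ⟨2 * m - Cfsg.charDegree (χ : G → ℂ), ?_⟩
  push_cast
  linear_combination hm

/-- **Burnside's normal `p`-complement theorem**, in terms of `Cfsg.pPrimeCore`. -/
theorem exists_index_pPrimeCore_of_normalizer_le [Finite G] {p : ℕ} [Fact p.Prime] (Q : Sylow p G)
    (hQ : Subgroup.normalizer ((Q : Subgroup G) : Set G) ≤ Subgroup.centralizer (Q : Set G)) :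
    ∃ k : ℕ, (Cfsg.pPrimeCore p G).index = p ^ k := by
  have hp : p.Prime := Fact.out
  have hc := MonoidHom.ker_transferSylow_isComplement' Q hQ
  have hnd := MonoidHom.not_dvd_card_ker_transferSylow Q hQ
  have hle : (MonoidHom.transferSylow Q hQ).ker ≤ Cfsg.pPrimeCore p G :=
    Helper76.le_pPrimeCore _ inferInstance ((Nat.Prime.coprime_iff_not_dvd hp).mpr hnd).symm
  have hidx : (MonoidHom.transferSylow Q hQ).ker.index = Nat.card Q := hc.symm.index_eq_card
  obtain ⟨n, hn⟩ := IsPGroup.iff_card.mp Q.isPGroup'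
  have hdvd := Subgroup.index_dvd_of_le hle
  rw [hidx] at hdvd
  have hdvd' : (Cfsg.pPrimeCore p G).index ∣ p ^ n := by
    rw [← hn]; exact hdvd
  obtain ⟨k, -, hk⟩ := (Nat.dvd_prime_pow hp).mp hdvd'
  exact ⟨k, hk⟩

/-- A Klein four Sylow `2`-subgroup containing a central involution is central in its
normalizer. -/
theorem normalizer_le_centralizer_of_klein [Finite G] (Q : Sylow 2 G)
    (hcard : Nat.card (Q : Subgroup G) = 4) (hexp : ∀ x ∈ (Q : Subgroup G), x * x = 1) (z : G)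
    (hzQ : z ∈ (Q : Subgroup G)) (hz1 : z ≠ 1) (hzc : ∀ g : G, g * z = z * g) :
    Subgroup.normalizer ((Q : Subgroup G) : Set G) ≤ Subgroup.centralizer (Q : Set G) := by
  classical
  have : Fintype (Q : Subgroup G) := Fintype.ofFinite _
  intro n hn
  rw [Subgroup.mem_centralizer_iff]
  intro a ha
  have ha' : a ∈ (Q : Subgroup G) := ha
  have hinv : ∀ x ∈ (Q : Subgroup G), x⁻¹ = x := fun x hx => inv_eq_of_mul_eq_one_left (hexp x hx)
  have hQcomm : ∀ x ∈ (Q : Subgroup G), ∀ y ∈ (Q : Subgroup G), x * y = y * x := by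
    intro x hx y hy
    have h1 := hinv (x * y) ((Q : Subgroup G).mul_mem hx hy)
    rw [mul_inv_rev, hinv x hx, hinv y hy] at h1
    exact h1.symm
  by_cases ha1 : a = 1
  · rw [ha1, one_mul, mul_one]
  by_cases haz : a = z
  · rw [haz]; exact (hzc n).symm
  have hb : n * a * n⁻¹ ∈ (Q : Subgroup G) := (Subgroup.mem_normalizer_iff.mp hn a).mp ha'
  -- the four elements of `Q`
  obtain ⟨zq, hzq⟩ : ∃ zq : (Q : Subgroup G), (zq : G) = z := ⟨⟨z, hzQ⟩, rfl⟩
  obtain ⟨aq, haq⟩ : ∃ aq : (Q : Subgroup G), (aq : G) = a := ⟨⟨a, ha'⟩, rfl⟩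
  obtain ⟨bq, hbq⟩ : ∃ bq : (Q : Subgroup G), (bq : G) = n * a * n⁻¹ := ⟨⟨_, hb⟩, rfl⟩
  have h1z : (1 : (Q : Subgroup G)) ≠ zq := by
    intro h; apply hz1; rw [← hzq, ← h]; rfl
  have h1a : (1 : (Q : Subgroup G)) ≠ aq := by
    intro h; apply ha1; rw [← haq, ← h]; rfl
  have hza : zq ≠ aq := by
    intro h; apply haz; rw [← haq, ← h, hzq]
  have h1az : (1 : (Q : Subgroup G)) ≠ aq * zq := by
    intro h
    apply haz
    have h2 : a * z = 1 := by
      rw [← haq, ← hzq, ← Subgroup.coe_mul, ← h]; rfl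
    rw [← hinv z hzQ]
    exact eq_inv_of_mul_eq_one_left h2
  have hzaz : zq ≠ aq * zq := by
    intro h
    apply ha1
    have h2 : z = a * z := by
      rw [← haq, ← hzq, ← Subgroup.coe_mul, ← h]
    exact (right_eq_mul.mp h2)
  have haaz : aq ≠ aq * zq := by
    intro h
    apply hz1
    have h2 : a = a * z := by
      rw [← haq, ← hzq, ← Subgroup.coe_mul, ← h]
    exact (left_eq_mul.mp h2)
  have huniv : ({1, zq, aq, aq * zq} : Finset (Q : Subgroup G)) = Finset.univ := by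
    apply Finset.eq_univ_of_card
    rw [Finset.card_insert_of_notMem (by simp [h1z, h1a, h1az]),
      Finset.card_insert_of_notMem (by simp [hza, hzaz]),
      Finset.card_pair haaz, ← Nat.card_eq_fintype_card, hcard]
  have hbmem : bq ∈ ({1, zq, aq, aq * zq} : Finset (Q : Subgroup G)) := by
    rw [huniv]; exact Finset.mem_univ _
  simp only [Finset.mem_insert, Finset.mem_singleton] at hbmem
  rcases hbmem with h | h | h | h
  · exfalso
    apply ha1
    have h2 : n * a * n⁻¹ = 1 := by rw [← hbq, h]; rfl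
    have h3 : a = n⁻¹ * (n * a * n⁻¹) * n := by group
    rw [h3, h2]; group
  · exfalso
    apply haz
    have h2 : n * a * n⁻¹ = z := by rw [← hbq, h, hzq]
    have h3 : a = n⁻¹ * (n * a * n⁻¹) * n := by group
    rw [h3, h2, mul_assoc, ← hzc n, ← mul_assoc, inv_mul_cancel, one_mul]
  · have h2 : n * a * n⁻¹ = a := by rw [← hbq, h, haq]
    calc a * n = n * a * n⁻¹ * n := by rw [h2]
      _ = n * a := by group
  · exfalso
    have h2 : n * a * n⁻¹ = a * z := by rw [← hbq, h, Subgroup.coe_mul, haq, hzq]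
    have key : ∀ j : ℕ, n ^ j * a * (n ^ j)⁻¹ = a * z ^ j := by
      intro j
      induction j with
      | zero => simp
      | succ j ih =>
        have hzj : ∀ g : G, g * z ^ j = z ^ j * g := by
          intro g
          have : Commute g z := hzc g
          exact this.pow_right j
        calc n ^ (j + 1) * a * (n ^ (j + 1))⁻¹
            = n * (n ^ j * a * (n ^ j)⁻¹) * n⁻¹ := by rw [pow_succ']; group
          _ = n * (a * z ^ j) * n⁻¹ := by rw [ih]
          _ = (n * a * n⁻¹) * (n * z ^ j) * n⁻¹ := by group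
          _ = (a * z) * (z ^ j * n) * n⁻¹ := by rw [h2, hzj n]
          _ = a * z ^ (j + 1) := by rw [pow_succ']; group
    obtain ⟨e, m, hm_odd, hom⟩ := Nat.exists_eq_two_pow_mul_odd (orderOf_pos n).ne'
    have hpow : (n ^ m) ^ (2 ^ e) = 1 := by
      rw [← pow_mul, mul_comm, ← hom, pow_orderOf_eq_one]
    have hnmQ : n ^ m ∈ (Q : Subgroup G) := by
      have hP1 : IsPGroup 2 (Subgroup.zpowers (n ^ m)) := by
        obtain ⟨j, -, hj⟩ := (Nat.dvd_prime_pow Nat.prime_two).mp (orderOf_dvd_of_pow_eq_one hpow)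
        exact IsPGroup.of_card (n := j) (by rw [Nat.card_zpowers, hj])
      have hfix : Q ∈ MulAction.fixedPoints (Subgroup.zpowers (n ^ m)) (Sylow 2 G) := by
        intro g
        have hg : (g : G) ∈ Subgroup.normalizer ((Q : Subgroup G) : Set G) := by
          obtain ⟨i, hi⟩ := Subgroup.mem_zpowers_iff.mp g.2
          rw [← hi]
          exact Subgroup.zpow_mem _ (Subgroup.pow_mem _ hn m) i
        exact Sylow.smul_eq_iff_mem_normalizer.mpr hg
      exact (hP1.sylow_mem_fixedPoints_iff.mp hfix) (Subgroup.mem_zpowers _)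
    have h5 := hQcomm (n ^ m) hnmQ a ha'
    have h6 := key m
    have hzm : z ^ m = z := by
      obtain ⟨t, rfl⟩ := hm_odd
      rw [pow_succ, pow_mul, pow_two, hexp z hzQ, one_pow, one_mul]
    rw [hzm, h5, mul_inv_cancel_right] at h6
    exact hz1 (left_eq_mul.mp h6)

/-- A character of the principal block does not vanish at an element whose class has size prime
to `p`. -/
theorem ne_zero_of_mem_principalBlock [Finite G] {p : ℕ} {M : Ideal Cfsg.AlgInt}
    (hM : Cfsg.IsPModular p M) (ζ : Cfsg.IrrCharacter G) (hζ : ζ ∈ Cfsg.principalBlock M G)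
    (g : G) (hg : ¬ p ∣ (Subgroup.centralizer ({g} : Set G)).index) : (ζ : G → ℂ) g ≠ 0 := by
  intro h0
  have h1 : Cfsg.MemLocalIdeal M (Cfsg.centralChar (fun _ : G => (1 : ℂ)) g
      - Cfsg.centralChar (ζ : G → ℂ) g) := hζ g
  simp only [Cfsg.centralChar, h0, mul_zero, zero_div, sub_zero, mul_one, div_one] at h1
  exact hg ((memLocalIdeal_natCast_iff hM).mp h1)

/-- **Brauer**: the principal `2`-block of a group with a Klein four Sylow `2`-subgroup and one
class of involutions. -/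
theorem klein_four_principalBlock [Fintype G] (M : Ideal Cfsg.AlgInt)
    (hM : Cfsg.IsPModular 2 M) (P : Sylow 2 G) (hP : IsKleinFour (P : Subgroup G))
    (hone : ∀ s t : G, orderOf s = 2 → orderOf t = 2 → IsConj s t) :
    ∃ ζ₂ ζ₃ ζ₄ : Cfsg.IrrCharacter G, ∃ ε : ℤ, (ε = 1 ∨ ε = -1) ∧
      (ζ₂ : G → ℂ) ≠ (fun _ => 1) ∧ (ζ₃ : G → ℂ) ≠ (fun _ => 1) ∧ ζ₂ ≠ ζ₃ ∧ ζ₂ ≠ ζ₄ ∧ ζ₃ ≠ ζ₄ ∧
      Cfsg.principalBlock M G = {χ : Cfsg.IrrCharacter G |
        (χ : G → ℂ) = (fun _ => 1) ∨ χ = ζ₂ ∨ χ = ζ₃ ∨ χ = ζ₄} ∧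
      (∀ z : G, orderOf z = 2 →
        (ζ₂ : G → ℂ) z = 1 ∧ (ζ₃ : G → ℂ) z = (ε : ℂ) ∧ (ζ₄ : G → ℂ) z = -1) ∧
      (4 : ℤ) ∣ (Cfsg.charDegree (ζ₂ : G → ℂ) : ℤ) - 1 ∧
      (4 : ℤ) ∣ (Cfsg.charDegree (ζ₃ : G → ℂ) : ℤ) - ε ∧
      (4 : ℤ) ∣ (Cfsg.charDegree (ζ₄ : G → ℂ) : ℤ) + 1 ∧
      ∀ y : G, Odd (orderOf y) →
        1 + (ζ₂ : G → ℂ) y + (ε : ℂ) * (ζ₃ : G → ℂ) y - (ζ₄ : G → ℂ) y = 0 := by
  classical
  have : Fact (Nat.Prime 2) := ⟨Nat.prime_two⟩
  have hMp : M.IsPrime := isPrime_of_isPModular hM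
  have := Fintype.ofFinite (Cfsg.IrrCharacter G)
  -- the Sylow subgroup
  have hPcard : Nat.card (P : Subgroup G) = 4 := hP.card_four
  have hPexp : ∀ x ∈ (P : Subgroup G), x * x = 1 := by
    intro x hx
    have h := Monoid.pow_exponent_eq_one (⟨x, hx⟩ : (P : Subgroup G))
    rw [hP.exponent_two, pow_two] at h
    exact congrArg Subtype.val h
  obtain ⟨z, hzP, hz1⟩ : ∃ z ∈ (P : Subgroup G), z ≠ 1 := by
    by_contra hcon
    push Not at hcon
    have h : (P : Subgroup G) = ⊥ := (Subgroup.eq_bot_iff_forall _).mpr hcon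
    rw [h, Subgroup.card_bot] at hPcard
    norm_num at hPcard
  have hinvP : ∀ x ∈ (P : Subgroup G), x ≠ 1 → orderOf x = 2 := fun x hx hx1 =>
    orderOf_eq_prime (by rw [pow_two]; exact hPexp x hx) hx1
  have hz2 : orderOf z = 2 := hinvP z hzP hz1
  have hinv : ∀ x ∈ (P : Subgroup G), x⁻¹ = x := fun x hx => inv_eq_of_mul_eq_one_left (hPexp x hx)
  have hPcomm : ∀ x ∈ (P : Subgroup G), ∀ y ∈ (P : Subgroup G), x * y = y * x := by
    intro x hx y hy
    have h1 := hinv (x * y) ((P : Subgroup G).mul_mem hx hy)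
    rw [mul_inv_rev, hinv x hx, hinv y hy] at h1
    exact h1.symm
  have hPH : (P : Subgroup G) ≤ Subgroup.centralizer ({z} : Set G) := by
    intro x hx
    rw [Subgroup.mem_centralizer_iff]
    intro s hs
    rw [Set.mem_singleton_iff] at hs
    rw [hs]
    exact hPcomm z hzP x hx
  have : Fintype (Subgroup.centralizer ({z} : Set G)) := Fintype.ofFinite _
  have hzH : z ∈ Subgroup.centralizer ({z} : Set G) := hPH hzP
  -- the centralizer of `z` has a normal `2`-complement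
  have hK : ∃ k : ℕ, (Cfsg.pPrimeCore 2 (Subgroup.centralizer ({z} : Set G))).index = 2 ^ k := by
    apply exists_index_pPrimeCore_of_normalizer_le (P.subtype hPH)
    apply normalizer_le_centralizer_of_klein (P.subtype hPH) ?_ ?_ ⟨z, hzH⟩ ?_ ?_ ?_
    · rw [Sylow.coe_subtype, Nat.card_congr (Subgroup.subgroupOfEquivOfLe hPH).toEquiv, hPcard]
    · intro x hx
      rw [Sylow.coe_subtype, Subgroup.mem_subgroupOf] at hx
      exact Subtype.ext (hPexp x hx)
    · rw [Sylow.coe_subtype, Subgroup.mem_subgroupOf]; exact hzP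
    · intro h; exact hz1 (congrArg Subtype.val h)
    · intro g; exact Subtype.ext (Subgroup.mem_centralizer_iff.mp g.2 z rfl).symm
  -- the sum of squares is `4`
  have h1reg : ¬ 2 ∣ orderOf (1 : Subgroup.centralizer ({z} : Set G)) := by
    rw [orderOf_one]; norm_num
  have hsum : ∑ᶠ ζ ∈ Cfsg.principalBlock M G, (ζ : G → ℂ) z * conj ((ζ : G → ℂ) z) = 4 := by
    have key := sum_principalBlock_section hM z ⟨1, by rw [hz2, pow_one]⟩ 1 1 h1reg h1reg
    rw [sum_principalBlock_of_normal_pComplement hM hK 1 h1reg] at key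
    simp only [Subgroup.coe_one, mul_one] at key
    rw [key]
    have hfac : (Nat.card (Subgroup.centralizer ({z} : Set G))).factorization 2 = 2 := by
      have h4 : 2 ^ 2 ∣ Nat.card (Subgroup.centralizer ({z} : Set G)) := by
        have h := Subgroup.card_dvd_of_le hPH
        rw [hPcard] at h
        exact h
      have h8 : ¬ 2 ^ 3 ∣ Nat.card (Subgroup.centralizer ({z} : Set G)) := by
        intro h
        have h' : 2 ^ 3 ∣ Nat.card G := h.trans (Subgroup.card_subgroup_dvd_card _)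
        rw [← Subgroup.card_mul_index (P : Subgroup G), hPcard] at h'
        apply P.not_dvd_index
        exact Nat.dvd_of_mul_dvd_mul_left (by norm_num : 0 < 4) (by simpa using h')
      have hne : Nat.card (Subgroup.centralizer ({z} : Set G)) ≠ 0 := Nat.card_pos.ne'
      have a1 := (Nat.prime_two.pow_dvd_iff_le_factorization hne).mp h4
      have a2 : ¬ 3 ≤ (Nat.card (Subgroup.centralizer ({z} : Set G))).factorization 2 :=
        fun h => h8 ((Nat.prime_two.pow_dvd_iff_le_factorization hne).mpr h)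
      omega
    rw [hfac]
    norm_num
  -- integer values at `z`
  have hint : ∀ ζ : Cfsg.IrrCharacter G, ∃ k : ℤ, (ζ : G → ℂ) z = k :=
    fun ζ => irr_involution_int ζ hz2
  choose n hn using hint
  have hidx : ¬ 2 ∣ (Subgroup.centralizer ({z} : Set G)).index := by
    intro h
    exact P.not_dvd_index (h.trans (Subgroup.index_dvd_of_le hPH))
  have hn0 : ∀ ζ ∈ Cfsg.principalBlock M G, n ζ ≠ 0 := by
    intro ζ hζ h0
    apply ne_zero_of_mem_principalBlock hM ζ hζ z hidx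
    rw [hn, h0, Int.cast_zero]
  obtain ⟨T, hT⟩ : ∃ T : Finset (Cfsg.IrrCharacter G),
      ∀ ζ, ζ ∈ T ↔ ζ ∈ Cfsg.principalBlock M G :=
    ⟨Finset.univ.filter (· ∈ Cfsg.principalBlock M G), by simp⟩
  have hconv : ∀ f : Cfsg.IrrCharacter G → ℂ,
      ∑ᶠ ζ ∈ Cfsg.principalBlock M G, f ζ = ∑ ζ ∈ T, f ζ := by
    intro f
    rw [finsum_mem_def, finsum_eq_sum_of_fintype]
    refine (Finset.sum_subset (Finset.subset_univ T) (fun ζ _ hζ => ?_)).symm.trans
      (Finset.sum_congr rfl (fun ζ hζ => ?_))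
    · rw [Set.indicator_apply, if_neg (fun h => hζ ((hT ζ).mpr h))]
    · rw [Set.indicator_apply, if_pos ((hT ζ).mp hζ)]
  have hsumT : ∑ ζ ∈ T, (n ζ) ^ 2 = 4 := by
    rw [hconv] at hsum
    have h1 : ∑ ζ ∈ T, (ζ : G → ℂ) z * conj ((ζ : G → ℂ) z) = ((∑ ζ ∈ T, (n ζ) ^ 2 : ℤ) : ℂ) := by
      rw [Int.cast_sum]
      refine Finset.sum_congr rfl fun ζ _ => ?_
      rw [hn, map_intCast]
      push_cast
      ring
    rw [h1] at hsum
    exact_mod_cast hsum
  have htrivT : trivIrr G ∈ T := (hT _).mpr trivIrr_mem_principalBlock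
  have hntriv : n (trivIrr G) = 1 := by
    have h := hn (trivIrr G)
    rw [trivIrr_apply] at h
    exact_mod_cast h.symm
  have hsq : ∀ ζ ∈ T, (n ζ) ^ 2 = 1 := by
    intro ζ hζ
    by_contra hne
    have h0 := hn0 ζ ((hT ζ).mp hζ)
    have h4 : 4 ≤ (n ζ) ^ 2 := by
      have h5 : n ζ ≤ -2 ∨ 2 ≤ n ζ := by
        by_contra hcon
        push Not at hcon
        have h6 : n ζ = 1 ∨ n ζ = -1 := by omega
        rcases h6 with h | h <;> (apply hne; rw [h]; norm_num)
      rcases h5 with h | h <;> nlinarith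
    have hζt : ζ ≠ trivIrr G := by
      intro h; apply hne; rw [h, hntriv]; norm_num
    have hsub : ({ζ, trivIrr G} : Finset (Cfsg.IrrCharacter G)) ⊆ T := by
      intro x hx
      simp only [Finset.mem_insert, Finset.mem_singleton] at hx
      rcases hx with rfl | rfl
      · exact hζ
      · exact htrivT
    have hle := Finset.sum_le_sum_of_subset_of_nonneg hsub (f := fun ζ => (n ζ) ^ 2)
      (fun x _ _ => sq_nonneg _)
    rw [Finset.sum_pair hζt, hsumT, hntriv] at hle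
    norm_num at hle
    omega
  have hTcard : T.card = 4 := by
    have h : ∑ ζ ∈ T, (n ζ) ^ 2 = ∑ ζ ∈ T, (1 : ℤ) := Finset.sum_congr rfl hsq
    rw [hsumT, Finset.sum_const, nsmul_eq_mul, mul_one] at h
    exact_mod_cast h.symm
  have hpm : ∀ ζ ∈ T, n ζ = 1 ∨ n ζ = -1 := by
    intro ζ hζ
    have h := hsq ζ hζ
    have h' : (n ζ - 1) * (n ζ + 1) = 0 := by linear_combination h
    rcases mul_eq_zero.mp h' with h1 | h1
    · left; omega
    · right; omega
  -- degrees
  obtain ⟨d, hd⟩ : ∃ d : Cfsg.IrrCharacter G → ℤ,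
      ∀ ζ, d ζ = (Cfsg.charDegree (ζ : G → ℂ) : ℤ) := ⟨_, fun _ => rfl⟩
  have hd1 : ∀ ζ, 1 ≤ d ζ := by
    intro ζ
    rw [hd]
    exact_mod_cast charDegree_pos ζ
  have hdval : ∀ ζ : Cfsg.IrrCharacter G, (ζ : G → ℂ) 1 = (d ζ : ℂ) := by
    intro ζ
    rw [hd, irr_one_eq_charDegree]
    push_cast
    rfl
  have hdtriv : d (trivIrr G) = 1 := by
    have h := hdval (trivIrr G)
    rw [trivIrr_apply] at h
    exact_mod_cast h.symm
  have hB0 : Cfsg.IsPBlock M (Cfsg.principalBlock M G) := ⟨trivIrr G, rfl⟩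
  have hosima : ∑ ζ ∈ T, d ζ * n ζ = 0 := by
    have h := Helper77.weak_block_orthogonality hM hB0 (x := 1) (y := z)
      (by rw [orderOf_one]; norm_num) (by rw [hz2])
    rw [hconv] at h
    have h1 : ∑ ζ ∈ T, (ζ : G → ℂ) 1 * conj ((ζ : G → ℂ) z) = ((∑ ζ ∈ T, d ζ * n ζ : ℤ) : ℂ) := by
      rw [Int.cast_sum]
      refine Finset.sum_congr rfl fun ζ _ => ?_
      rw [hn, map_intCast, hdval]
      push_cast
      ring
    rw [h1] at h
    exact_mod_cast h
  -- the three non-principal characters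
  obtain ⟨S₃, hS₃⟩ : ∃ S₃ : Finset (Cfsg.IrrCharacter G), S₃ = T.erase (trivIrr G) := ⟨_, rfl⟩
  have hS₃card : S₃.card = 3 := by rw [hS₃, Finset.card_erase_of_mem htrivT, hTcard]
  have hS₃T : ∀ ζ ∈ S₃, ζ ∈ T := fun ζ hζ => by
    rw [hS₃] at hζ; exact Finset.mem_of_mem_erase hζ
  have hne_triv : ∀ ζ ∈ S₃, ζ ≠ trivIrr G := fun ζ hζ => by
    rw [hS₃] at hζ; exact (Finset.mem_erase.mp hζ).1
  have hosima' : 1 + ∑ ζ ∈ S₃, d ζ * n ζ = 0 := by
    rw [← Finset.add_sum_erase T _ htrivT, hdtriv, hntriv, ← hS₃] at hosima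
    simpa using hosima
  have hex2 : ∃ ζ₂ ∈ S₃, n ζ₂ = 1 := by
    by_contra hcon
    push Not at hcon
    have hall : ∀ ζ ∈ S₃, d ζ * n ζ ≤ -1 := by
      intro ζ hζ
      rcases hpm ζ (hS₃T ζ hζ) with h | h
      · exact absurd h (hcon ζ hζ)
      · rw [h]; have := hd1 ζ; omega
    have h := Finset.sum_le_sum hall
    rw [Finset.sum_const, hS₃card] at h
    simp at h
    omega
  have hex4 : ∃ ζ₄ ∈ S₃, n ζ₄ = -1 := by
    by_contra hcon
    push Not at hcon
    have hall : ∀ ζ ∈ S₃, 0 ≤ d ζ * n ζ := by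
      intro ζ hζ
      rcases hpm ζ (hS₃T ζ hζ) with h | h
      · rw [h]; have := hd1 ζ; omega
      · exact absurd h (hcon ζ hζ)
    have h := Finset.sum_nonneg hall
    omega
  obtain ⟨ζ₂, hζ₂S, hnζ₂⟩ := hex2
  obtain ⟨ζ₄, hζ₄S, hnζ₄⟩ := hex4
  have h24 : ζ₂ ≠ ζ₄ := by
    intro h; rw [h, hnζ₄] at hnζ₂; omega
  have hcard1 : ((S₃.erase ζ₂).erase ζ₄).card = 1 := by
    rw [Finset.card_erase_of_mem (Finset.mem_erase.mpr ⟨h24.symm, hζ₄S⟩),
      Finset.card_erase_of_mem hζ₂S, hS₃card]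
  obtain ⟨ζ₃, hζ₃⟩ := Finset.card_eq_one.mp hcard1
  have hζ₃mem : ζ₃ ∈ (S₃.erase ζ₂).erase ζ₄ := by rw [hζ₃]; exact Finset.mem_singleton_self _
  have h34 : ζ₃ ≠ ζ₄ := (Finset.mem_erase.mp hζ₃mem).1
  have h32 : ζ₃ ≠ ζ₂ := (Finset.mem_erase.mp (Finset.mem_erase.mp hζ₃mem).2).1
  have hζ₃S : ζ₃ ∈ S₃ := (Finset.mem_erase.mp (Finset.mem_erase.mp hζ₃mem).2).2
  have hmemT : ∀ χ, χ ∈ T ↔ χ = trivIrr G ∨ χ = ζ₂ ∨ χ = ζ₃ ∨ χ = ζ₄ := by
    intro χ
    constructor
    · intro hχ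
      by_cases h1 : χ = trivIrr G
      · exact Or.inl h1
      by_cases h2 : χ = ζ₂
      · exact Or.inr (Or.inl h2)
      by_cases h4 : χ = ζ₄
      · exact Or.inr (Or.inr (Or.inr h4))
      have h5 : χ ∈ (S₃.erase ζ₂).erase ζ₄ := by
        rw [hS₃]
        exact Finset.mem_erase.mpr ⟨h4, Finset.mem_erase.mpr ⟨h2, Finset.mem_erase.mpr ⟨h1, hχ⟩⟩⟩
      rw [hζ₃, Finset.mem_singleton] at h5
      exact Or.inr (Or.inr (Or.inl h5))
    · rintro (h | h | h | h) <;> rw [h]
      exacts [htrivT, hS₃T _ hζ₂S, hS₃T _ hζ₃S, hS₃T _ hζ₄S]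
  have hTeq : T = {trivIrr G, ζ₂, ζ₃, ζ₄} := by
    ext χ
    rw [hmemT]
    simp
  -- values at involutions
  have hvalinv : ∀ (ζ : Cfsg.IrrCharacter G) (t : G), orderOf t = 2 →
      (ζ : G → ℂ) t = (n ζ : ℂ) := by
    intro ζ t ht
    obtain ⟨c, hc⟩ := isConj_iff.mp (hone z t hz2 ht)
    rw [← hc, irr_conj, hn]
  -- degrees modulo `4`
  have hdeg : ∀ ζ : Cfsg.IrrCharacter G, (4 : ℤ) ∣ d ζ - n ζ := by
    intro ζ
    have : Fintype (P : Subgroup G) := Fintype.ofFinite _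
    obtain ⟨m, hm⟩ := exists_nat_sum_subgroup ζ (P : Subgroup G)
    rw [hPcard] at hm
    have hs : ∑ x : (P : Subgroup G), (ζ : G → ℂ) x = (d ζ : ℂ) + 3 * (n ζ : ℂ) := by
      rw [← Finset.add_sum_erase Finset.univ _ (Finset.mem_univ (1 : (P : Subgroup G)))]
      have h1 : ∀ x ∈ (Finset.univ : Finset (P : Subgroup G)).erase 1,
          (ζ : G → ℂ) x = (n ζ : ℂ) := by
        intro x hx
        have hx1 : (x : G) ≠ 1 := fun h => (Finset.mem_erase.mp hx).1 (Subtype.ext h)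
        exact hvalinv ζ x (hinvP x x.2 hx1)
      rw [Finset.sum_congr rfl h1, Finset.sum_const, Finset.card_erase_of_mem (Finset.mem_univ _),
        Finset.card_univ, ← Nat.card_eq_fintype_card, hPcard, Subgroup.coe_one, hdval]
      simp
    rw [hs] at hm
    have hm' : d ζ + 3 * n ζ = 4 * (m : ℤ) := by exact_mod_cast hm
    exact ⟨(m : ℤ) - n ζ, by linarith⟩
  refine ⟨ζ₂, ζ₃, ζ₄, n ζ₃, hpm ζ₃ (hS₃T _ hζ₃S), ?_, ?_, h32.symm, h24, h34, ?_, ?_, ?_, ?_, ?_, ?_⟩
  · intro h; exact hne_triv ζ₂ hζ₂S (Subtype.ext h)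
  · intro h; exact hne_triv ζ₃ hζ₃S (Subtype.ext h)
  · ext χ
    rw [← hT, hmemT, Set.mem_ofPred_eq]
    constructor
    · rintro (h | h)
      · exact Or.inl (by rw [h]; rfl)
      · exact Or.inr h
    · rintro (h | h)
      · exact Or.inl (Subtype.ext h)
      · exact Or.inr h
  · intro t ht
    refine ⟨?_, hvalinv ζ₃ t ht, ?_⟩
    · rw [hvalinv ζ₂ t ht, hnζ₂]; norm_num
    · rw [hvalinv ζ₄ t ht, hnζ₄]; norm_num
  · have h := hdeg ζ₂
    rw [hd, hnζ₂] at h
    exact h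
  · have h := hdeg ζ₃
    rw [hd] at h
    exact h
  · have h := hdeg ζ₄
    rw [hd, hnζ₄] at h
    simpa using h
  · intro y hy
    have hyreg : ¬ 2 ∣ orderOf y := by
      intro h
      exact (Nat.not_even_iff_odd.mpr hy) (even_iff_two_dvd.mpr h)
    have h := Helper77.weak_block_orthogonality hM hB0 (x := y) (y := z) hyreg (by rw [hz2])
    rw [hconv, hTeq] at h
    rw [Finset.sum_insert (by
        simp only [Finset.mem_insert, Finset.mem_singleton, not_or]
        exact ⟨(hne_triv ζ₂ hζ₂S).symm, (hne_triv ζ₃ hζ₃S).symm, (hne_triv ζ₄ hζ₄S).symm⟩),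
      Finset.sum_insert (by
        simp only [Finset.mem_insert, Finset.mem_singleton, not_or]
        exact ⟨h32.symm, h24⟩),
      Finset.sum_pair h34] at h
    simp only [hn, map_intCast, hntriv, hnζ₂, hnζ₄, trivIrr_apply] at h
    push_cast at h
    linear_combination h

end Cfsg.Agent.Helper81
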