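/-
helper81: ranks of `g - 1` for words `g` of root elements with all parameters `1` of a Chevalley group in
characteristic two, from machine certificates (generic in the datum `D`): a lower bound from vectors whose
images under `g - 1` are in reduced echelon form, an upper bound from fixed vectors in reduced echelon form.
The rank of `g - 1` is a conjugacy invariant (`chr_rank_conj`); used for the non-conjugacy of the classes of
involutions (S2181).
-/
import Cfsg.Agent.Helper38.F4IFck

set_option autoImplicit false
set_option linter.unusedSectionVars false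
set_option linter.unusedVariables false

namespace Cfsg.Agent.Helper81

open Cfsg Cfsg.Lie Cfsg.Agent.Helper18 Cfsg.Agent.Helper38

section LinAlg

variable {F : Type*} [Field F] {n : Type*} [Fintype n] [DecidableEq n]

theorem chr_li {k : ℕ} (u : Fin k → n → F) (p : Fin k → n)
    (h : ∀ i j, u j (p i) = if i = j then 1 else 0) : LinearIndependent F u := by
  rw [Fintype.linearIndependent_iff]
  intro c hc i
  have h1 := congrFun hc (p i)
  simp only [Finset.sum_apply, Pi.smul_apply, smul_eq_mul, h, Pi.zero_apply, mul_ite, mul_one,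
    mul_zero, Finset.sum_ite_eq, Finset.mem_univ, if_true] at h1
  exact h1

/-- A lower bound for the rank: vectors whose images are in reduced echelon form. -/
theorem chr_rank_ge (N : Matrix n n F) {k : ℕ} (v : Fin k → n → F) (p : Fin k → n)
    (h : ∀ i j, N.mulVec (v j) (p i) = if i = j then 1 else 0) : k ≤ N.rank := by
  have hli := chr_li (fun j => N.mulVec (v j)) p h
  have h1 : Module.finrank F (Submodule.span F (Set.range fun j => N.mulVec (v j))) = k := by
    rw [finrank_span_eq_card hli, Fintype.card_fin]
  have h2 : Submodule.span F (Set.range fun j => N.mulVec (v j)) ≤ LinearMap.range N.mulVecLin := by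
    rw [Submodule.span_le]
    rintro _ ⟨j, rfl⟩
    exact ⟨v j, rfl⟩
  have h3 := Submodule.finrank_mono h2
  rw [h1] at h3
  exact h3

/-- An upper bound for the rank: vectors of the kernel in reduced echelon form. -/
theorem chr_rank_le (N : Matrix n n F) {k : ℕ} (v : Fin k → n → F) (p : Fin k → n)
    (hker : ∀ j, N.mulVec (v j) = 0)
    (h : ∀ i j, v j (p i) = if i = j then 1 else 0) : N.rank + k ≤ Fintype.card n := by
  have hli := chr_li v p h
  have h1 : Module.finrank F (Submodule.span F (Set.range v)) = k := by
    rw [finrank_span_eq_card hli, Fintype.card_fin]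
  have h2 : Submodule.span F (Set.range v) ≤ LinearMap.ker N.mulVecLin := by
    rw [Submodule.span_le]
    rintro _ ⟨j, rfl⟩
    exact hker j
  have h3 := Submodule.finrank_mono h2
  have h4 := LinearMap.finrank_range_add_finrank_ker N.mulVecLin
  rw [Module.finrank_fintype_fun_eq_card] at h4
  rw [h1] at h3
  have h5 : N.rank = Module.finrank F (LinearMap.range N.mulVecLin) := rfl
  omega

/-- The rank of `g - 1` is a conjugacy invariant. -/
theorem chr_rank_conj (h A B : GL n F) (e : h * A * h⁻¹ = B) :
    ((A : Matrix n n F) - 1).rank = ((B : Matrix n n F) - 1).rank := by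
  have e1 : (B : Matrix n n F) - 1 =
      (h : Matrix n n F) * ((A : Matrix n n F) - 1) * ((h⁻¹ : GL n F) : Matrix n n F) := by
    rw [← e, Units.val_mul, Units.val_mul, Matrix.mul_sub, Matrix.sub_mul, Matrix.mul_one,
      ← Units.val_mul h h⁻¹, mul_inv_cancel, Units.val_one]
  have hu : ∀ g : GL n F, IsUnit (g : Matrix n n F).det := fun g =>
    (Matrix.isUnit_iff_isUnit_det _).mp (Units.isUnit g)
  rw [e1, Matrix.rank_mul_eq_left_of_isUnit_det _ _ (hu h⁻¹),
    Matrix.rank_mul_eq_right_of_isUnit_det _ _ (hu h)]

theorem chr_cast [CharP F 2] (z : ℤ) : ((z : ℤ) : F) = if z % 2 = 1 then 1 else 0 := by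
  have h : ((z : ℤ) : F) = ((z % 2 : ℤ) : F) :=
    (CharP.intCast_eq_intCast F 2).mpr (Int.mod_modEq z 2).symm
  rw [h]
  rcases Int.emod_two_eq_zero_or_one z with h0 | h1
  · rw [h0]; simp
  · rw [h1]; simp

end LinAlg

/-- The parity of the coefficient of a flat vector at the code `k`. -/
def parAt (w : FVec) (k : ℕ) : Bool :=
  w.foldr (fun x acc => xor (x.1 == k && x.2.1 % 2 == 1) acc) false

/-- The vector `w` has coefficient `1` at the pivot `a` and `0` at the other pivots. -/
def pivOK (w : FVec) (piv : List ℕ) (a : ℕ) : Bool :=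
  parAt w a && piv.all fun b => b == a || !parAt w b

/-- The certificate of a lower bound for the rank of `g - 1`, `g` the word of `l`: vectors and pivots. -/
noncomputable def lbOK (D : ChevalleyDatum) (l : List ℕ) (cert : List (FVec × ℕ)) : Bool :=
  goodWord D (oneW l) && cert.all fun c =>
    decide (c.2 < D.rank + D.nroots) &&
      pivOK (fsub (fapplyW D (oneW l) c.1) c.1) (cert.map Prod.snd) c.2

/-- The certificate of an upper bound for the rank of `g - 1`: fixed vectors and pivots. -/
noncomputable def ubOK (D : ChevalleyDatum) (l : List ℕ) (cert : List (FVec × ℕ)) : Bool :=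
  goodWord D (oneW l) && cert.all fun c =>
    decide (c.2 < D.rank + D.nroots) && allEvenF (fsub (fapplyW D (oneW l) c.1) c.1) &&
      pivOK c.1 (cert.map Prod.snd) c.2

section Cert

variable {F : Type*} [Field F] [CharP F 2]

theorem chr_evF_par (w : FVec) (k : ℕ) :
    evF (1 : Fˣ) w k = if parAt w k = true then (1 : F) else 0 := by
  induction w with
  | nil => simp [parAt]
  | cons x w ih =>
    rw [evF_cons, ih]
    have hp : parAt (x :: w) k = xor (x.1 == k && x.2.1 % 2 == 1) (parAt w k) := rfl
    rw [hp]
    unfold evE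
    rw [one_zpow, Units.val_one, mul_one, chr_cast]
    by_cases h1 : x.1 = k <;> by_cases h2 : x.2.1 % 2 = 1 <;> cases hq : parAt w k <;>
      simp [h1, h2, CharTwo.add_self_eq_zero]

/-- The pivots of a certificate, as indices. -/
theorem chr_piv (D : ChevalleyDatum) (cert : List (FVec × ℕ)) (W : FVec × ℕ → FVec)
    (hnd : (cert.map Prod.snd).Nodup) (hb : ∀ c ∈ cert, c.2 < D.rank + D.nroots)
    (hp : ∀ c ∈ cert, pivOK (W c) (cert.map Prod.snd) c.2 = true) :
    ∃ p : Fin cert.length → D.Idx, ∀ i j : Fin cert.length,
      denF (1 : Fˣ) D (W (cert.get j)) (p i) = if i = j then (1 : F) else 0 := by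
  have hex : ∀ i : Fin cert.length, ∃ a : D.Idx, code D a = (cert.get i).2 :=
    fun i => exists_code_eq D (hb _ (List.get_mem cert i))
  choose p hpc using hex
  refine ⟨p, fun i j => ?_⟩
  unfold denF
  rw [hpc, chr_evF_par]
  have hj := hp _ (List.get_mem cert j)
  unfold pivOK at hj
  rw [Bool.and_eq_true, List.all_eq_true] at hj
  by_cases hij : i = j
  · rw [if_pos hij, hij, if_pos hj.1]
  · rw [if_neg hij]
    have hmem : (cert.get i).2 ∈ cert.map Prod.snd := List.mem_map_of_mem (List.get_mem cert i)
    have h2 := hj.2 _ hmem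
    rw [Bool.or_eq_true, beq_iff_eq, Bool.not_eq_true'] at h2
    rcases h2 with h2 | h2
    · exfalso
      apply hij
      have hi' : i.1 < (cert.map Prod.snd).length := by rw [List.length_map]; exact i.2
      have hj' : j.1 < (cert.map Prod.snd).length := by rw [List.length_map]; exact j.2
      have e : (cert.map Prod.snd)[i.1]'hi' = (cert.map Prod.snd)[j.1]'hj' := by
        rw [List.getElem_map, List.getElem_map]
        exact h2
      exact Fin.ext ((List.Nodup.getElem_inj_iff hnd).mp e)
    · rw [if_neg (by rw [h2]; exact Bool.false_ne_true)]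

variable (F)

/-- The lower bound for the rank of `g - 1` from a certificate. -/
theorem chr_lb (D : ChevalleyDatum) (l : List ℕ) (cert : List (FVec × ℕ))
    (hnd : (cert.map Prod.snd).Nodup) (h : lbOK D l cert = true) :
    cert.length ≤ (D.wordMat F (l.map fun r => (r, (1 : F))) - 1).rank := by
  unfold lbOK at h
  rw [Bool.and_eq_true, List.all_eq_true] at h
  obtain ⟨hg, hc⟩ := h
  have hb : ∀ c ∈ cert, c.2 < D.rank + D.nroots := by
    intro c hcm
    have := hc c hcm
    rw [Bool.and_eq_true, decide_eq_true_eq] at this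
    exact this.1
  have hp : ∀ c ∈ cert, pivOK (fsub (fapplyW D (oneW l) c.1) c.1) (cert.map Prod.snd) c.2 = true := by
    intro c hcm
    have := hc c hcm
    rw [Bool.and_eq_true] at this
    exact this.2
  obtain ⟨p, hpiv⟩ := chr_piv (F := F) D cert (fun c => fsub (fapplyW D (oneW l) c.1) c.1) hnd hb hp
  refine chr_rank_ge _ (fun j => denF (1 : Fˣ) D (cert.get j).1) p (fun i j => ?_)
  rw [← hpiv i j, Matrix.sub_mulVec, Matrix.one_mulVec, ← evFW_oneW (F := F) l,
    ← denF_fapplyW (1 : Fˣ) D (oneW l) hg]
  unfold denF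
  rw [Pi.sub_apply, evF_fsub]

/-- The upper bound for the rank of `g - 1` from a certificate. -/
theorem chr_ub (D : ChevalleyDatum) (l : List ℕ) (cert : List (FVec × ℕ))
    (hnd : (cert.map Prod.snd).Nodup) (h : ubOK D l cert = true) :
    (D.wordMat F (l.map fun r => (r, (1 : F))) - 1).rank + cert.length ≤ D.rank + D.nroots := by
  unfold ubOK at h
  rw [Bool.and_eq_true, List.all_eq_true] at h
  obtain ⟨hg, hc⟩ := h
  have hb : ∀ c ∈ cert, c.2 < D.rank + D.nroots := by
    intro c hcm
    have := hc c hcm
    rw [Bool.and_eq_true, Bool.and_eq_true, decide_eq_true_eq] at this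
    exact this.1.1
  have hp : ∀ c ∈ cert, pivOK c.1 (cert.map Prod.snd) c.2 = true := by
    intro c hcm
    have := hc c hcm
    rw [Bool.and_eq_true] at this
    exact this.2
  obtain ⟨p, hpiv⟩ := chr_piv (F := F) D cert (fun c => c.1) hnd hb hp
  have hcard : Fintype.card D.Idx = D.rank + D.nroots := by
    rw [Fintype.card_sum, Fintype.card_fin, Fintype.card_fin]
  rw [← hcard]
  refine chr_rank_le _ (fun j => denF (1 : Fˣ) D (cert.get j).1) p (fun j => ?_) hpiv
  have hc' := hc _ (List.get_mem cert j)
  rw [Bool.and_eq_true, Bool.and_eq_true] at hc'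
  rw [Matrix.sub_mulVec, Matrix.one_mulVec, ← evFW_oneW (F := F) l,
    ← denF_fapplyW (1 : Fˣ) D (oneW l) hg]
  funext a
  unfold denF
  rw [Pi.sub_apply, ← evF_fsub, evF_eq_zero_of_allEven (1 : Fˣ) _ hc'.1.2]
  rfl

end Cert

end Cfsg.Agent.Helper81
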