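import Mathlib
import Cfsg.Agent.Helper71.T4Defs

/-!
# Helper81: definitions for the tensor class `Sp_2 ⊗ O_k` in `Sp_{2k}` (CALL SO, for S5843)

Index type `Fin 2 × Fin k` ("`U ⊗ W`", `U = F^2` symplectic with Gram matrix `J2`, `W = F^k`
orthogonal with symmetric Gram matrix `S`).  We reuse `pt`, `InM`, `IsKron`, `kronSub` from
`Helper71.T4`.
-/

set_option autoImplicit false

namespace Cfsg.Agent.Helper81.SO

open Matrix Cfsg.Agent.Helper71.T4
open scoped Kronecker

variable {F : Type*} [Field F] {k : ℕ}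

/-- The alternating `2 × 2` Gram matrix. -/
def J2 (F : Type*) [Field F] : Matrix (Fin 2) (Fin 2) F := !![0, 1; -1, 0]

/-- The Gram matrix `J2 ⊗ S` of the tensor form on `F^2 ⊗ F^k`. -/
def gramT (S : Matrix (Fin k) (Fin k) F) : Matrix (Fin 2 × Fin k) (Fin 2 × Fin k) F :=
  J2 F ⊗ₖ S

/-- `g` is an isometry of the tensor form. -/
def IsSp (S : Matrix (Fin k) (Fin k) F) (g : Matrix (Fin 2 × Fin k) (Fin 2 × Fin k) F) : Prop :=
  gᵀ * gramT S * g = gramT S

/-- The symmetric bilinear form of `W`: `phi S x y = xᵀ S y`. -/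
def phi (S : Matrix (Fin k) (Fin k) F) (x y : Fin k → F) : F := x ⬝ᵥ S *ᵥ y

/-- The element `[[1, B], [0, 1]]` (blocks with respect to `U = F e₀ ⊕ F e₁`). -/
def X (B : Matrix (Fin k) (Fin k) F) : Matrix (Fin 2 × Fin k) (Fin 2 × Fin k) F :=
  1 + Matrix.single (0 : Fin 2) (1 : Fin 2) (1 : F) ⊗ₖ B

/-- `M` contains every Kronecker product that is an isometry. -/
def HasH (S : Matrix (Fin k) (Fin k) F) (M : Subgroup (GL (Fin 2 × Fin k) F)) : Prop :=
  ∀ (A : Matrix (Fin 2) (Fin 2) F) (B : Matrix (Fin k) (Fin k) F),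
    IsSp S (A ⊗ₖ B) → InM M (A ⊗ₖ B)

/-- `M` consists of isometries. -/
def InSp (S : Matrix (Fin k) (Fin k) F) (M : Subgroup (GL (Fin 2 × Fin k) F)) : Prop :=
  ∀ g ∈ M, IsSp S (g : Matrix (Fin 2 × Fin k) (Fin 2 × Fin k) F)

/-- The non-scalar condition: every `[[1, B], [0, 1]]` in `M` has `B` scalar. -/
def NSX (M : Subgroup (GL (Fin 2 × Fin k) F)) : Prop :=
  ∀ B : Matrix (Fin k) (Fin k) F, InM M (X B) → ∃ c : F, B = c • (1 : Matrix (Fin k) (Fin k) F)

/-- The symplectic transvection `x ↦ x + s f(x, v) v` (`f(x, y) = xᵀ (J2 ⊗ S) y`). -/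
def T (S : Matrix (Fin k) (Fin k) F) (v : Fin 2 × Fin k → F) (s : F) :
    Matrix (Fin 2 × Fin k) (Fin 2 × Fin k) F :=
  1 + s • vecMulVec v (gramT S *ᵥ v)

/-- The Eichler (Siegel) transformation of `W`:
`x ↦ x + φ(a, x) b - φ(b, x) a - (φ(b, b)/2) φ(a, x) a` (an isometry when `φ(a,a) = φ(a,b) = 0`). -/
def eich (S : Matrix (Fin k) (Fin k) F) (a b : Fin k → F) : Matrix (Fin k) (Fin k) F :=
  1 + vecMulVec b (S *ᵥ a) - vecMulVec a (S *ᵥ b) - (phi S b b / 2) • vecMulVec a (S *ᵥ a)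

/-- The `(i, j)` block of a matrix on `Fin 2 × Fin k`. -/
def bk (g : Matrix (Fin 2 × Fin k) (Fin 2 × Fin k) F) (i j : Fin 2) : Matrix (Fin k) (Fin k) F :=
  Matrix.of fun l l' => g (i, l) (j, l')

theorem bk_apply (g : Matrix (Fin 2 × Fin k) (Fin 2 × Fin k) F) (i j : Fin 2) (l l' : Fin k) :
    bk g i j l l' = g (i, l) (j, l') := rfl

theorem bk_mul (g h : Matrix (Fin 2 × Fin k) (Fin 2 × Fin k) F) (i j : Fin 2) :
    bk (g * h) i j = bk g i 0 * bk h 0 j + bk g i 1 * bk h 1 j := by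
  ext l l'
  simp only [bk_apply, Matrix.mul_apply, Matrix.add_apply, Fintype.sum_prod_type, Fin.sum_univ_two]

theorem bk_kron (A : Matrix (Fin 2) (Fin 2) F) (B : Matrix (Fin k) (Fin k) F) (i j : Fin 2) :
    bk (A ⊗ₖ B) i j = A i j • B := by
  ext l l'
  simp [bk_apply, Matrix.kronecker_apply]

theorem bk_one (i j : Fin 2) :
    bk (1 : Matrix (Fin 2 × Fin k) (Fin 2 × Fin k) F) i j = if i = j then 1 else 0 := by
  ext l l'
  by_cases hij : i = j
  · subst hij
    by_cases hl : l = l'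
    · subst hl; simp [bk_apply]
    · simp [bk_apply, hl]
  · simp [bk_apply, hij, Matrix.one_apply]

theorem bk_add (g h : Matrix (Fin 2 × Fin k) (Fin 2 × Fin k) F) (i j : Fin 2) :
    bk (g + h) i j = bk g i j + bk h i j := rfl

theorem bk_ext {g h : Matrix (Fin 2 × Fin k) (Fin 2 × Fin k) F}
    (H : ∀ i j, bk g i j = bk h i j) : g = h := by
  ext ⟨i, l⟩ ⟨j, l'⟩
  have := congrFun (congrFun (H i j) l) l'
  simpa [bk_apply] using this

theorem phi_apply (S : Matrix (Fin k) (Fin k) F) (x y : Fin k → F) :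
    phi S x y = x ⬝ᵥ S *ᵥ y := rfl

theorem phi_comm (S : Matrix (Fin k) (Fin k) F) (hS : Sᵀ = S) (x y : Fin k → F) :
    phi S x y = phi S y x := by
  unfold phi
  rw [Matrix.dotProduct_mulVec, ← Matrix.mulVec_transpose, hS, dotProduct_comm]

theorem phi_add_left (S : Matrix (Fin k) (Fin k) F) (x x' y : Fin k → F) :
    phi S (x + x') y = phi S x y + phi S x' y := by
  unfold phi; rw [add_dotProduct]

theorem phi_add_right (S : Matrix (Fin k) (Fin k) F) (x y y' : Fin k → F) :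
    phi S x (y + y') = phi S x y + phi S x y' := by
  unfold phi; rw [Matrix.mulVec_add, dotProduct_add]

theorem phi_smul_left (S : Matrix (Fin k) (Fin k) F) (c : F) (x y : Fin k → F) :
    phi S (c • x) y = c * phi S x y := by
  unfold phi; rw [smul_dotProduct, smul_eq_mul]

theorem phi_smul_right (S : Matrix (Fin k) (Fin k) F) (c : F) (x y : Fin k → F) :
    phi S x (c • y) = c * phi S x y := by
  unfold phi; rw [Matrix.mulVec_smul, dotProduct_smul, smul_eq_mul]

/-- Non-degeneracy of `phi`. -/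
theorem phi_nondeg (S : Matrix (Fin k) (Fin k) F) (hdet : S.det ≠ 0) (x : Fin k → F)
    (h : ∀ y, phi S x y = 0) : x = 0 := by
  have h1 : Matrix.vecMul x S = 0 := by
    ext j
    have := h (Pi.single j 1)
    unfold phi at this
    rw [Matrix.dotProduct_mulVec] at this
    simpa using this
  have hu : IsUnit S.det := isUnit_iff_ne_zero.mpr hdet
  have h2 := congrArg (fun v => Matrix.vecMul v S⁻¹) h1
  simp only [Matrix.vecMul_vecMul, Matrix.zero_vecMul] at h2
  rwa [Matrix.mul_nonsing_inv S hu, Matrix.vecMul_one] at h2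

theorem isSp_one (S : Matrix (Fin k) (Fin k) F) : IsSp S 1 := by
  unfold IsSp; simp

theorem isSp_mul {S : Matrix (Fin k) (Fin k) F} {g h : Matrix (Fin 2 × Fin k) (Fin 2 × Fin k) F}
    (hg : IsSp S g) (hh : IsSp S h) : IsSp S (g * h) := by
  unfold IsSp at *
  rw [Matrix.transpose_mul]
  calc hᵀ * gᵀ * gramT S * (g * h) = hᵀ * (gᵀ * gramT S * g) * h := by
        simp only [Matrix.mul_assoc]
    _ = gramT S := by rw [hg, hh]

/-- If `g` is an isometry and `g * g' = 1` then `g'` is an isometry. -/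
theorem isSp_inv {S : Matrix (Fin k) (Fin k) F} {g g' : Matrix (Fin 2 × Fin k) (Fin 2 × Fin k) F}
    (hg : IsSp S g) (h : g * g' = 1) : IsSp S g' := by
  unfold IsSp at *
  have h' : g'ᵀ * gᵀ = 1 := by rw [← Matrix.transpose_mul, h, Matrix.transpose_one]
  calc g'ᵀ * gramT S * g' = g'ᵀ * (gᵀ * gramT S * g) * g' := by rw [hg]
    _ = (g'ᵀ * gᵀ) * gramT S * (g * g') := by simp only [Matrix.mul_assoc]
    _ = gramT S := by rw [h', h, Matrix.one_mul, Matrix.mul_one]

theorem X_zero : X (0 : Matrix (Fin k) (Fin k) F) = 1 := by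
  unfold X; simp

theorem X_mul (B B' : Matrix (Fin k) (Fin k) F) : X B * X B' = X (B + B') := by
  unfold X
  have h : (Matrix.single (0 : Fin 2) (1 : Fin 2) (1 : F) ⊗ₖ B) *
      (Matrix.single (0 : Fin 2) (1 : Fin 2) (1 : F) ⊗ₖ B') = 0 := by
    rw [← Matrix.mul_kronecker_mul]
    simp
  rw [Matrix.add_mul, Matrix.mul_add, Matrix.mul_add, h, Matrix.kronecker_add]
  simp only [Matrix.one_mul, Matrix.mul_one, add_zero]
  abel

end Cfsg.Agent.Helper81.SO
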