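import Mathlib
import Cfsg.Agent.Helper71.T4Defs
import Cfsg.Agent.Helper81.SODefs

/-!
# CALL SO, piece EA1 (helper81): isometry API
-/

set_option autoImplicit false

namespace Cfsg.Agent.Helper81.SOEA1

open Matrix Cfsg.Agent.Helper71.T4 Cfsg.Agent.Helper81.SO
open scoped Kronecker

variable {F : Type*} [Field F] {k : ℕ}

theorem J2_conj (A : Matrix (Fin 2) (Fin 2) F) : Aᵀ * J2 F * A = A.det • J2 F := by
  ext i j
  fin_cases i <;> fin_cases j <;>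
    simp [J2, Matrix.mul_apply, Fin.sum_univ_two, Matrix.det_fin_two] <;> ring

theorem J2_01 : J2 F 0 1 = 1 := by simp [J2]

theorem isSp_kron_iff (S : Matrix (Fin k) (Fin k) F) (A : Matrix (Fin 2) (Fin 2) F)
    (B : Matrix (Fin k) (Fin k) F) : IsSp S (A ⊗ₖ B) ↔ A.det • (Bᵀ * S * B) = S := by
  unfold IsSp gramT
  have h1 : (A ⊗ₖ B)ᵀ * (J2 F ⊗ₖ S) * (A ⊗ₖ B) = J2 F ⊗ₖ (A.det • (Bᵀ * S * B)) := by
    rw [← Matrix.kroneckerMap_transpose, ← Matrix.mul_kronecker_mul, ← Matrix.mul_kronecker_mul,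
      J2_conj, Matrix.smul_kronecker, Matrix.kronecker_smul]
  rw [h1]
  constructor
  · intro h
    ext l l'
    have := congrFun (congrFun h (0, l)) (1, l')
    simpa [Matrix.kronecker_apply, J2_01] using this
  · intro h
    rw [h]

theorem isSp_one_kron (S : Matrix (Fin k) (Fin k) F) (h : Matrix (Fin k) (Fin k) F)
    (hh : hᵀ * S * h = S) : IsSp S ((1 : Matrix (Fin 2) (Fin 2) F) ⊗ₖ h) := by
  rw [isSp_kron_iff, Matrix.det_one, one_smul, hh]

theorem isSp_kron_one (S : Matrix (Fin k) (Fin k) F) (A : Matrix (Fin 2) (Fin 2) F)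
    (hA : A.det = 1) : IsSp S (A ⊗ₖ (1 : Matrix (Fin k) (Fin k) F)) := by
  rw [isSp_kron_iff, hA, one_smul, Matrix.transpose_one, Matrix.one_mul, Matrix.mul_one]

theorem isSp_X_iff (S : Matrix (Fin k) (Fin k) F) (hS : Sᵀ = S) (B : Matrix (Fin k) (Fin k) F) :
    IsSp S (X B) ↔ Bᵀ * S = S * B := by
  unfold IsSp gramT X
  have e1 : (Matrix.single (0 : Fin 2) (1 : Fin 2) (1 : F))ᵀ * J2 F
      = Matrix.single (1 : Fin 2) (1 : Fin 2) (1 : F) := by
    ext i j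
    fin_cases i <;> fin_cases j <;> simp [J2, Matrix.mul_apply, Fin.sum_univ_two, Matrix.single]
  have e2 : J2 F * Matrix.single (0 : Fin 2) (1 : Fin 2) (1 : F)
      = -Matrix.single (1 : Fin 2) (1 : Fin 2) (1 : F) := by
    ext i j
    fin_cases i <;> fin_cases j <;> simp [J2, Matrix.mul_apply, Fin.sum_univ_two, Matrix.single]
  have e3 : Matrix.single (1 : Fin 2) (1 : Fin 2) (1 : F) *
      Matrix.single (0 : Fin 2) (1 : Fin 2) (1 : F) = 0 := by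
    ext i j
    fin_cases i <;> fin_cases j <;> simp [Matrix.mul_apply, Fin.sum_univ_two, Matrix.single]
  have t1 : ((Matrix.single (0 : Fin 2) (1 : Fin 2) (1 : F))ᵀ ⊗ₖ Bᵀ) * (J2 F ⊗ₖ S)
      = Matrix.single (1 : Fin 2) (1 : Fin 2) (1 : F) ⊗ₖ (Bᵀ * S) := by
    rw [← Matrix.mul_kronecker_mul, e1]
  have t2 : (J2 F ⊗ₖ S) * (Matrix.single (0 : Fin 2) (1 : Fin 2) (1 : F) ⊗ₖ B)
      = (-Matrix.single (1 : Fin 2) (1 : Fin 2) (1 : F)) ⊗ₖ (S * B) := by
    rw [← Matrix.mul_kronecker_mul, e2]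
  have t3 : (Matrix.single (1 : Fin 2) (1 : Fin 2) (1 : F) ⊗ₖ (Bᵀ * S)) *
      (Matrix.single (0 : Fin 2) (1 : Fin 2) (1 : F) ⊗ₖ B) = 0 := by
    rw [← Matrix.mul_kronecker_mul, e3, Matrix.zero_kronecker]
  have h1 : (1 + Matrix.single (0 : Fin 2) (1 : Fin 2) (1 : F) ⊗ₖ B)ᵀ * (J2 F ⊗ₖ S) *
      (1 + Matrix.single (0 : Fin 2) (1 : Fin 2) (1 : F) ⊗ₖ B)
      = J2 F ⊗ₖ S + Matrix.single (1 : Fin 2) (1 : Fin 2) (1 : F) ⊗ₖ (Bᵀ * S - S * B) := by
    rw [Matrix.transpose_add, Matrix.transpose_one, ← Matrix.kroneckerMap_transpose]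
    have hexp : ∀ Pm Gm Qm : Matrix (Fin 2 × Fin k) (Fin 2 × Fin k) F,
        (1 + Pm) * Gm * (1 + Qm) = Gm + Pm * Gm + Gm * Qm + Pm * Gm * Qm := by
      intro Pm Gm Qm
      noncomm_ring
    rw [hexp, t1, t2, t3]
    ext ⟨i, l⟩ ⟨j, l'⟩
    simp only [Matrix.add_apply, Matrix.kronecker_apply, Matrix.sub_apply, Matrix.neg_apply,
      Matrix.zero_apply]
    ring
  rw [h1]
  constructor
  · intro h
    have h2 : Matrix.single (1 : Fin 2) (1 : Fin 2) (1 : F) ⊗ₖ (Bᵀ * S - S * B) = 0 := by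
      have := congrArg (fun Z => Z - J2 F ⊗ₖ S) h
      simpa using this
    have h3 : Bᵀ * S - S * B = 0 := by
      ext l l'
      have := congrFun (congrFun h2 (1, l)) (1, l')
      simpa [Matrix.kronecker_apply] using this
    exact sub_eq_zero.mp h3
  · intro h
    rw [h, sub_self, Matrix.kronecker_zero, add_zero]

theorem pt_dot_pt (u a : Fin 2 → F) (w b : Fin k → F) :
    pt u w ⬝ᵥ pt a b = (u ⬝ᵥ a) * (w ⬝ᵥ b) := by
  simp only [dotProduct, pt, Fintype.sum_prod_type, Finset.sum_mul_sum]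
  refine Finset.sum_congr rfl fun i _ => Finset.sum_congr rfl fun l _ => ?_
  ring

/-- the form `f(x, y) = xᵀ (J2 ⊗ S) y` on pure tensors -/
theorem gram_pt (S : Matrix (Fin k) (Fin k) F) (u u' : Fin 2 → F) (w w' : Fin k → F) :
    pt u w ⬝ᵥ gramT S *ᵥ pt u' w' = (u 0 * u' 1 - u 1 * u' 0) * phi S w w' := by
  unfold gramT phi
  rw [kron_mulVec_pt, pt_dot_pt]
  congr 1
  simp [J2, dotProduct, Matrix.mulVec, Fin.sum_univ_two]
  ring

/-- isometries preserve the form -/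
theorem isSp_form {S : Matrix (Fin k) (Fin k) F} {g : Matrix (Fin 2 × Fin k) (Fin 2 × Fin k) F}
    (hg : IsSp S g) (x y : Fin 2 × Fin k → F) :
    (g *ᵥ x) ⬝ᵥ gramT S *ᵥ (g *ᵥ y) = x ⬝ᵥ gramT S *ᵥ y := by
  unfold IsSp at hg
  have h1 : (g *ᵥ x) ⬝ᵥ gramT S *ᵥ (g *ᵥ y) = x ⬝ᵥ (gᵀ * gramT S * g) *ᵥ y := by
    rw [← Matrix.vecMul_transpose, ← Matrix.dotProduct_mulVec, Matrix.mulVec_mulVec,
      Matrix.mulVec_mulVec, Matrix.mul_assoc]
  rw [h1, hg]

/-- non-degeneracy of the tensor form -/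
theorem gram_nondeg (S : Matrix (Fin k) (Fin k) F) (hdet : S.det ≠ 0) (x : Fin 2 × Fin k → F)
    (h : ∀ y, x ⬝ᵥ gramT S *ᵥ y = 0) : x = 0 := by
  have h1 : Matrix.vecMul x (gramT S) = 0 := by
    ext j
    have := h (Pi.single j 1)
    rw [Matrix.dotProduct_mulVec] at this
    simpa using this
  have hJ : (J2 F).det = 1 := by simp [J2, Matrix.det_fin_two]
  have hu : IsUnit (gramT S).det := by
    unfold gramT
    rw [Matrix.det_kronecker, hJ, one_pow, one_mul]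
    exact isUnit_iff_ne_zero.mpr (pow_ne_zero _ hdet)
  have h2 := congrArg (fun v => Matrix.vecMul v (gramT S)⁻¹) h1
  simp only [Matrix.vecMul_vecMul, Matrix.zero_vecMul] at h2
  rwa [Matrix.mul_nonsing_inv (gramT S) hu, Matrix.vecMul_one] at h2

end Cfsg.Agent.Helper81.SOEA1
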