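import Mathlib.GroupTheory.FiniteAbelian.Duality
import Mathlib.RingTheory.RootsOfUnity.AlgebraicallyClosed
import Mathlib.Analysis.Complex.Polynomial.Basic
import Mathlib.Analysis.Complex.Norm
import Mathlib.Tactic

/-!
# Linear characters of a finite commutative group

Orthogonality relations for the homomorphisms `Q →* ℂˣ` of a finite commutative group `Q`.
-/

set_option autoImplicit false
open scoped ComplexConjugate

namespace Cfsg.Agent.Helper81

variable {Q : Type*} [CommGroup Q] [Fintype Q]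

theorem linChar_norm (lam : Q →* ℂˣ) (q : Q) : ‖((lam q : ℂˣ) : ℂ)‖ = 1 := by
  have h1 : ((lam q : ℂˣ) : ℂ) ^ Fintype.card Q = 1 := by
    rw [← Units.val_pow_eq_pow_val, ← map_pow, pow_card_eq_one, map_one, Units.val_one]
  exact Complex.norm_eq_one_of_pow_eq_one h1 Fintype.card_ne_zero

theorem linChar_conj (lam : Q →* ℂˣ) (q : Q) :
    conj ((lam q : ℂˣ) : ℂ) = ((lam q⁻¹ : ℂˣ) : ℂ) := by
  rw [map_inv, Units.val_inv_eq_inv_val, Complex.inv_def, Complex.normSq_eq_norm_sq,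
    linChar_norm lam q]
  simp

theorem sum_linChar [DecidableEq (Q →* ℂˣ)] (lam : Q →* ℂˣ) :
    ∑ q : Q, ((lam q : ℂˣ) : ℂ) = if lam = 1 then (Fintype.card Q : ℂ) else 0 := by
  split_ifs with h
  · rw [h]
    simp
  · obtain ⟨a, ha⟩ : ∃ a : Q, lam a ≠ 1 := by
      by_contra hcon
      push Not at hcon
      exact h (MonoidHom.ext fun q => by rw [hcon q]; rfl)
    have h1 : ((lam a : ℂˣ) : ℂ) * ∑ q : Q, ((lam q : ℂˣ) : ℂ) = ∑ q : Q, ((lam q : ℂˣ) : ℂ) := by
      rw [Finset.mul_sum]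
      refine Fintype.sum_equiv (Equiv.mulLeft a) _ _ (fun q => ?_)
      rw [Equiv.coe_mulLeft, map_mul, Units.val_mul]
    have h2 : (((lam a : ℂˣ) : ℂ) - 1) * ∑ q : Q, ((lam q : ℂˣ) : ℂ) = 0 := by
      rw [sub_mul, h1, one_mul, sub_self]
    rcases mul_eq_zero.mp h2 with h3 | h3
    · exfalso
      apply ha
      apply Units.ext
      rw [Units.val_one]
      linear_combination h3
    · exact h3

theorem sum_linChar_conj [DecidableEq (Q →* ℂˣ)] (lam : Q →* ℂˣ) :
    ∑ q : Q, conj ((lam q : ℂˣ) : ℂ) = if lam = 1 then (Fintype.card Q : ℂ) else 0 := by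
  rw [← map_sum, sum_linChar]
  split_ifs <;> simp

theorem sum_linChar_conj_mul [DecidableEq (Q →* ℂˣ)] (lam mu : Q →* ℂˣ) :
    ∑ q : Q, conj ((lam q : ℂˣ) : ℂ) * ((mu q : ℂˣ) : ℂ)
      = if lam = mu then (Fintype.card Q : ℂ) else 0 := by
  have h1 : ∀ q : Q, conj ((lam q : ℂˣ) : ℂ) * ((mu q : ℂˣ) : ℂ)
      = (((lam⁻¹ * mu) q : ℂˣ) : ℂ) := by
    intro q
    rw [linChar_conj, MonoidHom.mul_apply, MonoidHom.inv_apply, map_inv, Units.val_mul]
  simp only [h1]
  rw [sum_linChar]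
  have h2 : lam⁻¹ * mu = 1 ↔ lam = mu := by
    constructor
    · intro h
      ext q
      have h3 := congrArg (fun f : Q →* ℂˣ => ((f q : ℂˣ) : ℂ)) h
      simp only [MonoidHom.mul_apply, MonoidHom.inv_apply, MonoidHom.one_apply, Units.val_mul,
        Units.val_one, Units.val_inv_eq_inv_val] at h3
      have h4 : ((lam q : ℂˣ) : ℂ) ≠ 0 := Units.ne_zero _
      field_simp at h3
      exact h3.symm
    · intro h
      rw [h]
      ext q
      simp
  simp only [h2]

theorem card_linChar : Nat.card (Q →* ℂˣ) = Fintype.card Q := by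
  have : NeZero ((Monoid.exponent Q : ℕ) : ℂ) := ⟨by
    exact_mod_cast Monoid.exponent_ne_zero_of_finite⟩
  rw [CommGroup.card_monoidHom_of_hasEnoughRootsOfUnity Q ℂ, Nat.card_eq_fintype_card]

theorem sum_dual [Fintype (Q →* ℂˣ)] [DecidableEq Q] (q : Q) :
    ∑ lam : Q →* ℂˣ, ((lam q : ℂˣ) : ℂ) = if q = 1 then (Fintype.card Q : ℂ) else 0 := by
  split_ifs with h
  · rw [h]
    simp only [map_one, Units.val_one, Finset.sum_const, Finset.card_univ, nsmul_eq_mul, mul_one]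
    rw [← Nat.card_eq_fintype_card, card_linChar]
  · have : NeZero ((Monoid.exponent Q : ℕ) : ℂ) := ⟨by
      exact_mod_cast Monoid.exponent_ne_zero_of_finite⟩
    obtain ⟨φ, hφ⟩ := CommGroup.exists_apply_ne_one_of_hasEnoughRootsOfUnity Q ℂ h
    have h1 : ((φ q : ℂˣ) : ℂ) * ∑ lam : Q →* ℂˣ, ((lam q : ℂˣ) : ℂ)
        = ∑ lam : Q →* ℂˣ, ((lam q : ℂˣ) : ℂ) := by
      rw [Finset.mul_sum]
      refine Fintype.sum_equiv (Equiv.mulLeft φ) _ _ (fun lam => ?_)
      rw [Equiv.coe_mulLeft, MonoidHom.mul_apply, Units.val_mul]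
    have h2 : (((φ q : ℂˣ) : ℂ) - 1) * ∑ lam : Q →* ℂˣ, ((lam q : ℂˣ) : ℂ) = 0 := by
      rw [sub_mul, h1, one_mul, sub_self]
    rcases mul_eq_zero.mp h2 with h3 | h3
    · exfalso
      apply hφ
      apply Units.ext
      rw [Units.val_one]
      linear_combination h3
    · exact h3

end Cfsg.Agent.Helper81
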