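/-
helper81: fast (packed chain table) checkers for helper18's table conditions `PosClosed`, `Stab`, `StepOK` of
the Levi recursion for involutions in characteristic two, for the simply laced data (every pair of roots has
no commutator term or exactly one).  Generic in the datum `D`, given helper17's `chainPackOK D packs`.
-/
import Cfsg.Agent.Helper17.ChevChainPack
import Cfsg.Agent.Helper18.RSubDefs

set_option autoImplicit false
set_option linter.unusedSectionVars false
set_option linter.unusedVariables false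

namespace Cfsg.Agent.Helper81

open Cfsg Cfsg.Lie Cfsg.Agent.Helper17 Cfsg.Agent.Helper18.RSub

theorem chf_commTerms_nil {D : ChevalleyDatum} {r s : ℕ} (h1 : D.chainEntry r s = [])
    (h2 : D.chainEntry s r = []) : D.commTerms r s = [] := by
  unfold ChevalleyDatum.commTerms ChevalleyDatum.chainRoot ChevalleyDatum.chainM
  rw [h1, h2]
  rfl

theorem chf_commTerms_one {D : ChevalleyDatum} {r s k : ℕ} {M : ℤ} {e : ℕ × ℤ}
    (h1 : D.chainEntry r s = [(k, M)]) (h2 : D.chainEntry s r = [e]) :
    D.commTerms r s = [(k, M, 1, 1)] := by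
  unfold ChevalleyDatum.commTerms ChevalleyDatum.chainRoot ChevalleyDatum.chainM
  rw [h1, h2]
  rfl

/-- Every term of the commutator formula of `(r, s)` passes `q`; read off the packed chain table (the pair has
no term or exactly one). -/
def ctB (packs : List ℕ) (r s : ℕ) (q : ℕ → ℤ → Bool) : Bool :=
  match unpackEntry (cfld (packs.getD r 0) s), unpackEntry (cfld (packs.getD s 0) r) with
  | [], [] => true
  | [(k, M)], [_] => q k M
  | _, _ => false

theorem ctB_spec {D : ChevalleyDatum} {packs : List ℕ} {r s : ℕ}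
    (hp : chainPackOK D packs = true) (hr : r < D.nroots) (hs : s < D.nroots) {q : ℕ → ℤ → Bool}
    (h : ctB packs r s q = true) : ∀ c ∈ D.commTerms r s, q c.1 c.2.1 = true := by
  unfold ctB at h
  rw [← chainEntry_of_packOK hp hr hs, ← chainEntry_of_packOK hp hs hr] at h
  split at h
  · next h1 h2 =>
    rw [chf_commTerms_nil h1 h2]
    intro c hc
    exact absurd hc List.not_mem_nil
  · next k M e h1 h2 =>
    rw [chf_commTerms_one h1 h2]
    intro c hc
    rw [List.mem_singleton] at hc
    subst hc
    exact h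
  · exact absurd h (by simp)

/-- The set of a list of natural numbers as a bit mask. -/
def maskOf (A : List ℕ) : ℕ := A.foldr (fun a m => m ||| 2 ^ a) 0

theorem mem_of_testBit_maskOf {A : List ℕ} {k : ℕ} (h : (maskOf A).testBit k = true) : k ∈ A := by
  induction A with
  | nil =>
    have e : maskOf [] = 0 := rfl
    rw [e, Nat.zero_testBit] at h
    exact absurd h (by decide)
  | cons a A ih =>
    have e : maskOf (a :: A) = maskOf A ||| 2 ^ a := rfl
    rw [e, Nat.testBit_or, Bool.or_eq_true, Nat.testBit_two_pow] at h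
    rcases h with h | h
    · exact List.mem_cons_of_mem _ (ih h)
    · rw [decide_eq_true_eq] at h
      rw [← h]
      exact List.mem_cons_self

/-- The fast check of `PosClosed`. -/
def posClosedB (D : ChevalleyDatum) (packs : List ℕ) (A : List ℕ) : Bool :=
  (A.all fun r => decide (D.IsPosRoot r)) &&
    A.all fun r => A.all fun s => !(decide (r < s)) || ctB packs r s fun k _ => (maskOf A).testBit k

theorem posClosed_of_fast {D : ChevalleyDatum} {packs : List ℕ} {A : List ℕ}
    (hp : chainPackOK D packs = true) (h : posClosedB D packs A = true) : PosClosed D A := by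
  unfold posClosedB at h
  rw [Bool.and_eq_true, List.all_eq_true, List.all_eq_true] at h
  obtain ⟨h1, h2⟩ := h
  have hpos : ∀ r ∈ A, D.IsPosRoot r := fun r hr => of_decide_eq_true (h1 r hr)
  refine ⟨hpos, fun r hr s hs hlt c hc => ?_⟩
  have h3 := h2 r hr
  rw [List.all_eq_true] at h3
  have h4 := h3 s hs
  rw [Bool.or_eq_true, Bool.not_eq_true', decide_eq_false_iff_not] at h4
  rcases h4 with h4 | h4
  · exact absurd hlt h4
  · exact mem_of_testBit_maskOf (ctB_spec hp (hpos r hr).1 (hpos s hs).1 h4 c hc)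

/-- The fast check of `Stab`. -/
def stabB (packs : List ℕ) (r : ℕ) (A : List ℕ) : Bool :=
  A.all fun s => ctB packs r s fun k M => (maskOf A).testBit k || decide (M % 2 = 0)

theorem stab_of_fast {D : ChevalleyDatum} {packs : List ℕ} {r : ℕ} {A : List ℕ}
    (hp : chainPackOK D packs = true) (hr : r < D.nroots) (hA : ∀ s ∈ A, s < D.nroots)
    (h : stabB packs r A = true) : Stab D r A := by
  intro s hs c hc
  unfold stabB at h
  rw [List.all_eq_true] at h
  have h1 := ctB_spec hp hr (hA s hs) (h s hs) c hc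
  rw [Bool.or_eq_true, decide_eq_true_eq] at h1
  rcases h1 with h1 | h1
  · exact Or.inl (mem_of_testBit_maskOf h1)
  · exact Or.inr h1

/-- The fast part of the check of `StepOK`: the closed set and the four stabilities. -/
def stepB (D : ChevalleyDatum) (packs : List ℕ) (p b t : ℕ) (A' : List ℕ) : Bool :=
  posClosedB D packs A' && decide (p < D.nroots) && stabB packs p A' && stabB packs b A' &&
    stabB packs t A'

/-- The remaining (cheap) conditions of `StepOK`. -/
def StepRest (D : ChevalleyDatum) (p b t : ℕ) (A' : List ℕ) : Prop :=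
  D.IsPosRoot b ∧ D.IsPosRoot t ∧ b ≠ t ∧ b ≠ p ∧ t ≠ p ∧ b ∉ A' ∧ t ∉ A' ∧
  (∀ c ∈ D.commTerms b t, c.1 ∈ A' ∨ c.2.1 % 2 = 0) ∧
  (∀ c ∈ D.commTerms p t, c.1 ∈ A' ∨ c.2.1 % 2 = 0) ∧
  (∀ c ∈ D.commTerms p b, c.1 = t ∨ c.1 ∈ A' ∨ c.2.1 % 2 = 0) ∧
  ((D.commTerms p b).filter (fun c => decide (c.1 = t))).map (fun c => (c.2.1 % 2, c.2.2.2)) = [(1, 1)]

instance (D : ChevalleyDatum) (p b t : ℕ) (A' : List ℕ) : Decidable (StepRest D p b t A') := by
  unfold StepRest; infer_instance

theorem stepOK_of_fast {D : ChevalleyDatum} {packs : List ℕ} {p b t : ℕ} {A' : List ℕ}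
    (hp : chainPackOK D packs = true) (h : stepB D packs p b t A' = true)
    (hr : StepRest D p b t A') : StepOK D p b t A' := by
  unfold stepB at h
  simp only [Bool.and_eq_true, decide_eq_true_eq] at h
  obtain ⟨⟨⟨⟨h1, h2⟩, h3⟩, h4⟩, h5⟩ := h
  obtain ⟨r1, r2, r3, r4, r5, r6, r7, r8, r9, r10, r11⟩ := hr
  have hc := posClosed_of_fast hp h1
  have hA : ∀ s ∈ A', s < D.nroots := fun s hs => (hc.1 s hs).1
  exact ⟨hc, stab_of_fast hp h2 hA h3, r1, r2, r3, r4, r5, r6, r7, stab_of_fast hp r1.1 hA h4,
    stab_of_fast hp r2.1 hA h5, r8, r9, r10, r11⟩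

end Cfsg.Agent.Helper81
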