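/-
helper81: S2181 (`E₇(q)`, `q` even, five classes of involutions) - the Levi subsystems of the recursion and their standard words
(generated; the tables are checked by the kernel).
-/
import Cfsg.Agent.Helper38.ChInvStep

set_option autoImplicit false
set_option linter.unusedSectionVars false
set_option linter.unusedVariables false
set_option maxRecDepth 100000

namespace Cfsg.Agent.Helper81

open Cfsg Cfsg.Lie Cfsg.Agent.Helper36 Cfsg.Agent.Helper17 Cfsg.Agent.Helper18 Cfsg.Agent.Helper18.RSub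
  Cfsg.Agent.Helper38


/-- The positive roots of the Levi subsystem of the fundamental roots `2`. -/
def e7iP2 : List ℕ := [78]

/-- The standard words of the subsystem `2`. -/
def e7iL2 : List (List ℕ) := [[], [78]]

/-- The positive roots of the Levi subsystem of the fundamental roots `3`. -/
def e7iP3 : List ℕ := [73]

/-- The standard words of the subsystem `3`. -/
def e7iL3 : List (List ℕ) := [[], [73]]

/-- The positive roots of the Levi subsystem of the fundamental roots `5`. -/
def e7iP5 : List ℕ := [66]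

/-- The standard words of the subsystem `5`. -/
def e7iL5 : List (List ℕ) := [[], [66]]

/-- The positive roots of the Levi subsystem of the fundamental roots `7`. -/
def e7iP7 : List ℕ := [63]

/-- The standard words of the subsystem `7`. -/
def e7iL7 : List (List ℕ) := [[], [63]]

/-- The positive roots of the Levi subsystem of the fundamental roots `23`. -/
def e7iP23 : List ℕ := [73, 78]

/-- The standard words of the subsystem `23`. -/
def e7iL23 : List (List ℕ) := [[], [78], [78, 73], [73], [73, 78]]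

/-- The positive roots of the Levi subsystem of the fundamental roots `25`. -/
def e7iP25 : List ℕ := [66, 78]

/-- The standard words of the subsystem `25`. -/
def e7iL25 : List (List ℕ) := [[], [78], [78, 66], [66], [66, 78]]

/-- The positive roots of the Levi subsystem of the fundamental roots `27`. -/
def e7iP27 : List ℕ := [63, 78]

/-- The standard words of the subsystem `27`. -/
def e7iL27 : List (List ℕ) := [[], [78], [78, 63], [63], [63, 78]]

/-- The positive roots of the Levi subsystem of the fundamental roots `35`. -/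
def e7iP35 : List ℕ := [66, 73]

/-- The standard words of the subsystem `35`. -/
def e7iL35 : List (List ℕ) := [[], [73], [73, 66], [66], [66, 73]]

/-- The positive roots of the Levi subsystem of the fundamental roots `37`. -/
def e7iP37 : List ℕ := [63, 73]

/-- The standard words of the subsystem `37`. -/
def e7iL37 : List (List ℕ) := [[], [73], [73, 63], [63], [63, 73]]

/-- The positive roots of the Levi subsystem of the fundamental roots `57`. -/
def e7iP57 : List ℕ := [63, 66]

/-- The standard words of the subsystem `57`. -/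
def e7iL57 : List (List ℕ) := [[], [66], [66, 63], [63], [63, 66]]

/-- The positive roots of the Levi subsystem of the fundamental roots `235`. -/
def e7iP235 : List ℕ := [66, 73, 78]

/-- The standard words of the subsystem `235`. -/
def e7iL235 : List (List ℕ) := [[], [78], [78, 73], [78, 73, 66], [78, 66], [78, 66, 73], [73], [73, 78], [73, 78, 66], [73, 66], [73, 66, 78], [66], [66, 78], [66, 78, 73], [66, 73], [66, 73, 78]]

/-- The positive roots of the Levi subsystem of the fundamental roots `237`. -/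
def e7iP237 : List ℕ := [63, 73, 78]

/-- The standard words of the subsystem `237`. -/
def e7iL237 : List (List ℕ) := [[], [78], [78, 73], [78, 73, 63], [78, 63], [78, 63, 73], [73], [73, 78], [73, 78, 63], [73, 63], [73, 63, 78], [63], [63, 78], [63, 78, 73], [63, 73], [63, 73, 78]]

/-- The positive roots of the Levi subsystem of the fundamental roots `257`. -/
def e7iP257 : List ℕ := [63, 66, 78]

/-- The standard words of the subsystem `257`. -/
def e7iL257 : List (List ℕ) := [[], [78], [78, 66], [78, 66, 63], [78, 63], [78, 63, 66], [66], [66, 78], [66, 78, 63], [66, 63], [66, 63, 78], [63], [63, 78], [63, 78, 66], [63, 66], [63, 66, 78]]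

/-- The positive roots of the Levi subsystem of the fundamental roots `357`. -/
def e7iP357 : List ℕ := [63, 66, 73]

/-- The standard words of the subsystem `357`. -/
def e7iL357 : List (List ℕ) := [[], [73], [73, 66], [73, 66, 63], [73, 63], [73, 63, 66], [66], [66, 73], [66, 73, 63], [66, 63], [66, 63, 73], [63], [63, 73], [63, 73, 66], [63, 66], [63, 66, 73]]

/-- The positive roots of the Levi subsystem of the fundamental roots `2345`. -/
def e7iP2345 : List ℕ := [66, 69, 70, 73, 74, 75, 78, 79, 80, 83, 84, 87]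

/-- The standard words of the subsystem `2345`. -/
def e7iL2345 : List (List ℕ) := [[], [87], [87, 78], [87, 78, 73], [87, 78, 73, 66], [87, 78, 66], [87, 78, 66, 73], [87, 73], [87, 73, 78], [87, 73, 78, 66], [87, 73, 66], [87, 73, 66, 78], [87, 66], [87, 66, 78], [87, 66, 78, 73], [87, 66, 73], [87, 66, 73, 78]]

/-- The positive roots of the Levi subsystem of the fundamental roots `2357`. -/
def e7iP2357 : List ℕ := [63, 66, 73, 78]

/-- The standard words of the subsystem `2357`. -/
def e7iL2357 : List (List ℕ) := [[], [78], [78, 73], [78, 73, 66], [78, 73, 66, 63], [78, 73, 63], [78, 73, 63, 66], [78, 66], [78, 66, 73], [78, 66, 73, 63], [78, 66, 63], [78, 66, 63, 73], [78, 63], [78, 63, 73], [78, 63, 73, 66], [78, 63, 66], [78, 63, 66, 73], [73], [73, 78], [73, 78, 66], [73, 78, 66, 63], [73, 78, 63], [73, 78, 63, 66], [73, 66], [73, 66, 78], [73, 66, 78, 63], [73, 66, 63], [73, 66, 63, 78], [73, 63], [73, 63, 78], [73, 63, 78, 66], [73, 63, 66], [73, 63, 66, 78], [66], [66, 78],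 [66, 78, 73], [66, 78, 73, 63], [66, 78, 63], [66, 78, 63, 73], [66, 73], [66, 73, 78], [66, 73, 78, 63], [66, 73, 63], [66, 73, 63, 78], [66, 63], [66, 63, 78], [66, 63, 78, 73], [66, 63, 73], [66, 63, 73, 78], [63], [63, 78], [63, 78, 73], [63, 78, 73, 66], [63, 78, 66], [63, 78, 66, 73], [63, 73], [63, 73, 78], [63, 73, 78, 66], [63, 73, 66], [63, 73, 66, 78], [63, 66], [63, 66, 78], [63, 66, 78, 73], [63, 66, 73], [63, 66, 73, 78]]

/-- The positive roots of the Levi subsystem of the fundamental roots `23457`. -/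
def e7iP23457 : List ℕ := [63, 66, 69, 70, 73, 74, 75, 78, 79, 80, 83, 84, 87]

/-- The standard words of the subsystem `23457`. -/
def e7iL23457 : List (List ℕ) := [[], [87], [87, 78], [87, 78, 73], [87, 78, 73, 66], [87, 78, 73, 66, 63], [87, 78, 73, 63], [87, 78, 73, 63, 66], [87, 78, 66], [87, 78, 66, 73], [87, 78, 66, 73, 63], [87, 78, 66, 63], [87, 78, 66, 63, 73], [87, 78, 63], [87, 78, 63, 73], [87, 78, 63, 73, 66], [87, 78, 63, 66], [87, 78, 63, 66, 73], [87, 73], [87, 73, 78], [87, 73, 78, 66], [87, 73, 78, 66, 63], [87, 73, 78, 63], [87, 73, 78, 63, 66], [87, 73, 66], [87, 73, 66, 78], [87, 73, 66, 78, 63], [87, 73, 66, 63], [87, 73, 66, 63, 78], [87, 73, 63], [87, 73, 63, 78], [87, 73, 63, 78, 66], [87, 73, 63, 66], [87, 73, 63, 66, 78], [87, 66], [87, 66, 78], [87, 66, 78, 73], [87, 66, 78, 73, 63], [87, 66, 78, 63], [87, 66, 78, 63, 73], [87, 66, 73], [87, 66, 73, 78], [87, 66, 73, 78, 63], [87, 66, 73, 63], [87, 66, 73, 63, 78], [87, 66, 63], [87, 66, 63, 78], [87, 66, 63,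 78, 73], [87, 66, 63, 73], [87, 66, 63, 73, 78], [87, 63], [87, 63, 78], [87, 63, 78, 73], [87, 63, 78, 73, 66], [87, 63, 78, 66], [87, 63, 78, 66, 73], [87, 63, 73], [87, 63, 73, 78], [87, 63, 73, 78, 66], [87, 63, 73, 66], [87, 63, 73, 66, 78], [87, 63, 66], [87, 63, 66, 78], [87, 63, 66, 78, 73], [87, 63, 66, 73], [87, 63, 66, 73, 78], [63], [63, 87], [63, 87, 78], [63, 87, 78, 73], [63, 87, 78, 73, 66], [63, 87, 78, 66], [63, 87, 78, 66, 73], [63, 87, 73], [63, 87, 73, 78], [63, 87, 73, 78, 66], [63, 87, 73, 66], [63, 87, 73, 66, 78], [63, 87, 66], [63, 87, 66, 78], [63, 87, 66, 78, 73], [63, 87, 66, 73], [63, 87, 66, 73, 78]]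

/-- The positive roots of the Levi subsystem of the fundamental roots `234567`. -/
def e7iP234567 : List ℕ := [63, 64, 65, 66, 67, 68, 69, 70, 71, 72, 73, 74, 75, 76, 77, 78, 79, 80, 81, 82, 83, 84, 85, 86, 87, 88, 89, 90, 91, 92]

/-- The standard words of the subsystem `234567`. -/
def e7iL234567 : List (List ℕ) := [[], [92], [92, 87], [92, 87, 78], [92, 87, 78, 73], [92, 87, 78, 73, 66], [92, 87, 78, 73, 66, 63], [92, 87, 78, 73, 63], [92, 87, 78, 73, 63, 66], [92, 87, 78, 66], [92, 87, 78, 66, 73], [92, 87, 78, 66, 73, 63], [92, 87, 78, 66, 63], [92, 87, 78, 66, 63, 73], [92, 87, 78, 63], [92, 87, 78, 63, 73], [92, 87, 78, 63, 73, 66], [92, 87, 78, 63, 66], [92, 87, 78, 63, 66, 73], [92, 87, 73], [92, 87, 73, 78], [92, 87, 73, 78, 66], [92, 87, 73, 78, 66, 63], [92, 87, 73, 78, 63], [92, 87, 73, 78, 63, 66], [92, 87, 73, 66], [92, 87, 73, 66, 78], [92, 87, 73, 66, 78, 63], [92, 87, 73, 66, 63], [92, 87, 73, 66, 63, 78], [92, 87, 73, 63], [92, 87, 73, 63, 78], [92, 87, 73, 63, 78, 66],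 [92, 87, 73, 63, 66], [92, 87, 73, 63, 66, 78], [92, 87, 66], [92, 87, 66, 78], [92, 87, 66, 78, 73], [92, 87, 66, 78, 73, 63], [92, 87, 66, 78, 63], [92, 87, 66, 78, 63, 73], [92, 87, 66, 73], [92, 87, 66, 73, 78], [92, 87, 66, 73, 78, 63], [92, 87, 66, 73, 63], [92, 87, 66, 73, 63, 78], [92, 87, 66, 63], [92, 87, 66, 63, 78], [92, 87, 66, 63, 78, 73], [92, 87, 66, 63, 73], [92, 87, 66, 63, 73, 78], [92, 87, 63], [92, 87, 63, 78], [92, 87, 63, 78, 73], [92, 87, 63, 78, 73, 66], [92, 87, 63, 78, 66], [92, 87, 63, 78, 66, 73], [92, 87, 63, 73], [92, 87, 63, 73, 78], [92, 87, 63, 73, 78, 66], [92, 87, 63, 73, 66], [92, 87, 63, 73, 66, 78], [92, 87, 63, 66], [92, 87, 63, 66, 78], [92, 87, 63, 66, 78, 73], [92, 87, 63, 66, 73], [92, 87, 63, 66, 73, 78], [92, 63], [92, 63, 87], [92, 63, 87, 78], [92, 63, 87, 78, 73], [92, 63, 87, 78, 73, 66], [92, 63, 87, 78, 66], [92, 63, 87, 78, 66, 73], [92, 63, 87, 73], [92, 63, 87, 73, 78], [92, 63, 87, 73, 78, 66], [92, 63, 87, 73, 66], [92, 63, 87, 73,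 66, 78], [92, 63, 87, 66], [92, 63, 87, 66, 78], [92, 63, 87, 66, 78, 73], [92, 63, 87, 66, 73], [92, 63, 87, 66, 73, 78]]

/-- The positive roots of the Levi subsystem of the fundamental roots `1234567`. -/
def e7iP1234567 : List ℕ := [63, 64, 65, 66, 67, 68, 69, 70, 71, 72, 73, 74, 75, 76, 77, 78, 79, 80, 81, 82, 83, 84, 85, 86, 87, 88, 89, 90, 91, 92, 93, 94, 95, 96, 97, 98, 99, 100, 101, 102, 103, 104, 105, 106, 107, 108, 109, 110, 111, 112, 113, 114, 115, 116, 117, 118, 119, 120, 121, 122, 123, 124, 125]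

/-- The standard words of the subsystem `1234567`. -/
def e7iL1234567 : List (List ℕ) := [[], [125], [125, 92], [125, 92, 87], [125, 92, 87, 78], [125, 92, 87, 78, 73], [125, 92, 87, 78, 73, 66], [125, 92, 87, 78, 73, 66, 63], [125, 92, 87, 78, 73, 63], [125, 92, 87, 78, 73, 63, 66], [125, 92, 87, 78, 66], [125, 92, 87, 78, 66, 73], [125, 92, 87, 78, 66, 73, 63], [125, 92, 87, 78, 66, 63], [125, 92, 87, 78, 66, 63, 73], [125, 92, 87, 78, 63], [125, 92, 87, 78, 63, 73], [125, 92, 87, 78, 63, 73, 66], [125, 92, 87, 78, 63, 66], [125, 92, 87, 78, 63, 66, 73], [125, 92, 87, 73], [125, 92, 87, 73, 78], [125, 92, 87, 73, 78, 66], [125, 92, 87, 73, 78, 66, 63], [125, 92, 87, 73, 78, 63], [125, 92, 87, 73, 78, 63, 66], [125, 92, 87, 73, 66], [125, 92, 87, 73, 66, 78], [125, 92, 87, 73, 66, 78, 63], [125, 92, 87, 73, 66, 63], [125, 92, 87, 73, 66, 63, 78], [125, 92, 87, 73, 63], [125, 92, 87, 73, 63, 78], [125, 92, 87, 73, 63, 78, 66], [125, 92, 87, 73, 63, 66], [125, 92, 87, 73, 63, 66, 78], [125,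 92, 87, 66], [125, 92, 87, 66, 78], [125, 92, 87, 66, 78, 73], [125, 92, 87, 66, 78, 73, 63], [125, 92, 87, 66, 78, 63], [125, 92, 87, 66, 78, 63, 73], [125, 92, 87, 66, 73], [125, 92, 87, 66, 73, 78], [125, 92, 87, 66, 73, 78, 63], [125, 92, 87, 66, 73, 63], [125, 92, 87, 66, 73, 63, 78], [125, 92, 87, 66, 63], [125, 92, 87, 66, 63, 78], [125, 92, 87, 66, 63, 78, 73], [125, 92, 87, 66, 63, 73], [125, 92, 87, 66, 63, 73, 78], [125, 92, 87, 63], [125, 92, 87, 63, 78], [125, 92, 87, 63, 78, 73], [125, 92, 87, 63, 78, 73, 66], [125, 92, 87, 63, 78, 66], [125, 92, 87, 63, 78, 66, 73], [125, 92, 87, 63, 73], [125, 92, 87, 63, 73, 78], [125, 92, 87, 63, 73, 78, 66], [125, 92, 87, 63, 73, 66], [125, 92, 87, 63, 73, 66, 78], [125, 92, 87, 63, 66], [125, 92, 87, 63, 66, 78], [125, 92, 87, 63, 66, 78, 73], [125, 92, 87, 63, 66, 73], [125, 92, 87, 63, 66, 73, 78], [125, 92, 63], [125, 92, 63, 87], [125, 92, 63, 87, 78], [125, 92, 63, 87, 78, 73], [125, 92, 63, 87, 78, 73, 66], [125, 92, 63, 87, 78,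 66], [125, 92, 63, 87, 78, 66, 73], [125, 92, 63, 87, 73], [125, 92, 63, 87, 73, 78], [125, 92, 63, 87, 73, 78, 66], [125, 92, 63, 87, 73, 66], [125, 92, 63, 87, 73, 66, 78], [125, 92, 63, 87, 66], [125, 92, 63, 87, 66, 78], [125, 92, 63, 87, 66, 78, 73], [125, 92, 63, 87, 66, 73], [125, 92, 63, 87, 66, 73, 78]]

end Cfsg.Agent.Helper81
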