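/-
helper81: S2181 (`E₇(q)`, `q` even, five classes of involutions) - the fusion of the sets of pairwise orthogonal roots of the standard words
(generated: Weyl moves, permutations of commuting letters and one checked fusion inside a subsystem `D₄`).
-/
import Cfsg.Agent.Helper38.ChInvFus

set_option autoImplicit false
set_option linter.unusedSectionVars false
set_option linter.unusedVariables false
set_option maxRecDepth 100000

namespace Cfsg.Agent.Helper81

open Cfsg Cfsg.Lie Cfsg.Agent.Helper36 Cfsg.Agent.Helper17 Cfsg.Agent.Helper18 Cfsg.Agent.Helper38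


/-- The checked fusion in `D₄`: `x_125 x_92 x_87 x_73` is conjugate to `x_125 x_92 x_87` by the word `[22, 32, 94, 17]`. -/
theorem e7f_d4 : (goodWord chevE7 (oneW ([22, 32, 94, 17] ++ [125, 92, 87, 73])) && goodWord chevE7 (oneW ([125, 92, 87] ++ [22, 32, 94, 17])) &&
    Cfsg.Agent.Helper18.allBelow (chevE7.rank + chevE7.nroots)
      (fun k => allEvenF (fsub (fapplyW chevE7 (oneW ([22, 32, 94, 17] ++ [125, 92, 87, 73])) [(k, 1, 0)])
        (fapplyW chevE7 (oneW ([125, 92, 87] ++ [22, 32, 94, 17])) [(k, 1, 0)])))) = true := by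
  decide +kernel

section

variable {F : Type*} [Field F] {η : ℕ → ℕ → ℤ}

/-- The five representatives. -/
def e7Reps : List (List ℕ) := [[125], [125, 92], [125, 92, 63], [125, 92, 87], [125, 92, 87, 63]]

theorem e7f_set_125 [CharP F 2] (R : BRel chevE7 F η) : ChiFus R [125] [125] :=
  chi_fus_refl R [125]

theorem e7f_set_125_92 [CharP F 2] (R : BRel chevE7 F η) : ChiFus R [125, 92] [125, 92] :=
  chi_fus_refl R [125, 92]

theorem e7f_set_125_92_87 [CharP F 2] (R : BRel chevE7 F η) : ChiFus R [125, 92, 87] [125, 92, 87] :=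
  chi_fus_refl R [125, 92, 87]

theorem e7f_set_125_92_87_78 [CharP F 2] (R : BRel chevE7 F η) : ChiFus R [125, 92, 87, 78] [125, 92, 87, 63] :=
  (chi_fus_trans R (chi_fus_perm R [125, 92, 87, 78] [92, 87, 125, 78] (by decide +kernel) (by decide +kernel))
    (chi_fus_weyl R [5, 6, 4, 5, 0, 2, 3, 4, 1, 3, 2, 0] [92, 87, 125, 78] [125, 92, 87, 63] (by decide +kernel) (by decide +kernel) (by decide +kernel)))

theorem e7f_set_125_92_87_78_73 [CharP F 2] (R : BRel chevE7 F η) : ChiFus R [125, 92, 87, 78, 73] [125, 92, 87, 63] :=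
  (chi_fus_trans R (chi_fus_perm R [125, 92, 87, 78, 73] [125, 92, 87, 73, 78] (by decide +kernel) (by decide +kernel))
    (chi_fus_trans R (chi_fus_chk R [22, 32, 94, 17] [125, 92, 87, 73] [125, 92, 87] [78] e7f_d4 (by decide +kernel))
    (chi_fus_trans R (chi_fus_perm R [125, 92, 87, 78] [92, 87, 125, 78] (by decide +kernel) (by decide +kernel))
    (chi_fus_weyl R [5, 6, 4, 5, 0, 2, 3, 4, 1, 3, 2, 0] [92, 87, 125, 78] [125, 92, 87, 63] (by decide +kernel) (by decide +kernel) (by decide +kernel)))))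

theorem e7f_set_125_92_87_78_73_66 [CharP F 2] (R : BRel chevE7 F η) : ChiFus R [125, 92, 87, 78, 73, 66] [125, 92, 87, 63] :=
  (chi_fus_trans R (chi_fus_perm R [125, 92, 87, 78, 73, 66] [125, 92, 87, 73, 78, 66] (by decide +kernel) (by decide +kernel))
    (chi_fus_trans R (chi_fus_chk R [22, 32, 94, 17] [125, 92, 87, 73] [125, 92, 87] [78, 66] e7f_d4 (by decide +kernel))
    (chi_fus_trans R (chi_fus_perm R [125, 92, 87, 78, 66] [125, 92, 78, 66, 87] (by decide +kernel) (by decide +kernel))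
    (chi_fus_trans R (chi_fus_weyl R [3, 4, 2, 3] [125, 92, 78, 66, 87] [125, 92, 87, 73, 78] (by decide +kernel) (by decide +kernel) (by decide +kernel))
    (chi_fus_trans R (chi_fus_chk R [22, 32, 94, 17] [125, 92, 87, 73] [125, 92, 87] [78] e7f_d4 (by decide +kernel))
    (chi_fus_trans R (chi_fus_perm R [125, 92, 87, 78] [92, 87, 125, 78] (by decide +kernel) (by decide +kernel))
    (chi_fus_weyl R [5, 6, 4, 5, 0, 2, 3, 4, 1, 3, 2, 0] [92, 87, 125, 78] [125, 92, 87, 63] (by decide +kernel) (by decide +kernel) (by decide +kernel))))))))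

theorem e7f_set_125_92_87_78_73_66_63 [CharP F 2] (R : BRel chevE7 F η) : ChiFus R [125, 92, 87, 78, 73, 66, 63] [125, 92, 87, 63] :=
  (chi_fus_trans R (chi_fus_perm R [125, 92, 87, 78, 73, 66, 63] [125, 92, 87, 73, 78, 66, 63] (by decide +kernel) (by decide +kernel))
    (chi_fus_trans R (chi_fus_chk R [22, 32, 94, 17] [125, 92, 87, 73] [125, 92, 87] [78, 66, 63] e7f_d4 (by decide +kernel))
    (chi_fus_trans R (chi_fus_perm R [125, 92, 87, 78, 66, 63] [125, 92, 78, 66, 87, 63] (by decide +kernel) (by decide +kernel))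
    (chi_fus_trans R (chi_fus_weyl R [3, 4, 2, 3] [125, 92, 78, 66, 87, 63] [125, 92, 87, 73, 78, 63] (by decide +kernel) (by decide +kernel) (by decide +kernel))
    (chi_fus_trans R (chi_fus_chk R [22, 32, 94, 17] [125, 92, 87, 73] [125, 92, 87] [78, 63] e7f_d4 (by decide +kernel))
    (chi_fus_trans R (chi_fus_perm R [125, 92, 87, 78, 63] [125, 87, 78, 63, 92] (by decide +kernel) (by decide +kernel))
    (chi_fus_trans R (chi_fus_weyl R [3, 4, 2, 3, 5, 6, 4, 5] [125, 87, 78, 63, 92] [125, 92, 87, 73, 78] (by decide +kernel) (by decide +kernel) (by decide +kernel))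
    (chi_fus_trans R (chi_fus_chk R [22, 32, 94, 17] [125, 92, 87, 73] [125, 92, 87] [78] e7f_d4 (by decide +kernel))
    (chi_fus_trans R (chi_fus_perm R [125, 92, 87, 78] [92, 87, 125, 78] (by decide +kernel) (by decide +kernel))
    (chi_fus_weyl R [5, 6, 4, 5, 0, 2, 3, 4, 1, 3, 2, 0] [92, 87, 125, 78] [125, 92, 87, 63] (by decide +kernel) (by decide +kernel) (by decide +kernel)))))))))))

theorem e7f_set_125_92_87_78_73_63 [CharP F 2] (R : BRel chevE7 F η) : ChiFus R [125, 92, 87, 78, 73, 63] [125, 92, 87, 63] :=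
  (chi_fus_trans R (chi_fus_perm R [125, 92, 87, 78, 73, 63] [125, 92, 87, 73, 78, 63] (by decide +kernel) (by decide +kernel))
    (chi_fus_trans R (chi_fus_chk R [22, 32, 94, 17] [125, 92, 87, 73] [125, 92, 87] [78, 63] e7f_d4 (by decide +kernel))
    (chi_fus_trans R (chi_fus_perm R [125, 92, 87, 78, 63] [125, 87, 78, 63, 92] (by decide +kernel) (by decide +kernel))
    (chi_fus_trans R (chi_fus_weyl R [3, 4, 2, 3, 5, 6, 4, 5] [125, 87, 78, 63, 92] [125, 92, 87, 73, 78] (by decide +kernel) (by decide +kernel) (by decide +kernel))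
    (chi_fus_trans R (chi_fus_chk R [22, 32, 94, 17] [125, 92, 87, 73] [125, 92, 87] [78] e7f_d4 (by decide +kernel))
    (chi_fus_trans R (chi_fus_perm R [125, 92, 87, 78] [92, 87, 125, 78] (by decide +kernel) (by decide +kernel))
    (chi_fus_weyl R [5, 6, 4, 5, 0, 2, 3, 4, 1, 3, 2, 0] [92, 87, 125, 78] [125, 92, 87, 63] (by decide +kernel) (by decide +kernel) (by decide +kernel))))))))

theorem e7f_set_125_92_87_78_66 [CharP F 2] (R : BRel chevE7 F η) : ChiFus R [125, 92, 87, 78, 66] [125, 92, 87, 63] :=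
  (chi_fus_trans R (chi_fus_perm R [125, 92, 87, 78, 66] [125, 92, 78, 66, 87] (by decide +kernel) (by decide +kernel))
    (chi_fus_trans R (chi_fus_weyl R [3, 4, 2, 3] [125, 92, 78, 66, 87] [125, 92, 87, 73, 78] (by decide +kernel) (by decide +kernel) (by decide +kernel))
    (chi_fus_trans R (chi_fus_chk R [22, 32, 94, 17] [125, 92, 87, 73] [125, 92, 87] [78] e7f_d4 (by decide +kernel))
    (chi_fus_trans R (chi_fus_perm R [125, 92, 87, 78] [92, 87, 125, 78] (by decide +kernel) (by decide +kernel))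
    (chi_fus_weyl R [5, 6, 4, 5, 0, 2, 3, 4, 1, 3, 2, 0] [92, 87, 125, 78] [125, 92, 87, 63] (by decide +kernel) (by decide +kernel) (by decide +kernel))))))

theorem e7f_set_125_92_87_78_66_63 [CharP F 2] (R : BRel chevE7 F η) : ChiFus R [125, 92, 87, 78, 66, 63] [125, 92, 87, 63] :=
  (chi_fus_trans R (chi_fus_perm R [125, 92, 87, 78, 66, 63] [125, 92, 78, 66, 87, 63] (by decide +kernel) (by decide +kernel))
    (chi_fus_trans R (chi_fus_weyl R [3, 4, 2, 3] [125, 92, 78, 66, 87, 63] [125, 92, 87, 73, 78, 63] (by decide +kernel) (by decide +kernel) (by decide +kernel))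
    (chi_fus_trans R (chi_fus_chk R [22, 32, 94, 17] [125, 92, 87, 73] [125, 92, 87] [78, 63] e7f_d4 (by decide +kernel))
    (chi_fus_trans R (chi_fus_perm R [125, 92, 87, 78, 63] [125, 87, 78, 63, 92] (by decide +kernel) (by decide +kernel))
    (chi_fus_trans R (chi_fus_weyl R [3, 4, 2, 3, 5, 6, 4, 5] [125, 87, 78, 63, 92] [125, 92, 87, 73, 78] (by decide +kernel) (by decide +kernel) (by decide +kernel))
    (chi_fus_trans R (chi_fus_chk R [22, 32, 94, 17] [125, 92, 87, 73] [125, 92, 87] [78] e7f_d4 (by decide +kernel))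
    (chi_fus_trans R (chi_fus_perm R [125, 92, 87, 78] [92, 87, 125, 78] (by decide +kernel) (by decide +kernel))
    (chi_fus_weyl R [5, 6, 4, 5, 0, 2, 3, 4, 1, 3, 2, 0] [92, 87, 125, 78] [125, 92, 87, 63] (by decide +kernel) (by decide +kernel) (by decide +kernel)))))))))

theorem e7f_set_125_92_87_78_63 [CharP F 2] (R : BRel chevE7 F η) : ChiFus R [125, 92, 87, 78, 63] [125, 92, 87, 63] :=
  (chi_fus_trans R (chi_fus_perm R [125, 92, 87, 78, 63] [125, 87, 78, 63, 92] (by decide +kernel) (by decide +kernel))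
    (chi_fus_trans R (chi_fus_weyl R [3, 4, 2, 3, 5, 6, 4, 5] [125, 87, 78, 63, 92] [125, 92, 87, 73, 78] (by decide +kernel) (by decide +kernel) (by decide +kernel))
    (chi_fus_trans R (chi_fus_chk R [22, 32, 94, 17] [125, 92, 87, 73] [125, 92, 87] [78] e7f_d4 (by decide +kernel))
    (chi_fus_trans R (chi_fus_perm R [125, 92, 87, 78] [92, 87, 125, 78] (by decide +kernel) (by decide +kernel))
    (chi_fus_weyl R [5, 6, 4, 5, 0, 2, 3, 4, 1, 3, 2, 0] [92, 87, 125, 78] [125, 92, 87, 63] (by decide +kernel) (by decide +kernel) (by decide +kernel))))))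

theorem e7f_set_125_92_87_73 [CharP F 2] (R : BRel chevE7 F η) : ChiFus R [125, 92, 87, 73] [125, 92, 87] :=
  (chi_fus_chk R [22, 32, 94, 17] [125, 92, 87, 73] [125, 92, 87] [] e7f_d4 (by decide +kernel))

theorem e7f_set_125_92_87_73_66 [CharP F 2] (R : BRel chevE7 F η) : ChiFus R [125, 92, 87, 73, 66] [125, 92, 87, 63] :=
  (chi_fus_trans R (chi_fus_chk R [22, 32, 94, 17] [125, 92, 87, 73] [125, 92, 87] [66] e7f_d4 (by decide +kernel))
    (chi_fus_trans R (chi_fus_perm R [125, 92, 87, 66] [125, 87, 92, 66] (by decide +kernel) (by decide +kernel))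
    (chi_fus_weyl R [5, 6, 4, 5] [125, 87, 92, 66] [125, 92, 87, 63] (by decide +kernel) (by decide +kernel) (by decide +kernel))))

theorem e7f_set_125_92_87_73_66_63 [CharP F 2] (R : BRel chevE7 F η) : ChiFus R [125, 92, 87, 73, 66, 63] [125, 92, 87, 63] :=
  (chi_fus_trans R (chi_fus_chk R [22, 32, 94, 17] [125, 92, 87, 73] [125, 92, 87] [66, 63] e7f_d4 (by decide +kernel))
    (chi_fus_trans R (chi_fus_perm R [125, 92, 87, 66, 63] [92, 87, 66, 63, 125] (by decide +kernel) (by decide +kernel))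
    (chi_fus_trans R (chi_fus_weyl R [3, 4, 2, 3, 5, 6, 4, 5, 0, 2, 3, 4, 1, 3, 2, 0] [92, 87, 66, 63, 125] [125, 92, 87, 73, 78] (by decide +kernel) (by decide +kernel) (by decide +kernel))
    (chi_fus_trans R (chi_fus_chk R [22, 32, 94, 17] [125, 92, 87, 73] [125, 92, 87] [78] e7f_d4 (by decide +kernel))
    (chi_fus_trans R (chi_fus_perm R [125, 92, 87, 78] [92, 87, 125, 78] (by decide +kernel) (by decide +kernel))
    (chi_fus_weyl R [5, 6, 4, 5, 0, 2, 3, 4, 1, 3, 2, 0] [92, 87, 125, 78] [125, 92, 87, 63] (by decide +kernel) (by decide +kernel) (by decide +kernel)))))))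

theorem e7f_set_125_92_87_73_63 [CharP F 2] (R : BRel chevE7 F η) : ChiFus R [125, 92, 87, 73, 63] [125, 92, 87, 63] :=
  (chi_fus_chk R [22, 32, 94, 17] [125, 92, 87, 73] [125, 92, 87] [63] e7f_d4 (by decide +kernel))

theorem e7f_set_125_92_87_66 [CharP F 2] (R : BRel chevE7 F η) : ChiFus R [125, 92, 87, 66] [125, 92, 87, 63] :=
  (chi_fus_trans R (chi_fus_perm R [125, 92, 87, 66] [125, 87, 92, 66] (by decide +kernel) (by decide +kernel))
    (chi_fus_weyl R [5, 6, 4, 5] [125, 87, 92, 66] [125, 92, 87, 63] (by decide +kernel) (by decide +kernel) (by decide +kernel)))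

theorem e7f_set_125_92_87_66_63 [CharP F 2] (R : BRel chevE7 F η) : ChiFus R [125, 92, 87, 66, 63] [125, 92, 87, 63] :=
  (chi_fus_trans R (chi_fus_perm R [125, 92, 87, 66, 63] [92, 87, 66, 63, 125] (by decide +kernel) (by decide +kernel))
    (chi_fus_trans R (chi_fus_weyl R [3, 4, 2, 3, 5, 6, 4, 5, 0, 2, 3, 4, 1, 3, 2, 0] [92, 87, 66, 63, 125] [125, 92, 87, 73, 78] (by decide +kernel) (by decide +kernel) (by decide +kernel))
    (chi_fus_trans R (chi_fus_chk R [22, 32, 94, 17] [125, 92, 87, 73] [125, 92, 87] [78] e7f_d4 (by decide +kernel))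
    (chi_fus_trans R (chi_fus_perm R [125, 92, 87, 78] [92, 87, 125, 78] (by decide +kernel) (by decide +kernel))
    (chi_fus_weyl R [5, 6, 4, 5, 0, 2, 3, 4, 1, 3, 2, 0] [92, 87, 125, 78] [125, 92, 87, 63] (by decide +kernel) (by decide +kernel) (by decide +kernel))))))

theorem e7f_set_125_92_87_63 [CharP F 2] (R : BRel chevE7 F η) : ChiFus R [125, 92, 87, 63] [125, 92, 87, 63] :=
  chi_fus_refl R [125, 92, 87, 63]

theorem e7f_set_125_92_63 [CharP F 2] (R : BRel chevE7 F η) : ChiFus R [125, 92, 63] [125, 92, 63] :=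
  chi_fus_refl R [125, 92, 63]

end

end Cfsg.Agent.Helper81
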