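/-
helper81: S2181 (`E₇(q)`, `q` even, five classes of involutions) - every nontrivial standard word is conjugate to one of the five representatives
(generated: Weyl moves, permutations of commuting letters and one checked fusion inside a subsystem `D₄`).
-/
import Cfsg.Agent.Helper81.E7IFusSets
import Cfsg.Agent.Helper81.E7IDefs

set_option autoImplicit false
set_option linter.unusedSectionVars false
set_option linter.unusedVariables false
set_option maxRecDepth 100000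

namespace Cfsg.Agent.Helper81

open Cfsg Cfsg.Lie Cfsg.Agent.Helper36 Cfsg.Agent.Helper17 Cfsg.Agent.Helper18 Cfsg.Agent.Helper38


section

variable {F : Type*} [Field F] {η : ℕ → ℕ → ℤ}

theorem e7f_raw_125_92_87_78_73_63_66 [CharP F 2] (R : BRel chevE7 F η) : ChiFus R [125, 92, 87, 78, 73, 63, 66] [125, 92, 87, 63] :=
  chi_fus_trans R (chi_fus_perm R [125, 92, 87, 78, 73, 63, 66] [125, 92, 87, 78, 73, 66, 63] (by decide +kernel) (by decide +kernel)) (e7f_set_125_92_87_78_73_66_63 R)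

theorem e7f_raw_125_92_87_78_66_73 [CharP F 2] (R : BRel chevE7 F η) : ChiFus R [125, 92, 87, 78, 66, 73] [125, 92, 87, 63] :=
  chi_fus_trans R (chi_fus_perm R [125, 92, 87, 78, 66, 73] [125, 92, 87, 78, 73, 66] (by decide +kernel) (by decide +kernel)) (e7f_set_125_92_87_78_73_66 R)

theorem e7f_raw_125_92_87_78_66_73_63 [CharP F 2] (R : BRel chevE7 F η) : ChiFus R [125, 92, 87, 78, 66, 73, 63] [125, 92, 87, 63] :=
  chi_fus_trans R (chi_fus_perm R [125, 92, 87, 78, 66, 73, 63] [125, 92, 87, 78, 73, 66, 63] (by decide +kernel) (by decide +kernel)) (e7f_set_125_92_87_78_73_66_63 R)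

theorem e7f_raw_125_92_87_78_66_63_73 [CharP F 2] (R : BRel chevE7 F η) : ChiFus R [125, 92, 87, 78, 66, 63, 73] [125, 92, 87, 63] :=
  chi_fus_trans R (chi_fus_perm R [125, 92, 87, 78, 66, 63, 73] [125, 92, 87, 78, 73, 66, 63] (by decide +kernel) (by decide +kernel)) (e7f_set_125_92_87_78_73_66_63 R)

theorem e7f_raw_125_92_87_78_63_73 [CharP F 2] (R : BRel chevE7 F η) : ChiFus R [125, 92, 87, 78, 63, 73] [125, 92, 87, 63] :=
  chi_fus_trans R (chi_fus_perm R [125, 92, 87, 78, 63, 73] [125, 92, 87, 78, 73, 63] (by decide +kernel) (by decide +kernel)) (e7f_set_125_92_87_78_73_63 R)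

theorem e7f_raw_125_92_87_78_63_73_66 [CharP F 2] (R : BRel chevE7 F η) : ChiFus R [125, 92, 87, 78, 63, 73, 66] [125, 92, 87, 63] :=
  chi_fus_trans R (chi_fus_perm R [125, 92, 87, 78, 63, 73, 66] [125, 92, 87, 78, 73, 66, 63] (by decide +kernel) (by decide +kernel)) (e7f_set_125_92_87_78_73_66_63 R)

theorem e7f_raw_125_92_87_78_63_66 [CharP F 2] (R : BRel chevE7 F η) : ChiFus R [125, 92, 87, 78, 63, 66] [125, 92, 87, 63] :=
  chi_fus_trans R (chi_fus_perm R [125, 92, 87, 78, 63, 66] [125, 92, 87, 78, 66, 63] (by decide +kernel) (by decide +kernel)) (e7f_set_125_92_87_78_66_63 R)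

theorem e7f_raw_125_92_87_78_63_66_73 [CharP F 2] (R : BRel chevE7 F η) : ChiFus R [125, 92, 87, 78, 63, 66, 73] [125, 92, 87, 63] :=
  chi_fus_trans R (chi_fus_perm R [125, 92, 87, 78, 63, 66, 73] [125, 92, 87, 78, 73, 66, 63] (by decide +kernel) (by decide +kernel)) (e7f_set_125_92_87_78_73_66_63 R)

theorem e7f_raw_125_92_87_73_78 [CharP F 2] (R : BRel chevE7 F η) : ChiFus R [125, 92, 87, 73, 78] [125, 92, 87, 63] :=
  chi_fus_trans R (chi_fus_perm R [125, 92, 87, 73, 78] [125, 92, 87, 78, 73] (by decide +kernel) (by decide +kernel)) (e7f_set_125_92_87_78_73 R)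

theorem e7f_raw_125_92_87_73_78_66 [CharP F 2] (R : BRel chevE7 F η) : ChiFus R [125, 92, 87, 73, 78, 66] [125, 92, 87, 63] :=
  chi_fus_trans R (chi_fus_perm R [125, 92, 87, 73, 78, 66] [125, 92, 87, 78, 73, 66] (by decide +kernel) (by decide +kernel)) (e7f_set_125_92_87_78_73_66 R)

theorem e7f_raw_125_92_87_73_78_66_63 [CharP F 2] (R : BRel chevE7 F η) : ChiFus R [125, 92, 87, 73, 78, 66, 63] [125, 92, 87, 63] :=
  chi_fus_trans R (chi_fus_perm R [125, 92, 87, 73, 78, 66, 63] [125, 92, 87, 78, 73, 66, 63] (by decide +kernel) (by decide +kernel)) (e7f_set_125_92_87_78_73_66_63 R)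

theorem e7f_raw_125_92_87_73_78_63 [CharP F 2] (R : BRel chevE7 F η) : ChiFus R [125, 92, 87, 73, 78, 63] [125, 92, 87, 63] :=
  chi_fus_trans R (chi_fus_perm R [125, 92, 87, 73, 78, 63] [125, 92, 87, 78, 73, 63] (by decide +kernel) (by decide +kernel)) (e7f_set_125_92_87_78_73_63 R)

theorem e7f_raw_125_92_87_73_78_63_66 [CharP F 2] (R : BRel chevE7 F η) : ChiFus R [125, 92, 87, 73, 78, 63, 66] [125, 92, 87, 63] :=
  chi_fus_trans R (chi_fus_perm R [125, 92, 87, 73, 78, 63, 66] [125, 92, 87, 78, 73, 66, 63] (by decide +kernel) (by decide +kernel)) (e7f_set_125_92_87_78_73_66_63 R)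

theorem e7f_raw_125_92_87_73_66_78 [CharP F 2] (R : BRel chevE7 F η) : ChiFus R [125, 92, 87, 73, 66, 78] [125, 92, 87, 63] :=
  chi_fus_trans R (chi_fus_perm R [125, 92, 87, 73, 66, 78] [125, 92, 87, 78, 73, 66] (by decide +kernel) (by decide +kernel)) (e7f_set_125_92_87_78_73_66 R)

theorem e7f_raw_125_92_87_73_66_78_63 [CharP F 2] (R : BRel chevE7 F η) : ChiFus R [125, 92, 87, 73, 66, 78, 63] [125, 92, 87, 63] :=
  chi_fus_trans R (chi_fus_perm R [125, 92, 87, 73, 66, 78, 63] [125, 92, 87, 78, 73, 66, 63] (by decide +kernel) (by decide +kernel)) (e7f_set_125_92_87_78_73_66_63 R)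

theorem e7f_raw_125_92_87_73_66_63_78 [CharP F 2] (R : BRel chevE7 F η) : ChiFus R [125, 92, 87, 73, 66, 63, 78] [125, 92, 87, 63] :=
  chi_fus_trans R (chi_fus_perm R [125, 92, 87, 73, 66, 63, 78] [125, 92, 87, 78, 73, 66, 63] (by decide +kernel) (by decide +kernel)) (e7f_set_125_92_87_78_73_66_63 R)

theorem e7f_raw_125_92_87_73_63_78 [CharP F 2] (R : BRel chevE7 F η) : ChiFus R [125, 92, 87, 73, 63, 78] [125, 92, 87, 63] :=
  chi_fus_trans R (chi_fus_perm R [125, 92, 87, 73, 63, 78] [125, 92, 87, 78, 73, 63] (by decide +kernel) (by decide +kernel)) (e7f_set_125_92_87_78_73_63 R)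

theorem e7f_raw_125_92_87_73_63_78_66 [CharP F 2] (R : BRel chevE7 F η) : ChiFus R [125, 92, 87, 73, 63, 78, 66] [125, 92, 87, 63] :=
  chi_fus_trans R (chi_fus_perm R [125, 92, 87, 73, 63, 78, 66] [125, 92, 87, 78, 73, 66, 63] (by decide +kernel) (by decide +kernel)) (e7f_set_125_92_87_78_73_66_63 R)

theorem e7f_raw_125_92_87_73_63_66 [CharP F 2] (R : BRel chevE7 F η) : ChiFus R [125, 92, 87, 73, 63, 66] [125, 92, 87, 63] :=
  chi_fus_trans R (chi_fus_perm R [125, 92, 87, 73, 63, 66] [125, 92, 87, 73, 66, 63] (by decide +kernel) (by decide +kernel)) (e7f_set_125_92_87_73_66_63 R)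

theorem e7f_raw_125_92_87_73_63_66_78 [CharP F 2] (R : BRel chevE7 F η) : ChiFus R [125, 92, 87, 73, 63, 66, 78] [125, 92, 87, 63] :=
  chi_fus_trans R (chi_fus_perm R [125, 92, 87, 73, 63, 66, 78] [125, 92, 87, 78, 73, 66, 63] (by decide +kernel) (by decide +kernel)) (e7f_set_125_92_87_78_73_66_63 R)

theorem e7f_raw_125_92_87_66_78 [CharP F 2] (R : BRel chevE7 F η) : ChiFus R [125, 92, 87, 66, 78] [125, 92, 87, 63] :=
  chi_fus_trans R (chi_fus_perm R [125, 92, 87, 66, 78] [125, 92, 87, 78, 66] (by decide +kernel) (by decide +kernel)) (e7f_set_125_92_87_78_66 R)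

theorem e7f_raw_125_92_87_66_78_73 [CharP F 2] (R : BRel chevE7 F η) : ChiFus R [125, 92, 87, 66, 78, 73] [125, 92, 87, 63] :=
  chi_fus_trans R (chi_fus_perm R [125, 92, 87, 66, 78, 73] [125, 92, 87, 78, 73, 66] (by decide +kernel) (by decide +kernel)) (e7f_set_125_92_87_78_73_66 R)

theorem e7f_raw_125_92_87_66_78_73_63 [CharP F 2] (R : BRel chevE7 F η) : ChiFus R [125, 92, 87, 66, 78, 73, 63] [125, 92, 87, 63] :=
  chi_fus_trans R (chi_fus_perm R [125, 92, 87, 66, 78, 73, 63] [125, 92, 87, 78, 73, 66, 63] (by decide +kernel) (by decide +kernel)) (e7f_set_125_92_87_78_73_66_63 R)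

theorem e7f_raw_125_92_87_66_78_63 [CharP F 2] (R : BRel chevE7 F η) : ChiFus R [125, 92, 87, 66, 78, 63] [125, 92, 87, 63] :=
  chi_fus_trans R (chi_fus_perm R [125, 92, 87, 66, 78, 63] [125, 92, 87, 78, 66, 63] (by decide +kernel) (by decide +kernel)) (e7f_set_125_92_87_78_66_63 R)

theorem e7f_raw_125_92_87_66_78_63_73 [CharP F 2] (R : BRel chevE7 F η) : ChiFus R [125, 92, 87, 66, 78, 63, 73] [125, 92, 87, 63] :=
  chi_fus_trans R (chi_fus_perm R [125, 92, 87, 66, 78, 63, 73] [125, 92, 87, 78, 73, 66, 63] (by decide +kernel) (by decide +kernel)) (e7f_set_125_92_87_78_73_66_63 R)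

theorem e7f_raw_125_92_87_66_73 [CharP F 2] (R : BRel chevE7 F η) : ChiFus R [125, 92, 87, 66, 73] [125, 92, 87, 63] :=
  chi_fus_trans R (chi_fus_perm R [125, 92, 87, 66, 73] [125, 92, 87, 73, 66] (by decide +kernel) (by decide +kernel)) (e7f_set_125_92_87_73_66 R)

theorem e7f_raw_125_92_87_66_73_78 [CharP F 2] (R : BRel chevE7 F η) : ChiFus R [125, 92, 87, 66, 73, 78] [125, 92, 87, 63] :=
  chi_fus_trans R (chi_fus_perm R [125, 92, 87, 66, 73, 78] [125, 92, 87, 78, 73, 66] (by decide +kernel) (by decide +kernel)) (e7f_set_125_92_87_78_73_66 R)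

theorem e7f_raw_125_92_87_66_73_78_63 [CharP F 2] (R : BRel chevE7 F η) : ChiFus R [125, 92, 87, 66, 73, 78, 63] [125, 92, 87, 63] :=
  chi_fus_trans R (chi_fus_perm R [125, 92, 87, 66, 73, 78, 63] [125, 92, 87, 78, 73, 66, 63] (by decide +kernel) (by decide +kernel)) (e7f_set_125_92_87_78_73_66_63 R)

theorem e7f_raw_125_92_87_66_73_63 [CharP F 2] (R : BRel chevE7 F η) : ChiFus R [125, 92, 87, 66, 73, 63] [125, 92, 87, 63] :=
  chi_fus_trans R (chi_fus_perm R [125, 92, 87, 66, 73, 63] [125, 92, 87, 73, 66, 63] (by decide +kernel) (by decide +kernel)) (e7f_set_125_92_87_73_66_63 R)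

theorem e7f_raw_125_92_87_66_73_63_78 [CharP F 2] (R : BRel chevE7 F η) : ChiFus R [125, 92, 87, 66, 73, 63, 78] [125, 92, 87, 63] :=
  chi_fus_trans R (chi_fus_perm R [125, 92, 87, 66, 73, 63, 78] [125, 92, 87, 78, 73, 66, 63] (by decide +kernel) (by decide +kernel)) (e7f_set_125_92_87_78_73_66_63 R)

theorem e7f_raw_125_92_87_66_63_78 [CharP F 2] (R : BRel chevE7 F η) : ChiFus R [125, 92, 87, 66, 63, 78] [125, 92, 87, 63] :=
  chi_fus_trans R (chi_fus_perm R [125, 92, 87, 66, 63, 78] [125, 92, 87, 78, 66, 63] (by decide +kernel) (by decide +kernel)) (e7f_set_125_92_87_78_66_63 R)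

theorem e7f_raw_125_92_87_66_63_78_73 [CharP F 2] (R : BRel chevE7 F η) : ChiFus R [125, 92, 87, 66, 63, 78, 73] [125, 92, 87, 63] :=
  chi_fus_trans R (chi_fus_perm R [125, 92, 87, 66, 63, 78, 73] [125, 92, 87, 78, 73, 66, 63] (by decide +kernel) (by decide +kernel)) (e7f_set_125_92_87_78_73_66_63 R)

theorem e7f_raw_125_92_87_66_63_73 [CharP F 2] (R : BRel chevE7 F η) : ChiFus R [125, 92, 87, 66, 63, 73] [125, 92, 87, 63] :=
  chi_fus_trans R (chi_fus_perm R [125, 92, 87, 66, 63, 73] [125, 92, 87, 73, 66, 63] (by decide +kernel) (by decide +kernel)) (e7f_set_125_92_87_73_66_63 R)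

theorem e7f_raw_125_92_87_66_63_73_78 [CharP F 2] (R : BRel chevE7 F η) : ChiFus R [125, 92, 87, 66, 63, 73, 78] [125, 92, 87, 63] :=
  chi_fus_trans R (chi_fus_perm R [125, 92, 87, 66, 63, 73, 78] [125, 92, 87, 78, 73, 66, 63] (by decide +kernel) (by decide +kernel)) (e7f_set_125_92_87_78_73_66_63 R)

theorem e7f_raw_125_92_87_63_78 [CharP F 2] (R : BRel chevE7 F η) : ChiFus R [125, 92, 87, 63, 78] [125, 92, 87, 63] :=
  chi_fus_trans R (chi_fus_perm R [125, 92, 87, 63, 78] [125, 92, 87, 78, 63] (by decide +kernel) (by decide +kernel)) (e7f_set_125_92_87_78_63 R)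

theorem e7f_raw_125_92_87_63_78_73 [CharP F 2] (R : BRel chevE7 F η) : ChiFus R [125, 92, 87, 63, 78, 73] [125, 92, 87, 63] :=
  chi_fus_trans R (chi_fus_perm R [125, 92, 87, 63, 78, 73] [125, 92, 87, 78, 73, 63] (by decide +kernel) (by decide +kernel)) (e7f_set_125_92_87_78_73_63 R)

theorem e7f_raw_125_92_87_63_78_73_66 [CharP F 2] (R : BRel chevE7 F η) : ChiFus R [125, 92, 87, 63, 78, 73, 66] [125, 92, 87, 63] :=
  chi_fus_trans R (chi_fus_perm R [125, 92, 87, 63, 78, 73, 66] [125, 92, 87, 78, 73, 66, 63] (by decide +kernel) (by decide +kernel)) (e7f_set_125_92_87_78_73_66_63 R)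

theorem e7f_raw_125_92_87_63_78_66 [CharP F 2] (R : BRel chevE7 F η) : ChiFus R [125, 92, 87, 63, 78, 66] [125, 92, 87, 63] :=
  chi_fus_trans R (chi_fus_perm R [125, 92, 87, 63, 78, 66] [125, 92, 87, 78, 66, 63] (by decide +kernel) (by decide +kernel)) (e7f_set_125_92_87_78_66_63 R)

theorem e7f_raw_125_92_87_63_78_66_73 [CharP F 2] (R : BRel chevE7 F η) : ChiFus R [125, 92, 87, 63, 78, 66, 73] [125, 92, 87, 63] :=
  chi_fus_trans R (chi_fus_perm R [125, 92, 87, 63, 78, 66, 73] [125, 92, 87, 78, 73, 66, 63] (by decide +kernel) (by decide +kernel)) (e7f_set_125_92_87_78_73_66_63 R)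

theorem e7f_raw_125_92_87_63_73 [CharP F 2] (R : BRel chevE7 F η) : ChiFus R [125, 92, 87, 63, 73] [125, 92, 87, 63] :=
  chi_fus_trans R (chi_fus_perm R [125, 92, 87, 63, 73] [125, 92, 87, 73, 63] (by decide +kernel) (by decide +kernel)) (e7f_set_125_92_87_73_63 R)

theorem e7f_raw_125_92_87_63_73_78 [CharP F 2] (R : BRel chevE7 F η) : ChiFus R [125, 92, 87, 63, 73, 78] [125, 92, 87, 63] :=
  chi_fus_trans R (chi_fus_perm R [125, 92, 87, 63, 73, 78] [125, 92, 87, 78, 73, 63] (by decide +kernel) (by decide +kernel)) (e7f_set_125_92_87_78_73_63 R)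

theorem e7f_raw_125_92_87_63_73_78_66 [CharP F 2] (R : BRel chevE7 F η) : ChiFus R [125, 92, 87, 63, 73, 78, 66] [125, 92, 87, 63] :=
  chi_fus_trans R (chi_fus_perm R [125, 92, 87, 63, 73, 78, 66] [125, 92, 87, 78, 73, 66, 63] (by decide +kernel) (by decide +kernel)) (e7f_set_125_92_87_78_73_66_63 R)

theorem e7f_raw_125_92_87_63_73_66 [CharP F 2] (R : BRel chevE7 F η) : ChiFus R [125, 92, 87, 63, 73, 66] [125, 92, 87, 63] :=
  chi_fus_trans R (chi_fus_perm R [125, 92, 87, 63, 73, 66] [125, 92, 87, 73, 66, 63] (by decide +kernel) (by decide +kernel)) (e7f_set_125_92_87_73_66_63 R)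

theorem e7f_raw_125_92_87_63_73_66_78 [CharP F 2] (R : BRel chevE7 F η) : ChiFus R [125, 92, 87, 63, 73, 66, 78] [125, 92, 87, 63] :=
  chi_fus_trans R (chi_fus_perm R [125, 92, 87, 63, 73, 66, 78] [125, 92, 87, 78, 73, 66, 63] (by decide +kernel) (by decide +kernel)) (e7f_set_125_92_87_78_73_66_63 R)

theorem e7f_raw_125_92_87_63_66 [CharP F 2] (R : BRel chevE7 F η) : ChiFus R [125, 92, 87, 63, 66] [125, 92, 87, 63] :=
  chi_fus_trans R (chi_fus_perm R [125, 92, 87, 63, 66] [125, 92, 87, 66, 63] (by decide +kernel) (by decide +kernel)) (e7f_set_125_92_87_66_63 R)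

theorem e7f_raw_125_92_87_63_66_78 [CharP F 2] (R : BRel chevE7 F η) : ChiFus R [125, 92, 87, 63, 66, 78] [125, 92, 87, 63] :=
  chi_fus_trans R (chi_fus_perm R [125, 92, 87, 63, 66, 78] [125, 92, 87, 78, 66, 63] (by decide +kernel) (by decide +kernel)) (e7f_set_125_92_87_78_66_63 R)

theorem e7f_raw_125_92_87_63_66_78_73 [CharP F 2] (R : BRel chevE7 F η) : ChiFus R [125, 92, 87, 63, 66, 78, 73] [125, 92, 87, 63] :=
  chi_fus_trans R (chi_fus_perm R [125, 92, 87, 63, 66, 78, 73] [125, 92, 87, 78, 73, 66, 63] (by decide +kernel) (by decide +kernel)) (e7f_set_125_92_87_78_73_66_63 R)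

theorem e7f_raw_125_92_87_63_66_73 [CharP F 2] (R : BRel chevE7 F η) : ChiFus R [125, 92, 87, 63, 66, 73] [125, 92, 87, 63] :=
  chi_fus_trans R (chi_fus_perm R [125, 92, 87, 63, 66, 73] [125, 92, 87, 73, 66, 63] (by decide +kernel) (by decide +kernel)) (e7f_set_125_92_87_73_66_63 R)

theorem e7f_raw_125_92_87_63_66_73_78 [CharP F 2] (R : BRel chevE7 F η) : ChiFus R [125, 92, 87, 63, 66, 73, 78] [125, 92, 87, 63] :=
  chi_fus_trans R (chi_fus_perm R [125, 92, 87, 63, 66, 73, 78] [125, 92, 87, 78, 73, 66, 63] (by decide +kernel) (by decide +kernel)) (e7f_set_125_92_87_78_73_66_63 R)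

theorem e7f_raw_125_92_63_87 [CharP F 2] (R : BRel chevE7 F η) : ChiFus R [125, 92, 63, 87] [125, 92, 87, 63] :=
  chi_fus_trans R (chi_fus_perm R [125, 92, 63, 87] [125, 92, 87, 63] (by decide +kernel) (by decide +kernel)) (e7f_set_125_92_87_63 R)

theorem e7f_raw_125_92_63_87_78 [CharP F 2] (R : BRel chevE7 F η) : ChiFus R [125, 92, 63, 87, 78] [125, 92, 87, 63] :=
  chi_fus_trans R (chi_fus_perm R [125, 92, 63, 87, 78] [125, 92, 87, 78, 63] (by decide +kernel) (by decide +kernel)) (e7f_set_125_92_87_78_63 R)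

theorem e7f_raw_125_92_63_87_78_73 [CharP F 2] (R : BRel chevE7 F η) : ChiFus R [125, 92, 63, 87, 78, 73] [125, 92, 87, 63] :=
  chi_fus_trans R (chi_fus_perm R [125, 92, 63, 87, 78, 73] [125, 92, 87, 78, 73, 63] (by decide +kernel) (by decide +kernel)) (e7f_set_125_92_87_78_73_63 R)

theorem e7f_raw_125_92_63_87_78_73_66 [CharP F 2] (R : BRel chevE7 F η) : ChiFus R [125, 92, 63, 87, 78, 73, 66] [125, 92, 87, 63] :=
  chi_fus_trans R (chi_fus_perm R [125, 92, 63, 87, 78, 73, 66] [125, 92, 87, 78, 73, 66, 63] (by decide +kernel) (by decide +kernel)) (e7f_set_125_92_87_78_73_66_63 R)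

theorem e7f_raw_125_92_63_87_78_66 [CharP F 2] (R : BRel chevE7 F η) : ChiFus R [125, 92, 63, 87, 78, 66] [125, 92, 87, 63] :=
  chi_fus_trans R (chi_fus_perm R [125, 92, 63, 87, 78, 66] [125, 92, 87, 78, 66, 63] (by decide +kernel) (by decide +kernel)) (e7f_set_125_92_87_78_66_63 R)

theorem e7f_raw_125_92_63_87_78_66_73 [CharP F 2] (R : BRel chevE7 F η) : ChiFus R [125, 92, 63, 87, 78, 66, 73] [125, 92, 87, 63] :=
  chi_fus_trans R (chi_fus_perm R [125, 92, 63, 87, 78, 66, 73] [125, 92, 87, 78, 73, 66, 63] (by decide +kernel) (by decide +kernel)) (e7f_set_125_92_87_78_73_66_63 R)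

theorem e7f_raw_125_92_63_87_73 [CharP F 2] (R : BRel chevE7 F η) : ChiFus R [125, 92, 63, 87, 73] [125, 92, 87, 63] :=
  chi_fus_trans R (chi_fus_perm R [125, 92, 63, 87, 73] [125, 92, 87, 73, 63] (by decide +kernel) (by decide +kernel)) (e7f_set_125_92_87_73_63 R)

theorem e7f_raw_125_92_63_87_73_78 [CharP F 2] (R : BRel chevE7 F η) : ChiFus R [125, 92, 63, 87, 73, 78] [125, 92, 87, 63] :=
  chi_fus_trans R (chi_fus_perm R [125, 92, 63, 87, 73, 78] [125, 92, 87, 78, 73, 63] (by decide +kernel) (by decide +kernel)) (e7f_set_125_92_87_78_73_63 R)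

theorem e7f_raw_125_92_63_87_73_78_66 [CharP F 2] (R : BRel chevE7 F η) : ChiFus R [125, 92, 63, 87, 73, 78, 66] [125, 92, 87, 63] :=
  chi_fus_trans R (chi_fus_perm R [125, 92, 63, 87, 73, 78, 66] [125, 92, 87, 78, 73, 66, 63] (by decide +kernel) (by decide +kernel)) (e7f_set_125_92_87_78_73_66_63 R)

theorem e7f_raw_125_92_63_87_73_66 [CharP F 2] (R : BRel chevE7 F η) : ChiFus R [125, 92, 63, 87, 73, 66] [125, 92, 87, 63] :=
  chi_fus_trans R (chi_fus_perm R [125, 92, 63, 87, 73, 66] [125, 92, 87, 73, 66, 63] (by decide +kernel) (by decide +kernel)) (e7f_set_125_92_87_73_66_63 R)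

theorem e7f_raw_125_92_63_87_73_66_78 [CharP F 2] (R : BRel chevE7 F η) : ChiFus R [125, 92, 63, 87, 73, 66, 78] [125, 92, 87, 63] :=
  chi_fus_trans R (chi_fus_perm R [125, 92, 63, 87, 73, 66, 78] [125, 92, 87, 78, 73, 66, 63] (by decide +kernel) (by decide +kernel)) (e7f_set_125_92_87_78_73_66_63 R)

theorem e7f_raw_125_92_63_87_66 [CharP F 2] (R : BRel chevE7 F η) : ChiFus R [125, 92, 63, 87, 66] [125, 92, 87, 63] :=
  chi_fus_trans R (chi_fus_perm R [125, 92, 63, 87, 66] [125, 92, 87, 66, 63] (by decide +kernel) (by decide +kernel)) (e7f_set_125_92_87_66_63 R)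

theorem e7f_raw_125_92_63_87_66_78 [CharP F 2] (R : BRel chevE7 F η) : ChiFus R [125, 92, 63, 87, 66, 78] [125, 92, 87, 63] :=
  chi_fus_trans R (chi_fus_perm R [125, 92, 63, 87, 66, 78] [125, 92, 87, 78, 66, 63] (by decide +kernel) (by decide +kernel)) (e7f_set_125_92_87_78_66_63 R)

theorem e7f_raw_125_92_63_87_66_78_73 [CharP F 2] (R : BRel chevE7 F η) : ChiFus R [125, 92, 63, 87, 66, 78, 73] [125, 92, 87, 63] :=
  chi_fus_trans R (chi_fus_perm R [125, 92, 63, 87, 66, 78, 73] [125, 92, 87, 78, 73, 66, 63] (by decide +kernel) (by decide +kernel)) (e7f_set_125_92_87_78_73_66_63 R)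

theorem e7f_raw_125_92_63_87_66_73 [CharP F 2] (R : BRel chevE7 F η) : ChiFus R [125, 92, 63, 87, 66, 73] [125, 92, 87, 63] :=
  chi_fus_trans R (chi_fus_perm R [125, 92, 63, 87, 66, 73] [125, 92, 87, 73, 66, 63] (by decide +kernel) (by decide +kernel)) (e7f_set_125_92_87_73_66_63 R)

theorem e7f_raw_125_92_63_87_66_73_78 [CharP F 2] (R : BRel chevE7 F η) : ChiFus R [125, 92, 63, 87, 66, 73, 78] [125, 92, 87, 63] :=
  chi_fus_trans R (chi_fus_perm R [125, 92, 63, 87, 66, 73, 78] [125, 92, 87, 78, 73, 66, 63] (by decide +kernel) (by decide +kernel)) (e7f_set_125_92_87_78_73_66_63 R)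

/-- Every nontrivial standard word is conjugate to one of the five representatives. -/
theorem e7i_fusion [CharP F 2] (R : BRel chevE7 F η) : ∀ l ∈ e7iL1234567, l ≠ [] →
    ∃ y ∈ e7Reps, ChiFus R l y := by
  intro l hl hne
  unfold e7iL1234567 at hl
  simp only [List.mem_cons, List.not_mem_nil, or_false] at hl
  rcases hl with rfl | rfl | rfl | rfl | rfl | rfl | rfl | rfl | rfl | rfl | rfl | rfl | rfl | rfl | rfl | rfl | rfl | rfl | rfl | rfl | rfl | rfl | rfl | rfl | rfl | rfl | rfl | rfl | rfl | rfl | rfl | rfl | rfl | rfl | rfl | rfl | rfl | rfl | rfl | rfl | rfl | rfl | rfl | rfl | rfl | rfl | rfl | rfl | rfl | rfl | rfl | rfl | rfl | rfl | rfl | rfl | rfl | rfl | rfl | rfl | rfl | rfl | rfl | rfl | rfl | rfl | rfl | rfl | rfl | rfl | rfl | rfl | rfl | rfl | rfl | rfl | rfl | rfl | rfl | rfl | rfl | rfl | rfl | rfl | rfl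
  · exact absurd rfl hne
  · exact ⟨[125], by decide +kernel, e7f_set_125 R⟩
  · exact ⟨[125, 92], by decide +kernel, e7f_set_125_92 R⟩
  · exact ⟨[125, 92, 87], by decide +kernel, e7f_set_125_92_87 R⟩
  · exact ⟨[125, 92, 87, 63], by decide +kernel, e7f_set_125_92_87_78 R⟩
  · exact ⟨[125, 92, 87, 63], by decide +kernel, e7f_set_125_92_87_78_73 R⟩
  · exact ⟨[125, 92, 87, 63], by decide +kernel, e7f_set_125_92_87_78_73_66 R⟩
  · exact ⟨[125, 92, 87, 63], by decide +kernel, e7f_set_125_92_87_78_73_66_63 R⟩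
  · exact ⟨[125, 92, 87, 63], by decide +kernel, e7f_set_125_92_87_78_73_63 R⟩
  · exact ⟨[125, 92, 87, 63], by decide +kernel, e7f_raw_125_92_87_78_73_63_66 R⟩
  · exact ⟨[125, 92, 87, 63], by decide +kernel, e7f_set_125_92_87_78_66 R⟩
  · exact ⟨[125, 92, 87, 63], by decide +kernel, e7f_raw_125_92_87_78_66_73 R⟩
  · exact ⟨[125, 92, 87, 63], by decide +kernel, e7f_raw_125_92_87_78_66_73_63 R⟩
  · exact ⟨[125, 92, 87, 63], by decide +kernel, e7f_set_125_92_87_78_66_63 R⟩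
  · exact ⟨[125, 92, 87, 63], by decide +kernel, e7f_raw_125_92_87_78_66_63_73 R⟩
  · exact ⟨[125, 92, 87, 63], by decide +kernel, e7f_set_125_92_87_78_63 R⟩
  · exact ⟨[125, 92, 87, 63], by decide +kernel, e7f_raw_125_92_87_78_63_73 R⟩
  · exact ⟨[125, 92, 87, 63], by decide +kernel, e7f_raw_125_92_87_78_63_73_66 R⟩
  · exact ⟨[125, 92, 87, 63], by decide +kernel, e7f_raw_125_92_87_78_63_66 R⟩
  · exact ⟨[125, 92, 87, 63], by decide +kernel, e7f_raw_125_92_87_78_63_66_73 R⟩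
  · exact ⟨[125, 92, 87], by decide +kernel, e7f_set_125_92_87_73 R⟩
  · exact ⟨[125, 92, 87, 63], by decide +kernel, e7f_raw_125_92_87_73_78 R⟩
  · exact ⟨[125, 92, 87, 63], by decide +kernel, e7f_raw_125_92_87_73_78_66 R⟩
  · exact ⟨[125, 92, 87, 63], by decide +kernel, e7f_raw_125_92_87_73_78_66_63 R⟩
  · exact ⟨[125, 92, 87, 63], by decide +kernel, e7f_raw_125_92_87_73_78_63 R⟩
  · exact ⟨[125, 92, 87, 63], by decide +kernel, e7f_raw_125_92_87_73_78_63_66 R⟩
  · exact ⟨[125, 92, 87, 63], by decide +kernel, e7f_set_125_92_87_73_66 R⟩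
  · exact ⟨[125, 92, 87, 63], by decide +kernel, e7f_raw_125_92_87_73_66_78 R⟩
  · exact ⟨[125, 92, 87, 63], by decide +kernel, e7f_raw_125_92_87_73_66_78_63 R⟩
  · exact ⟨[125, 92, 87, 63], by decide +kernel, e7f_set_125_92_87_73_66_63 R⟩
  · exact ⟨[125, 92, 87, 63], by decide +kernel, e7f_raw_125_92_87_73_66_63_78 R⟩
  · exact ⟨[125, 92, 87, 63], by decide +kernel, e7f_set_125_92_87_73_63 R⟩
  · exact ⟨[125, 92, 87, 63], by decide +kernel, e7f_raw_125_92_87_73_63_78 R⟩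
  · exact ⟨[125, 92, 87, 63], by decide +kernel, e7f_raw_125_92_87_73_63_78_66 R⟩
  · exact ⟨[125, 92, 87, 63], by decide +kernel, e7f_raw_125_92_87_73_63_66 R⟩
  · exact ⟨[125, 92, 87, 63], by decide +kernel, e7f_raw_125_92_87_73_63_66_78 R⟩
  · exact ⟨[125, 92, 87, 63], by decide +kernel, e7f_set_125_92_87_66 R⟩
  · exact ⟨[125, 92, 87, 63], by decide +kernel, e7f_raw_125_92_87_66_78 R⟩
  · exact ⟨[125, 92, 87, 63], by decide +kernel, e7f_raw_125_92_87_66_78_73 R⟩
  · exact ⟨[125, 92, 87, 63], by decide +kernel, e7f_raw_125_92_87_66_78_73_63 R⟩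
  · exact ⟨[125, 92, 87, 63], by decide +kernel, e7f_raw_125_92_87_66_78_63 R⟩
  · exact ⟨[125, 92, 87, 63], by decide +kernel, e7f_raw_125_92_87_66_78_63_73 R⟩
  · exact ⟨[125, 92, 87, 63], by decide +kernel, e7f_raw_125_92_87_66_73 R⟩
  · exact ⟨[125, 92, 87, 63], by decide +kernel, e7f_raw_125_92_87_66_73_78 R⟩
  · exact ⟨[125, 92, 87, 63], by decide +kernel, e7f_raw_125_92_87_66_73_78_63 R⟩
  · exact ⟨[125, 92, 87, 63], by decide +kernel, e7f_raw_125_92_87_66_73_63 R⟩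
  · exact ⟨[125, 92, 87, 63], by decide +kernel, e7f_raw_125_92_87_66_73_63_78 R⟩
  · exact ⟨[125, 92, 87, 63], by decide +kernel, e7f_set_125_92_87_66_63 R⟩
  · exact ⟨[125, 92, 87, 63], by decide +kernel, e7f_raw_125_92_87_66_63_78 R⟩
  · exact ⟨[125, 92, 87, 63], by decide +kernel, e7f_raw_125_92_87_66_63_78_73 R⟩
  · exact ⟨[125, 92, 87, 63], by decide +kernel, e7f_raw_125_92_87_66_63_73 R⟩
  · exact ⟨[125, 92, 87, 63], by decide +kernel, e7f_raw_125_92_87_66_63_73_78 R⟩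
  · exact ⟨[125, 92, 87, 63], by decide +kernel, e7f_set_125_92_87_63 R⟩
  · exact ⟨[125, 92, 87, 63], by decide +kernel, e7f_raw_125_92_87_63_78 R⟩
  · exact ⟨[125, 92, 87, 63], by decide +kernel, e7f_raw_125_92_87_63_78_73 R⟩
  · exact ⟨[125, 92, 87, 63], by decide +kernel, e7f_raw_125_92_87_63_78_73_66 R⟩
  · exact ⟨[125, 92, 87, 63], by decide +kernel, e7f_raw_125_92_87_63_78_66 R⟩
  · exact ⟨[125, 92, 87, 63], by decide +kernel, e7f_raw_125_92_87_63_78_66_73 R⟩
  · exact ⟨[125, 92, 87, 63], by decide +kernel, e7f_raw_125_92_87_63_73 R⟩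
  · exact ⟨[125, 92, 87, 63], by decide +kernel, e7f_raw_125_92_87_63_73_78 R⟩
  · exact ⟨[125, 92, 87, 63], by decide +kernel, e7f_raw_125_92_87_63_73_78_66 R⟩
  · exact ⟨[125, 92, 87, 63], by decide +kernel, e7f_raw_125_92_87_63_73_66 R⟩
  · exact ⟨[125, 92, 87, 63], by decide +kernel, e7f_raw_125_92_87_63_73_66_78 R⟩
  · exact ⟨[125, 92, 87, 63], by decide +kernel, e7f_raw_125_92_87_63_66 R⟩
  · exact ⟨[125, 92, 87, 63], by decide +kernel, e7f_raw_125_92_87_63_66_78 R⟩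
  · exact ⟨[125, 92, 87, 63], by decide +kernel, e7f_raw_125_92_87_63_66_78_73 R⟩
  · exact ⟨[125, 92, 87, 63], by decide +kernel, e7f_raw_125_92_87_63_66_73 R⟩
  · exact ⟨[125, 92, 87, 63], by decide +kernel, e7f_raw_125_92_87_63_66_73_78 R⟩
  · exact ⟨[125, 92, 63], by decide +kernel, e7f_set_125_92_63 R⟩
  · exact ⟨[125, 92, 87, 63], by decide +kernel, e7f_raw_125_92_63_87 R⟩
  · exact ⟨[125, 92, 87, 63], by decide +kernel, e7f_raw_125_92_63_87_78 R⟩
  · exact ⟨[125, 92, 87, 63], by decide +kernel, e7f_raw_125_92_63_87_78_73 R⟩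
  · exact ⟨[125, 92, 87, 63], by decide +kernel, e7f_raw_125_92_63_87_78_73_66 R⟩
  · exact ⟨[125, 92, 87, 63], by decide +kernel, e7f_raw_125_92_63_87_78_66 R⟩
  · exact ⟨[125, 92, 87, 63], by decide +kernel, e7f_raw_125_92_63_87_78_66_73 R⟩
  · exact ⟨[125, 92, 87, 63], by decide +kernel, e7f_raw_125_92_63_87_73 R⟩
  · exact ⟨[125, 92, 87, 63], by decide +kernel, e7f_raw_125_92_63_87_73_78 R⟩
  · exact ⟨[125, 92, 87, 63], by decide +kernel, e7f_raw_125_92_63_87_73_78_66 R⟩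
  · exact ⟨[125, 92, 87, 63], by decide +kernel, e7f_raw_125_92_63_87_73_66 R⟩
  · exact ⟨[125, 92, 87, 63], by decide +kernel, e7f_raw_125_92_63_87_73_66_78 R⟩
  · exact ⟨[125, 92, 87, 63], by decide +kernel, e7f_raw_125_92_63_87_66 R⟩
  · exact ⟨[125, 92, 87, 63], by decide +kernel, e7f_raw_125_92_63_87_66_78 R⟩
  · exact ⟨[125, 92, 87, 63], by decide +kernel, e7f_raw_125_92_63_87_66_78_73 R⟩
  · exact ⟨[125, 92, 87, 63], by decide +kernel, e7f_raw_125_92_63_87_66_73 R⟩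
  · exact ⟨[125, 92, 87, 63], by decide +kernel, e7f_raw_125_92_63_87_66_73_78 R⟩

end

end Cfsg.Agent.Helper81
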