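/-
helper81: S2181 (`E₇(q)`, `q` even, five classes of involutions) - the table checks of the Levi recursion, part S
(generated; the tables are checked by the kernel).
-/
import Cfsg.Agent.Helper81.E7IDefs

set_option autoImplicit false
set_option linter.unusedSectionVars false
set_option linter.unusedVariables false
set_option maxRecDepth 100000

namespace Cfsg.Agent.Helper81

open Cfsg Cfsg.Lie Cfsg.Agent.Helper36 Cfsg.Agent.Helper17 Cfsg.Agent.Helper18 Cfsg.Agent.Helper18.RSub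
  Cfsg.Agent.Helper38


theorem e7i_ok_2_1 : ChiStepOK chevE7 e7iP2 1 78 [] [] [] [] [[]] e7iL2 := by
  decide +kernel

theorem e7i_ok_3_2 : ChiStepOK chevE7 e7iP3 2 73 [] [] [] [] [[]] e7iL3 := by
  decide +kernel

theorem e7i_ok_5_4 : ChiStepOK chevE7 e7iP5 4 66 [] [] [] [] [[]] e7iL5 := by
  decide +kernel

theorem e7i_ok_7_6 : ChiStepOK chevE7 e7iP7 6 63 [] [] [] [] [[]] e7iL7 := by
  decide +kernel

theorem e7i_ok_23_1 : ChiStepOK chevE7 e7iP23 1 78 [] [73] [] e7iP3 e7iL3 e7iL23 := by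
  decide +kernel

theorem e7i_ok_23_2 : ChiStepOK chevE7 e7iP23 2 73 [] [78] [] e7iP2 e7iL2 e7iL23 := by
  decide +kernel

theorem e7i_ok_25_1 : ChiStepOK chevE7 e7iP25 1 78 [] [66] [] e7iP5 e7iL5 e7iL25 := by
  decide +kernel

theorem e7i_ok_25_4 : ChiStepOK chevE7 e7iP25 4 66 [] [78] [] e7iP2 e7iL2 e7iL25 := by
  decide +kernel

theorem e7i_ok_27_1 : ChiStepOK chevE7 e7iP27 1 78 [] [63] [] e7iP7 e7iL7 e7iL27 := by
  decide +kernel

theorem e7i_ok_27_6 : ChiStepOK chevE7 e7iP27 6 63 [] [78] [] e7iP2 e7iL2 e7iL27 := by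
  decide +kernel

theorem e7i_ok_35_2 : ChiStepOK chevE7 e7iP35 2 73 [] [66] [] e7iP5 e7iL5 e7iL35 := by
  decide +kernel

theorem e7i_ok_35_4 : ChiStepOK chevE7 e7iP35 4 66 [] [73] [] e7iP3 e7iL3 e7iL35 := by
  decide +kernel

theorem e7i_ok_37_2 : ChiStepOK chevE7 e7iP37 2 73 [] [63] [] e7iP7 e7iL7 e7iL37 := by
  decide +kernel

theorem e7i_ok_37_6 : ChiStepOK chevE7 e7iP37 6 63 [] [73] [] e7iP3 e7iL3 e7iL37 := by
  decide +kernel

theorem e7i_ok_57_4 : ChiStepOK chevE7 e7iP57 4 66 [] [63] [] e7iP7 e7iL7 e7iL57 := by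
  decide +kernel

theorem e7i_ok_57_6 : ChiStepOK chevE7 e7iP57 6 63 [] [66] [] e7iP5 e7iL5 e7iL57 := by
  decide +kernel

theorem e7i_ok_235_1 : ChiStepOK chevE7 e7iP235 1 78 [] [66, 73] [] e7iP35 e7iL35 e7iL235 := by
  decide +kernel

theorem e7i_ok_235_2 : ChiStepOK chevE7 e7iP235 2 73 [] [66, 78] [] e7iP25 e7iL25 e7iL235 := by
  decide +kernel

theorem e7i_ok_235_4 : ChiStepOK chevE7 e7iP235 4 66 [] [73, 78] [] e7iP23 e7iL23 e7iL235 := by
  decide +kernel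

theorem e7i_ok_237_1 : ChiStepOK chevE7 e7iP237 1 78 [] [63, 73] [] e7iP37 e7iL37 e7iL237 := by
  decide +kernel

theorem e7i_ok_237_2 : ChiStepOK chevE7 e7iP237 2 73 [] [63, 78] [] e7iP27 e7iL27 e7iL237 := by
  decide +kernel

theorem e7i_ok_237_6 : ChiStepOK chevE7 e7iP237 6 63 [] [73, 78] [] e7iP23 e7iL23 e7iL237 := by
  decide +kernel

theorem e7i_ok_257_1 : ChiStepOK chevE7 e7iP257 1 78 [] [63, 66] [] e7iP57 e7iL57 e7iL257 := by
  decide +kernel

theorem e7i_ok_257_4 : ChiStepOK chevE7 e7iP257 4 66 [] [63, 78] [] e7iP27 e7iL27 e7iL257 := by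
  decide +kernel

theorem e7i_ok_257_6 : ChiStepOK chevE7 e7iP257 6 63 [] [66, 78] [] e7iP25 e7iL25 e7iL257 := by
  decide +kernel

theorem e7i_ok_357_2 : ChiStepOK chevE7 e7iP357 2 73 [] [63, 66] [] e7iP57 e7iL57 e7iL357 := by
  decide +kernel

theorem e7i_ok_357_4 : ChiStepOK chevE7 e7iP357 4 66 [] [63, 73] [] e7iP37 e7iL37 e7iL357 := by
  decide +kernel

theorem e7i_ok_357_6 : ChiStepOK chevE7 e7iP357 6 63 [] [66, 73] [] e7iP35 e7iL35 e7iL357 := by
  decide +kernel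

theorem e7i_ok_2345_1 : ChiStepOK chevE7 e7iP2345 1 87 [3, 4, 2, 3] [66, 73, 87] [(69, 79), (70, 80), (74, 83), (75, 84)] e7iP235 e7iL235 e7iL2345 := by
  decide +kernel

theorem e7i_ok_2345_2 : ChiStepOK chevE7 e7iP2345 2 87 [3, 4, 1, 3] [66, 78, 87] [(69, 74), (70, 75), (79, 83), (80, 84)] e7iP235 e7iL235 e7iL2345 := by
  decide +kernel

theorem e7i_ok_2345_3 : ChiStepOK chevE7 e7iP2345 3 87 [3, 4, 2, 1] [75, 80, 83] [(66, 70), (73, 74), (78, 79), (84, 87)] e7iP235 e7iL235 e7iL2345 := by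
  decide +kernel

theorem e7i_ok_2345_4 : ChiStepOK chevE7 e7iP2345 4 87 [3, 2, 1, 3] [73, 78, 87] [(69, 70), (74, 75), (79, 80), (83, 84)] e7iP235 e7iL235 e7iL2345 := by
  decide +kernel

theorem e7i_ok_2357_1 : ChiStepOK chevE7 e7iP2357 1 78 [] [63, 66, 73] [] e7iP357 e7iL357 e7iL2357 := by
  decide +kernel

theorem e7i_ok_2357_2 : ChiStepOK chevE7 e7iP2357 2 73 [] [63, 66, 78] [] e7iP257 e7iL257 e7iL2357 := by
  decide +kernel

theorem e7i_ok_2357_4 : ChiStepOK chevE7 e7iP2357 4 66 [] [63, 73, 78] [] e7iP237 e7iL237 e7iL2357 := by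
  decide +kernel

theorem e7i_ok_2357_6 : ChiStepOK chevE7 e7iP2357 6 63 [] [66, 73, 78] [] e7iP235 e7iL235 e7iL2357 := by
  decide +kernel

theorem e7i_ok_23457_1 : ChiStepOK chevE7 e7iP23457 1 87 [3, 4, 2, 3] [63, 66, 73, 87] [(69, 79), (70, 80), (74, 83), (75, 84)] e7iP2357 e7iL2357 e7iL23457 := by
  decide +kernel

theorem e7i_ok_23457_2 : ChiStepOK chevE7 e7iP23457 2 87 [3, 4, 1, 3] [63, 66, 78, 87] [(69, 74), (70, 75), (79, 83), (80, 84)] e7iP2357 e7iL2357 e7iL23457 := by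
  decide +kernel

theorem e7i_ok_23457_3 : ChiStepOK chevE7 e7iP23457 3 87 [3, 4, 2, 1] [63, 75, 80, 83] [(66, 70), (73, 74), (78, 79), (84, 87)] e7iP2357 e7iL2357 e7iL23457 := by
  decide +kernel

theorem e7i_ok_23457_4 : ChiStepOK chevE7 e7iP23457 4 87 [3, 2, 1, 3] [63, 73, 78, 87] [(69, 70), (74, 75), (79, 80), (83, 84)] e7iP2357 e7iL2357 e7iL23457 := by
  decide +kernel

theorem e7i_ok_23457_6 : ChiStepOK chevE7 e7iP23457 6 63 [] [66, 69, 70, 73, 74, 75, 78, 79, 80, 83, 84, 87] [] e7iP2345 e7iL2345 e7iL23457 := by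
  decide +kernel

theorem e7i_low_2 : LowOK chevE7 e7iP2 [1] := by
  decide +kernel

theorem e7i_low_3 : LowOK chevE7 e7iP3 [2] := by
  decide +kernel

theorem e7i_low_5 : LowOK chevE7 e7iP5 [4] := by
  decide +kernel

theorem e7i_low_7 : LowOK chevE7 e7iP7 [6] := by
  decide +kernel

theorem e7i_low_23 : LowOK chevE7 e7iP23 [1, 2] := by
  decide +kernel

theorem e7i_low_25 : LowOK chevE7 e7iP25 [1, 4] := by
  decide +kernel

theorem e7i_low_27 : LowOK chevE7 e7iP27 [1, 6] := by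
  decide +kernel

theorem e7i_low_35 : LowOK chevE7 e7iP35 [2, 4] := by
  decide +kernel

theorem e7i_low_37 : LowOK chevE7 e7iP37 [2, 6] := by
  decide +kernel

theorem e7i_low_57 : LowOK chevE7 e7iP57 [4, 6] := by
  decide +kernel

theorem e7i_low_235 : LowOK chevE7 e7iP235 [1, 2, 4] := by
  decide +kernel

theorem e7i_low_237 : LowOK chevE7 e7iP237 [1, 2, 6] := by
  decide +kernel

theorem e7i_low_257 : LowOK chevE7 e7iP257 [1, 4, 6] := by
  decide +kernel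

theorem e7i_low_357 : LowOK chevE7 e7iP357 [2, 4, 6] := by
  decide +kernel

theorem e7i_low_2345 : LowOK chevE7 e7iP2345 [1, 2, 3, 4] := by
  decide +kernel

theorem e7i_low_2357 : LowOK chevE7 e7iP2357 [1, 2, 4, 6] := by
  decide +kernel

theorem e7i_low_23457 : LowOK chevE7 e7iP23457 [1, 2, 3, 4, 6] := by
  decide +kernel

end Cfsg.Agent.Helper81
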