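/-
helper81: S2181 (`E₇(q)`, `q` even, five classes of involutions) - the ranks of `y - 1` for the five
representatives `y`, part A (machine certificates, checked by the kernel).
-/
import Cfsg.Agent.Helper81.ChRank
import Cfsg.Prelude.Def_ChevE7

set_option autoImplicit false
set_option linter.unusedSectionVars false
set_option linter.unusedVariables false
set_option maxRecDepth 100000

namespace Cfsg.Agent.Helper81

open Cfsg Cfsg.Lie Cfsg.Agent.Helper18 Cfsg.Agent.Helper38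

noncomputable def e7rLB1 : List (FVec × ℕ) :=
  [([(0, 1, 0)], 132), ([(8, 1, 0)], 100), ([(9, 1, 0)], 101), ([(10, 1, 0)], 102), ([(11, 1, 0)], 103), ([(12, 1, 0)], 104), ([(13, 1, 0)], 105), ([(14, 1, 0)], 106), ([(15, 1, 0)], 107), ([(16, 1, 0)], 108), ([(17, 1, 0)], 109), ([(18, 1, 0)], 110), ([(19, 1, 0)], 111), ([(20, 1, 0)], 112), ([(21, 1, 0)], 113), ([(22, 1, 0)], 114), ([(23, 1, 0)], 115), ([(24, 1, 0)], 116), ([(25, 1, 0)], 117), ([(26, 1, 0)], 118), ([(27, 1, 0)], 119), ([(28, 1, 0)], 120), ([(29, 1, 0)], 121), ([(30, 1, 0)], 122), ([(31, 1, 0)], 123), ([(32, 1, 0)], 124), ([(33, 1, 0)], 125), ([(34, 1, 0)], 126), ([(35, 1, 0)], 127), ([(36, 1, 0)], 128), ([(37, 1, 0)], 129), ([(38, 1, 0)], 130), ([(39, 1, 0)], 131), ([(0, 1, 0), (7, 1, 0)], 2)]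

theorem e7r_lb1 {F : Type*} [Field F] [CharP F 2] :
    34 ≤ (chevE7.wordMat F ([125].map fun r => (r, (1 : F))) - 1).rank :=
  le_trans (le_of_eq (by decide +kernel : (34 : ℕ) = e7rLB1.length))
    (chr_lb F chevE7 [125] e7rLB1 (by decide +kernel) (by decide +kernel))

noncomputable def e7rLB2 : List (FVec × ℕ) :=
  [([(5, 1, 0)], 99), ([(12, 1, 0)], 104), ([(13, 1, 0)], 105), ([(16, 1, 0)], 108), ([(17, 1, 0)], 109), ([(19, 1, 0)], 111), ([(20, 1, 0)], 112), ([(21, 1, 0)], 113), ([(22, 1, 0)], 114), ([(23, 1, 0)], 115), ([(25, 1, 0)], 117), ([(26, 1, 0)], 118), ([(27, 1, 0)], 119), ([(28, 1, 0)], 120), ([(29, 1, 0)], 121), ([(30, 1, 0)], 122), ([(31, 1, 0)], 123), ([(32, 1, 0)], 124), ([(33, 1, 0)], 125), ([(34, 1, 0)], 126), ([(35, 1, 0)], 127), ([(36, 1, 0)], 128), ([(37, 1, 0)], 129), ([(38, 1, 0)], 130), ([(39, 1, 0)], 131), ([(41, 1, 0)], 71), ([(42, 1,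 0)], 72), ([(43, 1, 0)], 74), ([(44, 1, 0)], 75), ([(46, 1, 0)], 78), ([(47, 1, 0)], 79), ([(50, 1, 0)], 83), ([(51, 1, 0)], 84), ([(55, 1, 0)], 88), ([(56, 1, 0)], 89), ([(60, 1, 0)], 92), ([(61, 1, 0)], 93), ([(64, 1, 0)], 95), ([(65, 1, 0)], 96), ([(67, 1, 0)], 97), ([(68, 1, 0)], 98), ([(0, 1, 0), (5, 1, 0)], 132), ([(8, 1, 0), (23, 1, 0)], 23), ([(9, 1, 0), (29, 1, 0)], 29), ([(10, 1, 0), (32, 1, 0)], 32), ([(11, 1, 0), (33, 1, 0)], 33), ([(14, 1, 0), (36, 1, 0)], 36), ([(15, 1, 0), (37, 1, 0)], 37), ([(18, 1, 0), (38, 1, 0)], 38), ([(24, 1, 0), (39, 1, 0)], 39), ([(0, 1, 0), (5, 1, 0), (7, 1, 0)], 2), ([(0, 1, 0), (7, 1, 0), (40, 1, 0)], 1)]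

theorem e7r_lb2 {F : Type*} [Field F] [CharP F 2] :
    52 ≤ (chevE7.wordMat F ([125, 92].map fun r => (r, (1 : F))) - 1).rank :=
  le_trans (le_of_eq (by decide +kernel : (52 : ℕ) = e7rLB2.length))
    (chr_lb F chevE7 [125, 92] e7rLB2 (by decide +kernel) (by decide +kernel))

noncomputable def e7rLB3 : List (FVec × ℕ) :=
  [([(13, 1, 0)], 105), ([(17, 1, 0)], 109), ([(20, 1, 0)], 112), ([(22, 1, 0)], 114), ([(23, 1, 0)], 115), ([(26, 1, 0)], 118), ([(28, 1, 0)], 120), ([(29, 1, 0)], 121), ([(31, 1, 0)], 123), ([(32, 1, 0)], 124), ([(33, 1, 0)], 125), ([(35, 1, 0)], 127), ([(36, 1, 0)], 128), ([(37, 1, 0)], 129), ([(38, 1, 0)], 130), ([(39, 1, 0)], 131), ([(42, 1, 0)], 72), ([(44, 1, 0)], 75), ([(47, 1, 0)], 79), ([(51, 1, 0)], 84), ([(56, 1, 0)], 89), ([(61, 1, 0)], 93), ([(65, 1, 0)], 96), ([(68, 1, 0)], 98), ([(0, 1, 0)], 99), ([(0, 1, 0), (5, 1, 0)], 70),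 ([(0, 1, 0), (5, 1, 0), (69, 1, 0)], 6), ([(8, 1, 0), (23, 1, 0)], 23), ([(9, 1, 0), (29, 1, 0)], 29), ([(10, 1, 0), (32, 1, 0)], 32), ([(11, 1, 0), (33, 1, 0)], 33), ([(12, 1, 0), (13, 1, 0)], 13), ([(14, 1, 0), (36, 1, 0)], 36), ([(15, 1, 0), (37, 1, 0)], 37), ([(16, 1, 0), (17, 1, 0)], 17), ([(18, 1, 0), (38, 1, 0)], 38), ([(19, 1, 0), (20, 1, 0)], 20), ([(21, 1, 0), (22, 1, 0)], 22), ([(24, 1, 0), (39, 1, 0)], 39), ([(25, 1, 0), (26, 1, 0)], 26), ([(27, 1, 0), (28, 1, 0)], 28), ([(30, 1, 0), (31, 1, 0)], 31), ([(34, 1, 0), (35, 1, 0)], 35), ([(41, 1, 0), (42, 1, 0)], 42), ([(43, 1, 0), (44, 1, 0)], 44), ([(46, 1, 0), (47, 1, 0)], 47), ([(50, 1, 0), (51, 1, 0)], 51), ([(55, 1, 0), (56, 1, 0)], 56), ([(60, 1, 0), (61, 1, 0)], 61), ([(64, 1, 0), (65, 1, 0)], 65), ([(67, 1, 0), (68, 1, 0)], 68), ([(0, 1, 0), (5, 1, 0), (7, 1, 0), (69, 1, 0)], 2), ([(0, 1, 0),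 (7, 1, 0), (40, 1, 0)], 1)]

theorem e7r_lb3 {F : Type*} [Field F] [CharP F 2] :
    53 ≤ (chevE7.wordMat F ([125, 92, 63].map fun r => (r, (1 : F))) - 1).rank :=
  le_trans (le_of_eq (by decide +kernel : (53 : ℕ) = e7rLB3.length))
    (chr_lb F chevE7 [125, 92, 63] e7rLB3 (by decide +kernel) (by decide +kernel))

end Cfsg.Agent.Helper81
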