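/-
helper81: S2181 (`E₇(q)`, `q` even, five classes of involutions) - the ranks of `y - 1` for the five
representatives `y`, part B (machine certificates, checked by the kernel).
-/
import Cfsg.Agent.Helper81.ChRank
import Cfsg.Prelude.Def_ChevE7

set_option autoImplicit false
set_option linter.unusedSectionVars false
set_option linter.unusedVariables false
set_option maxRecDepth 100000

namespace Cfsg.Agent.Helper81

open Cfsg Cfsg.Lie Cfsg.Agent.Helper18 Cfsg.Agent.Helper38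

noncomputable def e7rLB4 : List (FVec × ℕ) :=
  [([(3, 1, 0)], 94), ([(19, 1, 0)], 111), ([(20, 1, 0)], 112), ([(21, 1, 0)], 113), ([(22, 1, 0)], 114), ([(25, 1, 0)], 117), ([(26, 1, 0)], 118), ([(27, 1, 0)], 119), ([(28, 1, 0)], 120), ([(30, 1, 0)], 122), ([(31, 1, 0)], 123), ([(32, 1, 0)], 124), ([(33, 1, 0)], 125), ([(34, 1, 0)], 126), ([(35, 1, 0)], 127), ([(36, 1, 0)], 128), ([(37, 1, 0)], 129), ([(38, 1, 0)], 130), ([(39, 1, 0)], 131), ([(46, 1, 0)], 78), ([(47, 1, 0)], 79), ([(48, 1, 0)], 76), ([(49, 1, 0)], 77), ([(50, 1, 0)], 83), ([(51, 1, 0)], 84), ([(52, 1, 0)], 81), ([(53, 1, 0)], 82), ([(55, 1, 0)], 88), ([(56, 1, 0)], 89), ([(57, 1, 0)], 86), ([(58, 1, 0)], 87), ([(60, 1, 0)], 92), ([(61, 1, 0)], 93), ([(62, 1, 0)], 90), ([(63, 1, 0)], 91), ([(64, 1, 0)], 95), ([(65, 1, 0)], 96), ([(67, 1, 0)], 97), ([(68, 1, 0)], 98), ([(3, 1,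 0), (5, 1, 0)], 99), ([(0, 1, 0), (5, 1, 0)], 132), ([(10, 1, 0), (32, 1, 0)], 32), ([(11, 1, 0), (33, 1, 0)], 33), ([(12, 1, 0), (30, 1, 0)], 30), ([(13, 1, 0), (31, 1, 0)], 31), ([(14, 1, 0), (36, 1, 0)], 36), ([(15, 1, 0), (37, 1, 0)], 37), ([(16, 1, 0), (34, 1, 0)], 34), ([(17, 1, 0), (35, 1, 0)], 35), ([(23, 1, 0), (38, 1, 0)], 38), ([(18, 1, 0), (23, 1, 0)], 110), ([(29, 1, 0), (39, 1, 0)], 39), ([(24, 1, 0), (29, 1, 0)], 116), ([(41, 1, 0), (64, 1, 0)], 64), ([(42, 1, 0), (65, 1, 0)], 65), ([(43, 1, 0), (67, 1, 0)], 67), ([(44, 1, 0), (68, 1, 0)], 68), ([(0, 1, 0), (7, 1, 0), (40, 1, 0), (45, 1, 0)], 2), ([(0, 1, 0), (3, 1, 0), (5, 1, 0), (7, 1, 0), (45, 1, 0)], 1), ([(5, 1, 0), (40, 1, 0), (45, 1, 0)], 4), ([(8, 1, 0), (18, 1, 0)], 18), ([(9, 1, 0), (24, 1, 0)], 24)]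

theorem e7r_lb4 {F : Type*} [Field F] [CharP F 2] :
    62 ≤ (chevE7.wordMat F ([125, 92, 87].map fun r => (r, (1 : F))) - 1).rank :=
  le_trans (le_of_eq (by decide +kernel : (62 : ℕ) = e7rLB4.length))
    (chr_lb F chevE7 [125, 92, 87] e7rLB4 (by decide +kernel) (by decide +kernel))

noncomputable def e7rLB5 : List (FVec × ℕ) :=
  [([(3, 1, 0)], 94), ([(20, 1, 0)], 112), ([(22, 1, 0)], 114), ([(26, 1, 0)], 118), ([(28, 1, 0)], 120), ([(31, 1, 0)], 123), ([(32, 1, 0)], 124), ([(33, 1, 0)], 125), ([(35, 1, 0)], 127), ([(36, 1, 0)], 128), ([(37, 1, 0)], 129), ([(38, 1, 0)], 130), ([(39, 1, 0)], 131), ([(47, 1, 0)], 79), ([(48, 1, 0)], 76), ([(49, 1, 0)], 77), ([(51, 1, 0)], 84), ([(52, 1, 0)], 81), ([(53, 1, 0)], 82), ([(56, 1, 0)], 89), ([(57, 1, 0)], 86), ([(58, 1, 0)], 87), ([(61, 1, 0)], 93), ([(62, 1, 0)], 90), ([(63, 1, 0)], 91), ([(65, 1,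 0)], 96), ([(68, 1, 0)], 98), ([(0, 1, 0), (5, 1, 0), (69, 1, 0)], 6), ([(0, 1, 0), (3, 1, 0)], 99), ([(0, 1, 0), (5, 1, 0)], 70), ([(10, 1, 0), (32, 1, 0)], 32), ([(11, 1, 0), (33, 1, 0)], 33), ([(30, 1, 0), (31, 1, 0)], 31), ([(14, 1, 0), (36, 1, 0)], 36), ([(15, 1, 0), (37, 1, 0)], 37), ([(34, 1, 0), (35, 1, 0)], 35), ([(23, 1, 0), (38, 1, 0)], 38), ([(19, 1, 0), (20, 1, 0)], 20), ([(21, 1, 0), (22, 1, 0)], 22), ([(18, 1, 0), (23, 1, 0)], 110), ([(29, 1, 0), (39, 1, 0)], 39), ([(25, 1, 0), (26, 1, 0)], 26), ([(27, 1, 0), (28, 1, 0)], 28), ([(24, 1, 0), (29, 1, 0)], 116), ([(13, 1, 0), (30, 1, 0)], 105), ([(17, 1, 0), (34, 1, 0)], 109), ([(64, 1, 0), (65, 1, 0)], 65), ([(67, 1, 0), (68, 1, 0)], 68), ([(46, 1, 0), (47, 1, 0)], 47), ([(50, 1, 0), (51, 1, 0)], 51), ([(55, 1, 0), (56, 1, 0)], 56), ([(60, 1, 0), (61, 1, 0)], 61), ([(42, 1, 0), (64,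 1, 0)], 72), ([(44, 1, 0), (67, 1, 0)], 75), ([(0, 1, 0), (7, 1, 0), (40, 1, 0), (45, 1, 0)], 2), ([(0, 1, 0), (3, 1, 0), (5, 1, 0), (7, 1, 0), (45, 1, 0), (69, 1, 0)], 1), ([(5, 1, 0), (40, 1, 0), (45, 1, 0), (69, 1, 0)], 4), ([(8, 1, 0), (18, 1, 0)], 18), ([(9, 1, 0), (24, 1, 0)], 24), ([(12, 1, 0), (13, 1, 0)], 13), ([(16, 1, 0), (17, 1, 0)], 17), ([(41, 1, 0), (42, 1, 0)], 42), ([(43, 1, 0), (44, 1, 0)], 44)]

theorem e7r_lb5 {F : Type*} [Field F] [CharP F 2] :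
    63 ≤ (chevE7.wordMat F ([125, 92, 87, 63].map fun r => (r, (1 : F))) - 1).rank :=
  le_trans (le_of_eq (by decide +kernel : (63 : ℕ) = e7rLB5.length))
    (chr_lb F chevE7 [125, 92, 87, 63] e7rLB5 (by decide +kernel) (by decide +kernel))

end Cfsg.Agent.Helper81
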