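/-
helper81: S2181 (`E₇(q)`, `q` even, five classes of involutions) - the ranks of `y - 1` for the five
representatives `y`, part D (machine certificates, checked by the kernel).
-/
import Cfsg.Agent.Helper81.ChRank
import Cfsg.Prelude.Def_ChevE7

set_option autoImplicit false
set_option linter.unusedSectionVars false
set_option linter.unusedVariables false
set_option maxRecDepth 100000

namespace Cfsg.Agent.Helper81

open Cfsg Cfsg.Lie Cfsg.Agent.Helper18 Cfsg.Agent.Helper38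

noncomputable def e7rUB3 : List (FVec × ℕ) :=
  [([(1, 1, 0)], 1), ([(2, 1, 0)], 2), ([(3, 1, 0)], 3), ([(4, 1, 0)], 4), ([(6, 1, 0)], 6), ([(45, 1, 0)], 45), ([(48, 1, 0)], 48), ([(49, 1, 0)], 49), ([(52, 1, 0)], 52), ([(53, 1, 0)], 53), ([(54, 1, 0)], 54), ([(57, 1, 0)], 57), ([(58, 1, 0)], 58), ([(59, 1, 0)], 59), ([(62, 1, 0)], 62), ([(63, 1, 0)], 63), ([(66, 1, 0)], 66), ([(70, 1, 0)], 70), ([(72, 1, 0)], 72), ([(73, 1, 0)], 73), ([(75, 1, 0)], 75), ([(76, 1, 0)], 76), ([(77, 1, 0)], 77), ([(79, 1, 0)], 79), ([(80, 1, 0)], 80), ([(81, 1, 0)], 81), ([(82, 1, 0)], 82), ([(84, 1, 0)], 84), ([(85, 1, 0)], 85), ([(86, 1, 0)], 86), ([(87, 1, 0)], 87), ([(89, 1, 0)], 89), ([(90, 1, 0)], 90), ([(91, 1, 0)], 91), ([(93, 1, 0)], 93), ([(94, 1, 0)], 94), ([(96, 1, 0)], 96), ([(98, 1, 0)], 98), ([(99, 1, 0)], 99), ([(105, 1, 0)], 105), ([(109, 1, 0)], 109), ([(112, 1, 0)],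 112), ([(114, 1, 0)], 114), ([(115, 1, 0)], 115), ([(118, 1, 0)], 118), ([(120, 1, 0)], 120), ([(121, 1, 0)], 121), ([(123, 1, 0)], 123), ([(124, 1, 0)], 124), ([(125, 1, 0)], 125), ([(127, 1, 0)], 127), ([(128, 1, 0)], 128), ([(129, 1, 0)], 129), ([(130, 1, 0)], 130), ([(131, 1, 0)], 131), ([(132, 1, 0)], 132), ([(42, 1, 0), (71, 1, 0)], 42), ([(44, 1, 0), (74, 1, 0)], 44), ([(47, 1, 0), (78, 1, 0)], 47), ([(51, 1, 0), (83, 1, 0)], 51), ([(56, 1, 0), (88, 1, 0)], 56), ([(61, 1, 0), (92, 1, 0)], 61), ([(65, 1, 0), (95, 1, 0)], 65), ([(68, 1, 0), (97, 1, 0)], 68), ([(23, 1, 0), (100, 1, 0)], 23), ([(29, 1, 0), (101, 1, 0)], 29), ([(32, 1, 0), (102, 1, 0)], 32), ([(33, 1, 0), (103, 1, 0)], 33), ([(13, 1, 0), (104, 1, 0)], 13), ([(36, 1, 0), (106, 1, 0)], 36), ([(37, 1, 0), (107, 1, 0)], 37), ([(17, 1, 0), (108, 1, 0)], 17), ([(38, 1, 0), (110, 1, 0)], 38), ([(20, 1, 0),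 (111, 1, 0)], 20), ([(22, 1, 0), (113, 1, 0)], 22), ([(39, 1, 0), (116, 1, 0)], 39), ([(26, 1, 0), (117, 1, 0)], 26), ([(28, 1, 0), (119, 1, 0)], 28), ([(31, 1, 0), (122, 1, 0)], 31), ([(35, 1, 0), (126, 1, 0)], 35)]

theorem e7r_ub3 {F : Type*} [Field F] [CharP F 2] :
    (chevE7.wordMat F ([125, 92, 63].map fun r => (r, (1 : F))) - 1).rank ≤ 53 := by
  have h := chr_ub F chevE7 [125, 92, 63] e7rUB3 (by decide +kernel) (by decide +kernel)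
  have h1 : e7rUB3.length = 80 := by decide +kernel
  have h2 : chevE7.rank + chevE7.nroots = 133 := by decide +kernel
  rw [h1, h2] at h
  omega

noncomputable def e7rUB4 : List (FVec × ℕ) :=
  [([(1, 1, 0)], 1), ([(2, 1, 0)], 2), ([(4, 1, 0)], 4), ([(6, 1, 0)], 6), ([(54, 1, 0)], 54), ([(59, 1, 0)], 59), ([(66, 1, 0)], 66), ([(69, 1, 0)], 69), ([(70, 1, 0)], 70), ([(73, 1, 0)], 73), ([(76, 1, 0)], 76), ([(77, 1, 0)], 77), ([(78, 1, 0)], 78), ([(79, 1, 0)], 79), ([(80, 1, 0)], 80), ([(81, 1, 0)], 81), ([(82, 1, 0)], 82), ([(83, 1, 0)], 83), ([(84, 1, 0)], 84), ([(85, 1, 0)], 85), ([(86, 1, 0)], 86), ([(87, 1, 0)], 87), ([(88, 1, 0)], 88), ([(89, 1, 0)], 89), ([(90, 1, 0)], 90), ([(91, 1, 0)], 91), ([(92, 1, 0)], 92), ([(93, 1, 0)], 93), ([(94, 1, 0)], 94), ([(95, 1, 0)], 95), ([(96, 1, 0)], 96), ([(97, 1, 0)], 97), ([(98, 1, 0)], 98), ([(99, 1, 0)], 99), ([(111, 1,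 0)], 111), ([(112, 1, 0)], 112), ([(113, 1, 0)], 113), ([(114, 1, 0)], 114), ([(117, 1, 0)], 117), ([(118, 1, 0)], 118), ([(119, 1, 0)], 119), ([(120, 1, 0)], 120), ([(122, 1, 0)], 122), ([(123, 1, 0)], 123), ([(124, 1, 0)], 124), ([(125, 1, 0)], 125), ([(126, 1, 0)], 126), ([(127, 1, 0)], 127), ([(128, 1, 0)], 128), ([(129, 1, 0)], 129), ([(130, 1, 0)], 130), ([(131, 1, 0)], 131), ([(132, 1, 0)], 132), ([(64, 1, 0), (71, 1, 0)], 64), ([(65, 1, 0), (72, 1, 0)], 65), ([(67, 1, 0), (74, 1, 0)], 67), ([(68, 1, 0), (75, 1, 0)], 68), ([(32, 1, 0), (102, 1, 0)], 32), ([(33, 1, 0), (103, 1, 0)], 33), ([(30, 1, 0), (104, 1, 0)], 30), ([(31, 1, 0), (105, 1, 0)], 31), ([(36, 1, 0), (106, 1, 0)], 36), ([(37, 1, 0), (107, 1, 0)], 37), ([(34, 1, 0), (108, 1, 0)], 34), ([(35, 1, 0), (109, 1, 0)], 35), ([(38, 1, 0), (115, 1, 0)], 38), ([(110, 1, 0), (115, 1, 0)], 110), ([(39, 1, 0),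 (121, 1, 0)], 39), ([(116, 1, 0), (121, 1, 0)], 116), ([(18, 1, 0), (23, 1, 0), (100, 1, 0), (115, 1, 0)], 18), ([(24, 1, 0), (29, 1, 0), (101, 1, 0), (121, 1, 0)], 24)]

theorem e7r_ub4 {F : Type*} [Field F] [CharP F 2] :
    (chevE7.wordMat F ([125, 92, 87].map fun r => (r, (1 : F))) - 1).rank ≤ 62 := by
  have h := chr_ub F chevE7 [125, 92, 87] e7rUB4 (by decide +kernel) (by decide +kernel)
  have h1 : e7rUB4.length = 71 := by decide +kernel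
  have h2 : chevE7.rank + chevE7.nroots = 133 := by decide +kernel
  rw [h1, h2] at h
  omega

end Cfsg.Agent.Helper81
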