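/-
helper81: involutions of the Chevalley group of type E8 in characteristic two - the fusion of the sets of pairwise orthogonal roots of the standard words
(generated by tools/calls/e7scripts/xfus.py: Weyl moves, permutations of commuting letters and one checked
fusion inside a subsystem `D₄`).
-/
import Cfsg.Agent.Helper38.ChInvFus
import Cfsg.Agent.Helper27.E8INC

set_option autoImplicit false
set_option linter.unusedSectionVars false
set_option linter.unusedVariables false
set_option maxRecDepth 100000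

namespace Cfsg.Agent.Helper81

open Cfsg Cfsg.Lie Cfsg.Agent.Helper36 Cfsg.Agent.Helper17 Cfsg.Agent.Helper18 Cfsg.Agent.Helper38


/-- The checked fusion in `D₄`: the word of `[239, 226, 159, 121]` is conjugate to the word of `[239, 226, 159]` by the word `[79, 119, 122, 12]`. -/
theorem e8f_d4 : (goodWord chevE8 (oneW ([79, 119, 122, 12] ++ [239, 226, 159, 121])) && goodWord chevE8 (oneW ([239, 226, 159] ++ [79, 119, 122, 12])) &&
    Cfsg.Agent.Helper18.allBelow (chevE8.rank + chevE8.nroots)
      (fun k => allEvenF (fsub (fapplyW chevE8 (oneW ([79, 119, 122, 12] ++ [239, 226, 159, 121])) [(k, 1, 0)])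
        (fapplyW chevE8 (oneW ([239, 226, 159] ++ [79, 119, 122, 12])) [(k, 1, 0)])))) = true := by
  decide +kernel

section

variable {F : Type*} [Field F] {η : ℕ → ℕ → ℤ}

theorem e8f_set_239 [CharP F 2] (R : BRel chevE8 F η) : ChiFus R [239] [239] :=
  chi_fus_refl R [239]

theorem e8f_set_239_226 [CharP F 2] (R : BRel chevE8 F η) : ChiFus R [239, 226] [232, 233] :=
  (chi_fus_weyl R [1, 3, 4, 5, 6, 7] [239, 226] [232, 233] (by decide +kernel) (by decide +kernel) (by decide +kernel))

theorem e8f_set_239_226_159 [CharP F 2] (R : BRel chevE8 F η) : ChiFus R [239, 226, 159] [228, 222, 218] :=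
  (chi_fus_weyl R [5, 4, 3, 1, 2, 3, 4, 5, 6, 7, 4, 3, 2, 0] [239, 226, 159] [228, 222, 218] (by decide +kernel) (by decide +kernel) (by decide +kernel))

theorem e8f_set_239_226_159_152 [CharP F 2] (R : BRel chevE8 F η) : ChiFus R [239, 226, 159, 152] [226, 220, 213, 216] :=
  (chi_fus_weyl R [7, 6, 5, 4, 3, 1, 2, 3, 4, 5, 6, 7, 6, 5, 4, 3, 2, 0, 4, 5] [239, 226, 159, 152] [226, 220, 213, 216] (by decide +kernel) (by decide +kernel) (by decide +kernel))

theorem e8f_set_239_226_159_152_141 [CharP F 2] (R : BRel chevE8 F η) : ChiFus R [239, 226, 159, 152, 141] [226, 220, 213, 216] :=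
  (chi_fus_trans R (chi_fus_perm R [239, 226, 159, 152, 141] [239, 159, 152, 141, 226] (by decide +kernel) (by decide +kernel))
    (chi_fus_trans R (chi_fus_weyl R [5, 6, 4, 5, 0, 2, 3, 4, 1, 3, 2, 0] [239, 159, 152, 141, 226] [239, 226, 159, 121, 152] (by decide +kernel) (by decide +kernel) (by decide +kernel))
    (chi_fus_trans R (chi_fus_chk R [79, 119, 122, 12] [239, 226, 159, 121] [239, 226, 159] [152] e8f_d4 (by decide +kernel))
    (chi_fus_weyl R [7, 6, 5, 4, 3, 1, 2, 3, 4, 5, 6, 7, 6, 5, 4, 3, 2, 0, 4, 5] [239, 226, 159, 152] [226, 220, 213, 216] (by decide +kernel) (by decide +kernel) (by decide +kernel)))))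

theorem e8f_set_239_226_159_152_141_135 [CharP F 2] (R : BRel chevE8 F η) : ChiFus R [239, 226, 159, 152, 141, 135] [226, 220, 213, 216] :=
  (chi_fus_trans R (chi_fus_perm R [239, 226, 159, 152, 141, 135] [239, 226, 141, 135, 159, 152] (by decide +kernel) (by decide +kernel))
    (chi_fus_trans R (chi_fus_weyl R [5, 6, 4, 5, 3, 4, 2, 3] [239, 226, 141, 135, 159, 152] [239, 226, 159, 121, 152, 141] (by decide +kernel) (by decide +kernel) (by decide +kernel))
    (chi_fus_trans R (chi_fus_chk R [79, 119, 122, 12] [239, 226, 159, 121] [239, 226, 159] [152, 141] e8f_d4 (by decide +kernel))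
    (chi_fus_trans R (chi_fus_perm R [239, 226, 159, 152, 141] [239, 159, 152, 141, 226] (by decide +kernel) (by decide +kernel))
    (chi_fus_trans R (chi_fus_weyl R [5, 6, 4, 5, 0, 2, 3, 4, 1, 3, 2, 0] [239, 159, 152, 141, 226] [239, 226, 159, 121, 152] (by decide +kernel) (by decide +kernel) (by decide +kernel))
    (chi_fus_trans R (chi_fus_chk R [79, 119, 122, 12] [239, 226, 159, 121] [239, 226, 159] [152] e8f_d4 (by decide +kernel))
    (chi_fus_weyl R [7, 6, 5, 4, 3, 1, 2, 3, 4, 5, 6, 7, 6, 5, 4, 3, 2, 0, 4, 5] [239, 226, 159, 152] [226, 220, 213, 216] (by decide +kernel) (by decide +kernel) (by decide +kernel))))))))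

theorem e8f_set_239_226_159_152_141_135_126 [CharP F 2] (R : BRel chevE8 F η) : ChiFus R [239, 226, 159, 152, 141, 135, 126] [226, 220, 213, 216] :=
  (chi_fus_trans R (chi_fus_perm R [239, 226, 159, 152, 141, 135, 126] [239, 226, 152, 126, 159, 141, 135] (by decide +kernel) (by decide +kernel))
    (chi_fus_trans R (chi_fus_weyl R [5, 6, 4, 5] [239, 226, 152, 126, 159, 141, 135] [239, 226, 159, 121, 152, 141, 135] (by decide +kernel) (by decide +kernel) (by decide +kernel))
    (chi_fus_trans R (chi_fus_chk R [79, 119, 122, 12] [239, 226, 159, 121] [239, 226, 159] [152, 141, 135] e8f_d4 (by decide +kernel))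
    (chi_fus_trans R (chi_fus_perm R [239, 226, 159, 152, 141, 135] [239, 226, 141, 135, 159, 152] (by decide +kernel) (by decide +kernel))
    (chi_fus_trans R (chi_fus_weyl R [5, 6, 4, 5, 3, 4, 2, 3] [239, 226, 141, 135, 159, 152] [239, 226, 159, 121, 152, 141] (by decide +kernel) (by decide +kernel) (by decide +kernel))
    (chi_fus_trans R (chi_fus_chk R [79, 119, 122, 12] [239, 226, 159, 121] [239, 226, 159] [152, 141] e8f_d4 (by decide +kernel))
    (chi_fus_trans R (chi_fus_perm R [239, 226, 159, 152, 141] [239, 159, 152, 141, 226] (by decide +kernel) (by decide +kernel))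
    (chi_fus_trans R (chi_fus_weyl R [5, 6, 4, 5, 0, 2, 3, 4, 1, 3, 2, 0] [239, 159, 152, 141, 226] [239, 226, 159, 121, 152] (by decide +kernel) (by decide +kernel) (by decide +kernel))
    (chi_fus_trans R (chi_fus_chk R [79, 119, 122, 12] [239, 226, 159, 121] [239, 226, 159] [152] e8f_d4 (by decide +kernel))
    (chi_fus_weyl R [7, 6, 5, 4, 3, 1, 2, 3, 4, 5, 6, 7, 6, 5, 4, 3, 2, 0, 4, 5] [239, 226, 159, 152] [226, 220, 213, 216] (by decide +kernel) (by decide +kernel) (by decide +kernel)))))))))))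

theorem e8f_set_239_226_159_152_141_135_126_121 [CharP F 2] (R : BRel chevE8 F η) : ChiFus R [239, 226, 159, 152, 141, 135, 126, 121] [226, 220, 213, 216] :=
  (chi_fus_trans R (chi_fus_perm R [239, 226, 159, 152, 141, 135, 126, 121] [239, 226, 159, 121, 152, 141, 135, 126] (by decide +kernel) (by decide +kernel))
    (chi_fus_trans R (chi_fus_chk R [79, 119, 122, 12] [239, 226, 159, 121] [239, 226, 159] [152, 141, 135, 126] e8f_d4 (by decide +kernel))
    (chi_fus_trans R (chi_fus_perm R [239, 226, 159, 152, 141, 135, 126] [239, 226, 152, 126, 159, 141, 135] (by decide +kernel) (by decide +kernel))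
    (chi_fus_trans R (chi_fus_weyl R [5, 6, 4, 5] [239, 226, 152, 126, 159, 141, 135] [239, 226, 159, 121, 152, 141, 135] (by decide +kernel) (by decide +kernel) (by decide +kernel))
    (chi_fus_trans R (chi_fus_chk R [79, 119, 122, 12] [239, 226, 159, 121] [239, 226, 159] [152, 141, 135] e8f_d4 (by decide +kernel))
    (chi_fus_trans R (chi_fus_perm R [239, 226, 159, 152, 141, 135] [239, 226, 141, 135, 159, 152] (by decide +kernel) (by decide +kernel))
    (chi_fus_trans R (chi_fus_weyl R [5, 6, 4, 5, 3, 4, 2, 3] [239, 226, 141, 135, 159, 152] [239, 226, 159, 121, 152, 141] (by decide +kernel) (by decide +kernel) (by decide +kernel))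
    (chi_fus_trans R (chi_fus_chk R [79, 119, 122, 12] [239, 226, 159, 121] [239, 226, 159] [152, 141] e8f_d4 (by decide +kernel))
    (chi_fus_trans R (chi_fus_perm R [239, 226, 159, 152, 141] [239, 159, 152, 141, 226] (by decide +kernel) (by decide +kernel))
    (chi_fus_trans R (chi_fus_weyl R [5, 6, 4, 5, 0, 2, 3, 4, 1, 3, 2, 0] [239, 159, 152, 141, 226] [239, 226, 159, 121, 152] (by decide +kernel) (by decide +kernel) (by decide +kernel))
    (chi_fus_trans R (chi_fus_chk R [79, 119, 122, 12] [239, 226, 159, 121] [239, 226, 159] [152] e8f_d4 (by decide +kernel))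
    (chi_fus_weyl R [7, 6, 5, 4, 3, 1, 2, 3, 4, 5, 6, 7, 6, 5, 4, 3, 2, 0, 4, 5] [239, 226, 159, 152] [226, 220, 213, 216] (by decide +kernel) (by decide +kernel) (by decide +kernel)))))))))))))

theorem e8f_set_239_226_159_152_141_135_121 [CharP F 2] (R : BRel chevE8 F η) : ChiFus R [239, 226, 159, 152, 141, 135, 121] [226, 220, 213, 216] :=
  (chi_fus_trans R (chi_fus_perm R [239, 226, 159, 152, 141, 135, 121] [239, 226, 159, 121, 152, 141, 135] (by decide +kernel) (by decide +kernel))
    (chi_fus_trans R (chi_fus_chk R [79, 119, 122, 12] [239, 226, 159, 121] [239, 226, 159] [152, 141, 135] e8f_d4 (by decide +kernel))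
    (chi_fus_trans R (chi_fus_perm R [239, 226, 159, 152, 141, 135] [239, 226, 141, 135, 159, 152] (by decide +kernel) (by decide +kernel))
    (chi_fus_trans R (chi_fus_weyl R [5, 6, 4, 5, 3, 4, 2, 3] [239, 226, 141, 135, 159, 152] [239, 226, 159, 121, 152, 141] (by decide +kernel) (by decide +kernel) (by decide +kernel))
    (chi_fus_trans R (chi_fus_chk R [79, 119, 122, 12] [239, 226, 159, 121] [239, 226, 159] [152, 141] e8f_d4 (by decide +kernel))
    (chi_fus_trans R (chi_fus_perm R [239, 226, 159, 152, 141] [239, 159, 152, 141, 226] (by decide +kernel) (by decide +kernel))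
    (chi_fus_trans R (chi_fus_weyl R [5, 6, 4, 5, 0, 2, 3, 4, 1, 3, 2, 0] [239, 159, 152, 141, 226] [239, 226, 159, 121, 152] (by decide +kernel) (by decide +kernel) (by decide +kernel))
    (chi_fus_trans R (chi_fus_chk R [79, 119, 122, 12] [239, 226, 159, 121] [239, 226, 159] [152] e8f_d4 (by decide +kernel))
    (chi_fus_weyl R [7, 6, 5, 4, 3, 1, 2, 3, 4, 5, 6, 7, 6, 5, 4, 3, 2, 0, 4, 5] [239, 226, 159, 152] [226, 220, 213, 216] (by decide +kernel) (by decide +kernel) (by decide +kernel))))))))))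

theorem e8f_set_239_226_159_152_141_126 [CharP F 2] (R : BRel chevE8 F η) : ChiFus R [239, 226, 159, 152, 141, 126] [226, 220, 213, 216] :=
  (chi_fus_trans R (chi_fus_perm R [239, 226, 159, 152, 141, 126] [239, 226, 152, 126, 159, 141] (by decide +kernel) (by decide +kernel))
    (chi_fus_trans R (chi_fus_weyl R [5, 6, 4, 5] [239, 226, 152, 126, 159, 141] [239, 226, 159, 121, 152, 141] (by decide +kernel) (by decide +kernel) (by decide +kernel))
    (chi_fus_trans R (chi_fus_chk R [79, 119, 122, 12] [239, 226, 159, 121] [239, 226, 159] [152, 141] e8f_d4 (by decide +kernel))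
    (chi_fus_trans R (chi_fus_perm R [239, 226, 159, 152, 141] [239, 159, 152, 141, 226] (by decide +kernel) (by decide +kernel))
    (chi_fus_trans R (chi_fus_weyl R [5, 6, 4, 5, 0, 2, 3, 4, 1, 3, 2, 0] [239, 159, 152, 141, 226] [239, 226, 159, 121, 152] (by decide +kernel) (by decide +kernel) (by decide +kernel))
    (chi_fus_trans R (chi_fus_chk R [79, 119, 122, 12] [239, 226, 159, 121] [239, 226, 159] [152] e8f_d4 (by decide +kernel))
    (chi_fus_weyl R [7, 6, 5, 4, 3, 1, 2, 3, 4, 5, 6, 7, 6, 5, 4, 3, 2, 0, 4, 5] [239, 226, 159, 152] [226, 220, 213, 216] (by decide +kernel) (by decide +kernel) (by decide +kernel))))))))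

theorem e8f_set_239_226_159_152_141_126_121 [CharP F 2] (R : BRel chevE8 F η) : ChiFus R [239, 226, 159, 152, 141, 126, 121] [226, 220, 213, 216] :=
  (chi_fus_trans R (chi_fus_perm R [239, 226, 159, 152, 141, 126, 121] [239, 226, 159, 121, 152, 141, 126] (by decide +kernel) (by decide +kernel))
    (chi_fus_trans R (chi_fus_chk R [79, 119, 122, 12] [239, 226, 159, 121] [239, 226, 159] [152, 141, 126] e8f_d4 (by decide +kernel))
    (chi_fus_trans R (chi_fus_perm R [239, 226, 159, 152, 141, 126] [239, 226, 152, 126, 159, 141] (by decide +kernel) (by decide +kernel))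
    (chi_fus_trans R (chi_fus_weyl R [5, 6, 4, 5] [239, 226, 152, 126, 159, 141] [239, 226, 159, 121, 152, 141] (by decide +kernel) (by decide +kernel) (by decide +kernel))
    (chi_fus_trans R (chi_fus_chk R [79, 119, 122, 12] [239, 226, 159, 121] [239, 226, 159] [152, 141] e8f_d4 (by decide +kernel))
    (chi_fus_trans R (chi_fus_perm R [239, 226, 159, 152, 141] [239, 159, 152, 141, 226] (by decide +kernel) (by decide +kernel))
    (chi_fus_trans R (chi_fus_weyl R [5, 6, 4, 5, 0, 2, 3, 4, 1, 3, 2, 0] [239, 159, 152, 141, 226] [239, 226, 159, 121, 152] (by decide +kernel) (by decide +kernel) (by decide +kernel))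
    (chi_fus_trans R (chi_fus_chk R [79, 119, 122, 12] [239, 226, 159, 121] [239, 226, 159] [152] e8f_d4 (by decide +kernel))
    (chi_fus_weyl R [7, 6, 5, 4, 3, 1, 2, 3, 4, 5, 6, 7, 6, 5, 4, 3, 2, 0, 4, 5] [239, 226, 159, 152] [226, 220, 213, 216] (by decide +kernel) (by decide +kernel) (by decide +kernel))))))))))

theorem e8f_set_239_226_159_152_141_121 [CharP F 2] (R : BRel chevE8 F η) : ChiFus R [239, 226, 159, 152, 141, 121] [226, 220, 213, 216] :=
  (chi_fus_trans R (chi_fus_perm R [239, 226, 159, 152, 141, 121] [239, 226, 159, 121, 152, 141] (by decide +kernel) (by decide +kernel))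
    (chi_fus_trans R (chi_fus_chk R [79, 119, 122, 12] [239, 226, 159, 121] [239, 226, 159] [152, 141] e8f_d4 (by decide +kernel))
    (chi_fus_trans R (chi_fus_perm R [239, 226, 159, 152, 141] [239, 159, 152, 141, 226] (by decide +kernel) (by decide +kernel))
    (chi_fus_trans R (chi_fus_weyl R [5, 6, 4, 5, 0, 2, 3, 4, 1, 3, 2, 0] [239, 159, 152, 141, 226] [239, 226, 159, 121, 152] (by decide +kernel) (by decide +kernel) (by decide +kernel))
    (chi_fus_trans R (chi_fus_chk R [79, 119, 122, 12] [239, 226, 159, 121] [239, 226, 159] [152] e8f_d4 (by decide +kernel))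
    (chi_fus_weyl R [7, 6, 5, 4, 3, 1, 2, 3, 4, 5, 6, 7, 6, 5, 4, 3, 2, 0, 4, 5] [239, 226, 159, 152] [226, 220, 213, 216] (by decide +kernel) (by decide +kernel) (by decide +kernel)))))))

theorem e8f_set_239_226_159_152_135 [CharP F 2] (R : BRel chevE8 F η) : ChiFus R [239, 226, 159, 152, 135] [226, 220, 213, 216] :=
  (chi_fus_trans R (chi_fus_perm R [239, 226, 159, 152, 135] [226, 159, 152, 135, 239] (by decide +kernel) (by decide +kernel))
    (chi_fus_trans R (chi_fus_weyl R [5, 6, 4, 5, 0, 2, 3, 4, 1, 3, 2, 0, 7, 6, 5, 4, 3, 2, 1, 3, 4, 5, 6, 7] [226, 159, 152, 135, 239] [239, 226, 159, 121, 152] (by decide +kernel) (by decide +kernel) (by decide +kernel))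
    (chi_fus_trans R (chi_fus_chk R [79, 119, 122, 12] [239, 226, 159, 121] [239, 226, 159] [152] e8f_d4 (by decide +kernel))
    (chi_fus_weyl R [7, 6, 5, 4, 3, 1, 2, 3, 4, 5, 6, 7, 6, 5, 4, 3, 2, 0, 4, 5] [239, 226, 159, 152] [226, 220, 213, 216] (by decide +kernel) (by decide +kernel) (by decide +kernel)))))

theorem e8f_set_239_226_159_152_135_126 [CharP F 2] (R : BRel chevE8 F η) : ChiFus R [239, 226, 159, 152, 135, 126] [226, 220, 213, 216] :=
  (chi_fus_trans R (chi_fus_perm R [239, 226, 159, 152, 135, 126] [239, 226, 152, 126, 159, 135] (by decide +kernel) (by decide +kernel))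
    (chi_fus_trans R (chi_fus_weyl R [5, 6, 4, 5] [239, 226, 152, 126, 159, 135] [239, 226, 159, 121, 152, 135] (by decide +kernel) (by decide +kernel) (by decide +kernel))
    (chi_fus_trans R (chi_fus_chk R [79, 119, 122, 12] [239, 226, 159, 121] [239, 226, 159] [152, 135] e8f_d4 (by decide +kernel))
    (chi_fus_trans R (chi_fus_perm R [239, 226, 159, 152, 135] [226, 159, 152, 135, 239] (by decide +kernel) (by decide +kernel))
    (chi_fus_trans R (chi_fus_weyl R [5, 6, 4, 5, 0, 2, 3, 4, 1, 3, 2, 0, 7, 6, 5, 4, 3, 2, 1, 3, 4, 5, 6, 7] [226, 159, 152, 135, 239] [239, 226, 159, 121, 152] (by decide +kernel) (by decide +kernel) (by decide +kernel))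
    (chi_fus_trans R (chi_fus_chk R [79, 119, 122, 12] [239, 226, 159, 121] [239, 226, 159] [152] e8f_d4 (by decide +kernel))
    (chi_fus_weyl R [7, 6, 5, 4, 3, 1, 2, 3, 4, 5, 6, 7, 6, 5, 4, 3, 2, 0, 4, 5] [239, 226, 159, 152] [226, 220, 213, 216] (by decide +kernel) (by decide +kernel) (by decide +kernel))))))))

theorem e8f_set_239_226_159_152_135_126_121 [CharP F 2] (R : BRel chevE8 F η) : ChiFus R [239, 226, 159, 152, 135, 126, 121] [226, 220, 213, 216] :=
  (chi_fus_trans R (chi_fus_perm R [239, 226, 159, 152, 135, 126, 121] [239, 226, 159, 121, 152, 135, 126] (by decide +kernel) (by decide +kernel))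
    (chi_fus_trans R (chi_fus_chk R [79, 119, 122, 12] [239, 226, 159, 121] [239, 226, 159] [152, 135, 126] e8f_d4 (by decide +kernel))
    (chi_fus_trans R (chi_fus_perm R [239, 226, 159, 152, 135, 126] [239, 226, 152, 126, 159, 135] (by decide +kernel) (by decide +kernel))
    (chi_fus_trans R (chi_fus_weyl R [5, 6, 4, 5] [239, 226, 152, 126, 159, 135] [239, 226, 159, 121, 152, 135] (by decide +kernel) (by decide +kernel) (by decide +kernel))
    (chi_fus_trans R (chi_fus_chk R [79, 119, 122, 12] [239, 226, 159, 121] [239, 226, 159] [152, 135] e8f_d4 (by decide +kernel))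
    (chi_fus_trans R (chi_fus_perm R [239, 226, 159, 152, 135] [226, 159, 152, 135, 239] (by decide +kernel) (by decide +kernel))
    (chi_fus_trans R (chi_fus_weyl R [5, 6, 4, 5, 0, 2, 3, 4, 1, 3, 2, 0, 7, 6, 5, 4, 3, 2, 1, 3, 4, 5, 6, 7] [226, 159, 152, 135, 239] [239, 226, 159, 121, 152] (by decide +kernel) (by decide +kernel) (by decide +kernel))
    (chi_fus_trans R (chi_fus_chk R [79, 119, 122, 12] [239, 226, 159, 121] [239, 226, 159] [152] e8f_d4 (by decide +kernel))
    (chi_fus_weyl R [7, 6, 5, 4, 3, 1, 2, 3, 4, 5, 6, 7, 6, 5, 4, 3, 2, 0, 4, 5] [239, 226, 159, 152] [226, 220, 213, 216] (by decide +kernel) (by decide +kernel) (by decide +kernel))))))))))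

theorem e8f_set_239_226_159_152_135_121 [CharP F 2] (R : BRel chevE8 F η) : ChiFus R [239, 226, 159, 152, 135, 121] [226, 220, 213, 216] :=
  (chi_fus_trans R (chi_fus_perm R [239, 226, 159, 152, 135, 121] [239, 226, 159, 121, 152, 135] (by decide +kernel) (by decide +kernel))
    (chi_fus_trans R (chi_fus_chk R [79, 119, 122, 12] [239, 226, 159, 121] [239, 226, 159] [152, 135] e8f_d4 (by decide +kernel))
    (chi_fus_trans R (chi_fus_perm R [239, 226, 159, 152, 135] [226, 159, 152, 135, 239] (by decide +kernel) (by decide +kernel))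
    (chi_fus_trans R (chi_fus_weyl R [5, 6, 4, 5, 0, 2, 3, 4, 1, 3, 2, 0, 7, 6, 5, 4, 3, 2, 1, 3, 4, 5, 6, 7] [226, 159, 152, 135, 239] [239, 226, 159, 121, 152] (by decide +kernel) (by decide +kernel) (by decide +kernel))
    (chi_fus_trans R (chi_fus_chk R [79, 119, 122, 12] [239, 226, 159, 121] [239, 226, 159] [152] e8f_d4 (by decide +kernel))
    (chi_fus_weyl R [7, 6, 5, 4, 3, 1, 2, 3, 4, 5, 6, 7, 6, 5, 4, 3, 2, 0, 4, 5] [239, 226, 159, 152] [226, 220, 213, 216] (by decide +kernel) (by decide +kernel) (by decide +kernel)))))))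

theorem e8f_set_239_226_159_152_126 [CharP F 2] (R : BRel chevE8 F η) : ChiFus R [239, 226, 159, 152, 126] [226, 220, 213, 216] :=
  (chi_fus_trans R (chi_fus_perm R [239, 226, 159, 152, 126] [239, 226, 152, 126, 159] (by decide +kernel) (by decide +kernel))
    (chi_fus_trans R (chi_fus_weyl R [5, 6, 4, 5] [239, 226, 152, 126, 159] [239, 226, 159, 121, 152] (by decide +kernel) (by decide +kernel) (by decide +kernel))
    (chi_fus_trans R (chi_fus_chk R [79, 119, 122, 12] [239, 226, 159, 121] [239, 226, 159] [152] e8f_d4 (by decide +kernel))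
    (chi_fus_weyl R [7, 6, 5, 4, 3, 1, 2, 3, 4, 5, 6, 7, 6, 5, 4, 3, 2, 0, 4, 5] [239, 226, 159, 152] [226, 220, 213, 216] (by decide +kernel) (by decide +kernel) (by decide +kernel)))))

theorem e8f_set_239_226_159_152_126_121 [CharP F 2] (R : BRel chevE8 F η) : ChiFus R [239, 226, 159, 152, 126, 121] [226, 220, 213, 216] :=
  (chi_fus_trans R (chi_fus_perm R [239, 226, 159, 152, 126, 121] [239, 226, 159, 121, 152, 126] (by decide +kernel) (by decide +kernel))
    (chi_fus_trans R (chi_fus_chk R [79, 119, 122, 12] [239, 226, 159, 121] [239, 226, 159] [152, 126] e8f_d4 (by decide +kernel))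
    (chi_fus_trans R (chi_fus_perm R [239, 226, 159, 152, 126] [239, 226, 152, 126, 159] (by decide +kernel) (by decide +kernel))
    (chi_fus_trans R (chi_fus_weyl R [5, 6, 4, 5] [239, 226, 152, 126, 159] [239, 226, 159, 121, 152] (by decide +kernel) (by decide +kernel) (by decide +kernel))
    (chi_fus_trans R (chi_fus_chk R [79, 119, 122, 12] [239, 226, 159, 121] [239, 226, 159] [152] e8f_d4 (by decide +kernel))
    (chi_fus_weyl R [7, 6, 5, 4, 3, 1, 2, 3, 4, 5, 6, 7, 6, 5, 4, 3, 2, 0, 4, 5] [239, 226, 159, 152] [226, 220, 213, 216] (by decide +kernel) (by decide +kernel) (by decide +kernel)))))))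

theorem e8f_set_239_226_159_152_121 [CharP F 2] (R : BRel chevE8 F η) : ChiFus R [239, 226, 159, 152, 121] [226, 220, 213, 216] :=
  (chi_fus_trans R (chi_fus_perm R [239, 226, 159, 152, 121] [239, 226, 159, 121, 152] (by decide +kernel) (by decide +kernel))
    (chi_fus_trans R (chi_fus_chk R [79, 119, 122, 12] [239, 226, 159, 121] [239, 226, 159] [152] e8f_d4 (by decide +kernel))
    (chi_fus_weyl R [7, 6, 5, 4, 3, 1, 2, 3, 4, 5, 6, 7, 6, 5, 4, 3, 2, 0, 4, 5] [239, 226, 159, 152] [226, 220, 213, 216] (by decide +kernel) (by decide +kernel) (by decide +kernel))))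

theorem e8f_set_239_226_159_121 [CharP F 2] (R : BRel chevE8 F η) : ChiFus R [239, 226, 159, 121] [228, 222, 218] :=
  (chi_fus_trans R (chi_fus_chk R [79, 119, 122, 12] [239, 226, 159, 121] [239, 226, 159] [] e8f_d4 (by decide +kernel))
    (chi_fus_weyl R [5, 4, 3, 1, 2, 3, 4, 5, 6, 7, 4, 3, 2, 0] [239, 226, 159] [228, 222, 218] (by decide +kernel) (by decide +kernel) (by decide +kernel)))

end

end Cfsg.Agent.Helper81
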