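/-
helper81: involutions of the Chevalley group of type E8 in characteristic two - every nontrivial standard word is conjugate to one of the representatives
(generated by tools/calls/e7scripts/xfus.py: Weyl moves, permutations of commuting letters and one checked
fusion inside a subsystem `D₄`).
-/
import Cfsg.Agent.Helper81.E8IFusSets
import Cfsg.Agent.Helper81.E8IDefs

set_option autoImplicit false
set_option linter.unusedSectionVars false
set_option linter.unusedVariables false
set_option maxRecDepth 100000

namespace Cfsg.Agent.Helper81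

open Cfsg Cfsg.Lie Cfsg.Agent.Helper36 Cfsg.Agent.Helper17 Cfsg.Agent.Helper18 Cfsg.Agent.Helper38


section

variable {F : Type*} [Field F] {η : ℕ → ℕ → ℤ}

theorem e8f_raw_239_226_159_152_141_135_121_126 [CharP F 2] (R : BRel chevE8 F η) : ChiFus R [239, 226, 159, 152, 141, 135, 121, 126] [226, 220, 213, 216] :=
  chi_fus_trans R (chi_fus_perm R [239, 226, 159, 152, 141, 135, 121, 126] [239, 226, 159, 152, 141, 135, 126, 121] (by decide +kernel) (by decide +kernel)) (e8f_set_239_226_159_152_141_135_126_121 R)

theorem e8f_raw_239_226_159_152_141_126_135 [CharP F 2] (R : BRel chevE8 F η) : ChiFus R [239, 226, 159, 152, 141, 126, 135] [226, 220, 213, 216] :=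
  chi_fus_trans R (chi_fus_perm R [239, 226, 159, 152, 141, 126, 135] [239, 226, 159, 152, 141, 135, 126] (by decide +kernel) (by decide +kernel)) (e8f_set_239_226_159_152_141_135_126 R)

theorem e8f_raw_239_226_159_152_141_126_135_121 [CharP F 2] (R : BRel chevE8 F η) : ChiFus R [239, 226, 159, 152, 141, 126, 135, 121] [226, 220, 213, 216] :=
  chi_fus_trans R (chi_fus_perm R [239, 226, 159, 152, 141, 126, 135, 121] [239, 226, 159, 152, 141, 135, 126, 121] (by decide +kernel) (by decide +kernel)) (e8f_set_239_226_159_152_141_135_126_121 R)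

theorem e8f_raw_239_226_159_152_141_126_121_135 [CharP F 2] (R : BRel chevE8 F η) : ChiFus R [239, 226, 159, 152, 141, 126, 121, 135] [226, 220, 213, 216] :=
  chi_fus_trans R (chi_fus_perm R [239, 226, 159, 152, 141, 126, 121, 135] [239, 226, 159, 152, 141, 135, 126, 121] (by decide +kernel) (by decide +kernel)) (e8f_set_239_226_159_152_141_135_126_121 R)

theorem e8f_raw_239_226_159_152_141_121_135 [CharP F 2] (R : BRel chevE8 F η) : ChiFus R [239, 226, 159, 152, 141, 121, 135] [226, 220, 213, 216] :=
  chi_fus_trans R (chi_fus_perm R [239, 226, 159, 152, 141, 121, 135] [239, 226, 159, 152, 141, 135, 121] (by decide +kernel) (by decide +kernel)) (e8f_set_239_226_159_152_141_135_121 R)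

theorem e8f_raw_239_226_159_152_141_121_135_126 [CharP F 2] (R : BRel chevE8 F η) : ChiFus R [239, 226, 159, 152, 141, 121, 135, 126] [226, 220, 213, 216] :=
  chi_fus_trans R (chi_fus_perm R [239, 226, 159, 152, 141, 121, 135, 126] [239, 226, 159, 152, 141, 135, 126, 121] (by decide +kernel) (by decide +kernel)) (e8f_set_239_226_159_152_141_135_126_121 R)

theorem e8f_raw_239_226_159_152_141_121_126 [CharP F 2] (R : BRel chevE8 F η) : ChiFus R [239, 226, 159, 152, 141, 121, 126] [226, 220, 213, 216] :=
  chi_fus_trans R (chi_fus_perm R [239, 226, 159, 152, 141, 121, 126] [239, 226, 159, 152, 141, 126, 121] (by decide +kernel) (by decide +kernel)) (e8f_set_239_226_159_152_141_126_121 R)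

theorem e8f_raw_239_226_159_152_141_121_126_135 [CharP F 2] (R : BRel chevE8 F η) : ChiFus R [239, 226, 159, 152, 141, 121, 126, 135] [226, 220, 213, 216] :=
  chi_fus_trans R (chi_fus_perm R [239, 226, 159, 152, 141, 121, 126, 135] [239, 226, 159, 152, 141, 135, 126, 121] (by decide +kernel) (by decide +kernel)) (e8f_set_239_226_159_152_141_135_126_121 R)

theorem e8f_raw_239_226_159_152_135_141 [CharP F 2] (R : BRel chevE8 F η) : ChiFus R [239, 226, 159, 152, 135, 141] [226, 220, 213, 216] :=
  chi_fus_trans R (chi_fus_perm R [239, 226, 159, 152, 135, 141] [239, 226, 159, 152, 141, 135] (by decide +kernel) (by decide +kernel)) (e8f_set_239_226_159_152_141_135 R)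

theorem e8f_raw_239_226_159_152_135_141_126 [CharP F 2] (R : BRel chevE8 F η) : ChiFus R [239, 226, 159, 152, 135, 141, 126] [226, 220, 213, 216] :=
  chi_fus_trans R (chi_fus_perm R [239, 226, 159, 152, 135, 141, 126] [239, 226, 159, 152, 141, 135, 126] (by decide +kernel) (by decide +kernel)) (e8f_set_239_226_159_152_141_135_126 R)

theorem e8f_raw_239_226_159_152_135_141_126_121 [CharP F 2] (R : BRel chevE8 F η) : ChiFus R [239, 226, 159, 152, 135, 141, 126, 121] [226, 220, 213, 216] :=
  chi_fus_trans R (chi_fus_perm R [239, 226, 159, 152, 135, 141, 126, 121] [239, 226, 159, 152, 141, 135, 126, 121] (by decide +kernel) (by decide +kernel)) (e8f_set_239_226_159_152_141_135_126_121 R)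

theorem e8f_raw_239_226_159_152_135_141_121 [CharP F 2] (R : BRel chevE8 F η) : ChiFus R [239, 226, 159, 152, 135, 141, 121] [226, 220, 213, 216] :=
  chi_fus_trans R (chi_fus_perm R [239, 226, 159, 152, 135, 141, 121] [239, 226, 159, 152, 141, 135, 121] (by decide +kernel) (by decide +kernel)) (e8f_set_239_226_159_152_141_135_121 R)

theorem e8f_raw_239_226_159_152_135_141_121_126 [CharP F 2] (R : BRel chevE8 F η) : ChiFus R [239, 226, 159, 152, 135, 141, 121, 126] [226, 220, 213, 216] :=
  chi_fus_trans R (chi_fus_perm R [239, 226, 159, 152, 135, 141, 121, 126] [239, 226, 159, 152, 141, 135, 126, 121] (by decide +kernel) (by decide +kernel)) (e8f_set_239_226_159_152_141_135_126_121 R)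

theorem e8f_raw_239_226_159_152_135_126_141 [CharP F 2] (R : BRel chevE8 F η) : ChiFus R [239, 226, 159, 152, 135, 126, 141] [226, 220, 213, 216] :=
  chi_fus_trans R (chi_fus_perm R [239, 226, 159, 152, 135, 126, 141] [239, 226, 159, 152, 141, 135, 126] (by decide +kernel) (by decide +kernel)) (e8f_set_239_226_159_152_141_135_126 R)

theorem e8f_raw_239_226_159_152_135_126_141_121 [CharP F 2] (R : BRel chevE8 F η) : ChiFus R [239, 226, 159, 152, 135, 126, 141, 121] [226, 220, 213, 216] :=
  chi_fus_trans R (chi_fus_perm R [239, 226, 159, 152, 135, 126, 141, 121] [239, 226, 159, 152, 141, 135, 126, 121] (by decide +kernel) (by decide +kernel)) (e8f_set_239_226_159_152_141_135_126_121 R)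

theorem e8f_raw_239_226_159_152_135_126_121_141 [CharP F 2] (R : BRel chevE8 F η) : ChiFus R [239, 226, 159, 152, 135, 126, 121, 141] [226, 220, 213, 216] :=
  chi_fus_trans R (chi_fus_perm R [239, 226, 159, 152, 135, 126, 121, 141] [239, 226, 159, 152, 141, 135, 126, 121] (by decide +kernel) (by decide +kernel)) (e8f_set_239_226_159_152_141_135_126_121 R)

theorem e8f_raw_239_226_159_152_135_121_141 [CharP F 2] (R : BRel chevE8 F η) : ChiFus R [239, 226, 159, 152, 135, 121, 141] [226, 220, 213, 216] :=
  chi_fus_trans R (chi_fus_perm R [239, 226, 159, 152, 135, 121, 141] [239, 226, 159, 152, 141, 135, 121] (by decide +kernel) (by decide +kernel)) (e8f_set_239_226_159_152_141_135_121 R)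

theorem e8f_raw_239_226_159_152_135_121_141_126 [CharP F 2] (R : BRel chevE8 F η) : ChiFus R [239, 226, 159, 152, 135, 121, 141, 126] [226, 220, 213, 216] :=
  chi_fus_trans R (chi_fus_perm R [239, 226, 159, 152, 135, 121, 141, 126] [239, 226, 159, 152, 141, 135, 126, 121] (by decide +kernel) (by decide +kernel)) (e8f_set_239_226_159_152_141_135_126_121 R)

theorem e8f_raw_239_226_159_152_135_121_126 [CharP F 2] (R : BRel chevE8 F η) : ChiFus R [239, 226, 159, 152, 135, 121, 126] [226, 220, 213, 216] :=
  chi_fus_trans R (chi_fus_perm R [239, 226, 159, 152, 135, 121, 126] [239, 226, 159, 152, 135, 126, 121] (by decide +kernel) (by decide +kernel)) (e8f_set_239_226_159_152_135_126_121 R)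

theorem e8f_raw_239_226_159_152_135_121_126_141 [CharP F 2] (R : BRel chevE8 F η) : ChiFus R [239, 226, 159, 152, 135, 121, 126, 141] [226, 220, 213, 216] :=
  chi_fus_trans R (chi_fus_perm R [239, 226, 159, 152, 135, 121, 126, 141] [239, 226, 159, 152, 141, 135, 126, 121] (by decide +kernel) (by decide +kernel)) (e8f_set_239_226_159_152_141_135_126_121 R)

theorem e8f_raw_239_226_159_152_126_141 [CharP F 2] (R : BRel chevE8 F η) : ChiFus R [239, 226, 159, 152, 126, 141] [226, 220, 213, 216] :=
  chi_fus_trans R (chi_fus_perm R [239, 226, 159, 152, 126, 141] [239, 226, 159, 152, 141, 126] (by decide +kernel) (by decide +kernel)) (e8f_set_239_226_159_152_141_126 R)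

theorem e8f_raw_239_226_159_152_126_141_135 [CharP F 2] (R : BRel chevE8 F η) : ChiFus R [239, 226, 159, 152, 126, 141, 135] [226, 220, 213, 216] :=
  chi_fus_trans R (chi_fus_perm R [239, 226, 159, 152, 126, 141, 135] [239, 226, 159, 152, 141, 135, 126] (by decide +kernel) (by decide +kernel)) (e8f_set_239_226_159_152_141_135_126 R)

theorem e8f_raw_239_226_159_152_126_141_135_121 [CharP F 2] (R : BRel chevE8 F η) : ChiFus R [239, 226, 159, 152, 126, 141, 135, 121] [226, 220, 213, 216] :=
  chi_fus_trans R (chi_fus_perm R [239, 226, 159, 152, 126, 141, 135, 121] [239, 226, 159, 152, 141, 135, 126, 121] (by decide +kernel) (by decide +kernel)) (e8f_set_239_226_159_152_141_135_126_121 R)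

theorem e8f_raw_239_226_159_152_126_141_121 [CharP F 2] (R : BRel chevE8 F η) : ChiFus R [239, 226, 159, 152, 126, 141, 121] [226, 220, 213, 216] :=
  chi_fus_trans R (chi_fus_perm R [239, 226, 159, 152, 126, 141, 121] [239, 226, 159, 152, 141, 126, 121] (by decide +kernel) (by decide +kernel)) (e8f_set_239_226_159_152_141_126_121 R)

theorem e8f_raw_239_226_159_152_126_141_121_135 [CharP F 2] (R : BRel chevE8 F η) : ChiFus R [239, 226, 159, 152, 126, 141, 121, 135] [226, 220, 213, 216] :=
  chi_fus_trans R (chi_fus_perm R [239, 226, 159, 152, 126, 141, 121, 135] [239, 226, 159, 152, 141, 135, 126, 121] (by decide +kernel) (by decide +kernel)) (e8f_set_239_226_159_152_141_135_126_121 R)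

theorem e8f_raw_239_226_159_152_126_135 [CharP F 2] (R : BRel chevE8 F η) : ChiFus R [239, 226, 159, 152, 126, 135] [226, 220, 213, 216] :=
  chi_fus_trans R (chi_fus_perm R [239, 226, 159, 152, 126, 135] [239, 226, 159, 152, 135, 126] (by decide +kernel) (by decide +kernel)) (e8f_set_239_226_159_152_135_126 R)

theorem e8f_raw_239_226_159_152_126_135_141 [CharP F 2] (R : BRel chevE8 F η) : ChiFus R [239, 226, 159, 152, 126, 135, 141] [226, 220, 213, 216] :=
  chi_fus_trans R (chi_fus_perm R [239, 226, 159, 152, 126, 135, 141] [239, 226, 159, 152, 141, 135, 126] (by decide +kernel) (by decide +kernel)) (e8f_set_239_226_159_152_141_135_126 R)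

theorem e8f_raw_239_226_159_152_126_135_141_121 [CharP F 2] (R : BRel chevE8 F η) : ChiFus R [239, 226, 159, 152, 126, 135, 141, 121] [226, 220, 213, 216] :=
  chi_fus_trans R (chi_fus_perm R [239, 226, 159, 152, 126, 135, 141, 121] [239, 226, 159, 152, 141, 135, 126, 121] (by decide +kernel) (by decide +kernel)) (e8f_set_239_226_159_152_141_135_126_121 R)

theorem e8f_raw_239_226_159_152_126_135_121 [CharP F 2] (R : BRel chevE8 F η) : ChiFus R [239, 226, 159, 152, 126, 135, 121] [226, 220, 213, 216] :=
  chi_fus_trans R (chi_fus_perm R [239, 226, 159, 152, 126, 135, 121] [239, 226, 159, 152, 135, 126, 121] (by decide +kernel) (by decide +kernel)) (e8f_set_239_226_159_152_135_126_121 R)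

theorem e8f_raw_239_226_159_152_126_135_121_141 [CharP F 2] (R : BRel chevE8 F η) : ChiFus R [239, 226, 159, 152, 126, 135, 121, 141] [226, 220, 213, 216] :=
  chi_fus_trans R (chi_fus_perm R [239, 226, 159, 152, 126, 135, 121, 141] [239, 226, 159, 152, 141, 135, 126, 121] (by decide +kernel) (by decide +kernel)) (e8f_set_239_226_159_152_141_135_126_121 R)

theorem e8f_raw_239_226_159_152_126_121_141 [CharP F 2] (R : BRel chevE8 F η) : ChiFus R [239, 226, 159, 152, 126, 121, 141] [226, 220, 213, 216] :=
  chi_fus_trans R (chi_fus_perm R [239, 226, 159, 152, 126, 121, 141] [239, 226, 159, 152, 141, 126, 121] (by decide +kernel) (by decide +kernel)) (e8f_set_239_226_159_152_141_126_121 R)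

theorem e8f_raw_239_226_159_152_126_121_141_135 [CharP F 2] (R : BRel chevE8 F η) : ChiFus R [239, 226, 159, 152, 126, 121, 141, 135] [226, 220, 213, 216] :=
  chi_fus_trans R (chi_fus_perm R [239, 226, 159, 152, 126, 121, 141, 135] [239, 226, 159, 152, 141, 135, 126, 121] (by decide +kernel) (by decide +kernel)) (e8f_set_239_226_159_152_141_135_126_121 R)

theorem e8f_raw_239_226_159_152_126_121_135 [CharP F 2] (R : BRel chevE8 F η) : ChiFus R [239, 226, 159, 152, 126, 121, 135] [226, 220, 213, 216] :=
  chi_fus_trans R (chi_fus_perm R [239, 226, 159, 152, 126, 121, 135] [239, 226, 159, 152, 135, 126, 121] (by decide +kernel) (by decide +kernel)) (e8f_set_239_226_159_152_135_126_121 R)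

theorem e8f_raw_239_226_159_152_126_121_135_141 [CharP F 2] (R : BRel chevE8 F η) : ChiFus R [239, 226, 159, 152, 126, 121, 135, 141] [226, 220, 213, 216] :=
  chi_fus_trans R (chi_fus_perm R [239, 226, 159, 152, 126, 121, 135, 141] [239, 226, 159, 152, 141, 135, 126, 121] (by decide +kernel) (by decide +kernel)) (e8f_set_239_226_159_152_141_135_126_121 R)

theorem e8f_raw_239_226_159_152_121_141 [CharP F 2] (R : BRel chevE8 F η) : ChiFus R [239, 226, 159, 152, 121, 141] [226, 220, 213, 216] :=
  chi_fus_trans R (chi_fus_perm R [239, 226, 159, 152, 121, 141] [239, 226, 159, 152, 141, 121] (by decide +kernel) (by decide +kernel)) (e8f_set_239_226_159_152_141_121 R)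

theorem e8f_raw_239_226_159_152_121_141_135 [CharP F 2] (R : BRel chevE8 F η) : ChiFus R [239, 226, 159, 152, 121, 141, 135] [226, 220, 213, 216] :=
  chi_fus_trans R (chi_fus_perm R [239, 226, 159, 152, 121, 141, 135] [239, 226, 159, 152, 141, 135, 121] (by decide +kernel) (by decide +kernel)) (e8f_set_239_226_159_152_141_135_121 R)

theorem e8f_raw_239_226_159_152_121_141_135_126 [CharP F 2] (R : BRel chevE8 F η) : ChiFus R [239, 226, 159, 152, 121, 141, 135, 126] [226, 220, 213, 216] :=
  chi_fus_trans R (chi_fus_perm R [239, 226, 159, 152, 121, 141, 135, 126] [239, 226, 159, 152, 141, 135, 126, 121] (by decide +kernel) (by decide +kernel)) (e8f_set_239_226_159_152_141_135_126_121 R)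

theorem e8f_raw_239_226_159_152_121_141_126 [CharP F 2] (R : BRel chevE8 F η) : ChiFus R [239, 226, 159, 152, 121, 141, 126] [226, 220, 213, 216] :=
  chi_fus_trans R (chi_fus_perm R [239, 226, 159, 152, 121, 141, 126] [239, 226, 159, 152, 141, 126, 121] (by decide +kernel) (by decide +kernel)) (e8f_set_239_226_159_152_141_126_121 R)

theorem e8f_raw_239_226_159_152_121_141_126_135 [CharP F 2] (R : BRel chevE8 F η) : ChiFus R [239, 226, 159, 152, 121, 141, 126, 135] [226, 220, 213, 216] :=
  chi_fus_trans R (chi_fus_perm R [239, 226, 159, 152, 121, 141, 126, 135] [239, 226, 159, 152, 141, 135, 126, 121] (by decide +kernel) (by decide +kernel)) (e8f_set_239_226_159_152_141_135_126_121 R)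

theorem e8f_raw_239_226_159_152_121_135 [CharP F 2] (R : BRel chevE8 F η) : ChiFus R [239, 226, 159, 152, 121, 135] [226, 220, 213, 216] :=
  chi_fus_trans R (chi_fus_perm R [239, 226, 159, 152, 121, 135] [239, 226, 159, 152, 135, 121] (by decide +kernel) (by decide +kernel)) (e8f_set_239_226_159_152_135_121 R)

theorem e8f_raw_239_226_159_152_121_135_141 [CharP F 2] (R : BRel chevE8 F η) : ChiFus R [239, 226, 159, 152, 121, 135, 141] [226, 220, 213, 216] :=
  chi_fus_trans R (chi_fus_perm R [239, 226, 159, 152, 121, 135, 141] [239, 226, 159, 152, 141, 135, 121] (by decide +kernel) (by decide +kernel)) (e8f_set_239_226_159_152_141_135_121 R)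

theorem e8f_raw_239_226_159_152_121_135_141_126 [CharP F 2] (R : BRel chevE8 F η) : ChiFus R [239, 226, 159, 152, 121, 135, 141, 126] [226, 220, 213, 216] :=
  chi_fus_trans R (chi_fus_perm R [239, 226, 159, 152, 121, 135, 141, 126] [239, 226, 159, 152, 141, 135, 126, 121] (by decide +kernel) (by decide +kernel)) (e8f_set_239_226_159_152_141_135_126_121 R)

theorem e8f_raw_239_226_159_152_121_135_126 [CharP F 2] (R : BRel chevE8 F η) : ChiFus R [239, 226, 159, 152, 121, 135, 126] [226, 220, 213, 216] :=
  chi_fus_trans R (chi_fus_perm R [239, 226, 159, 152, 121, 135, 126] [239, 226, 159, 152, 135, 126, 121] (by decide +kernel) (by decide +kernel)) (e8f_set_239_226_159_152_135_126_121 R)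

theorem e8f_raw_239_226_159_152_121_135_126_141 [CharP F 2] (R : BRel chevE8 F η) : ChiFus R [239, 226, 159, 152, 121, 135, 126, 141] [226, 220, 213, 216] :=
  chi_fus_trans R (chi_fus_perm R [239, 226, 159, 152, 121, 135, 126, 141] [239, 226, 159, 152, 141, 135, 126, 121] (by decide +kernel) (by decide +kernel)) (e8f_set_239_226_159_152_141_135_126_121 R)

theorem e8f_raw_239_226_159_152_121_126 [CharP F 2] (R : BRel chevE8 F η) : ChiFus R [239, 226, 159, 152, 121, 126] [226, 220, 213, 216] :=
  chi_fus_trans R (chi_fus_perm R [239, 226, 159, 152, 121, 126] [239, 226, 159, 152, 126, 121] (by decide +kernel) (by decide +kernel)) (e8f_set_239_226_159_152_126_121 R)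

theorem e8f_raw_239_226_159_152_121_126_141 [CharP F 2] (R : BRel chevE8 F η) : ChiFus R [239, 226, 159, 152, 121, 126, 141] [226, 220, 213, 216] :=
  chi_fus_trans R (chi_fus_perm R [239, 226, 159, 152, 121, 126, 141] [239, 226, 159, 152, 141, 126, 121] (by decide +kernel) (by decide +kernel)) (e8f_set_239_226_159_152_141_126_121 R)

theorem e8f_raw_239_226_159_152_121_126_141_135 [CharP F 2] (R : BRel chevE8 F η) : ChiFus R [239, 226, 159, 152, 121, 126, 141, 135] [226, 220, 213, 216] :=
  chi_fus_trans R (chi_fus_perm R [239, 226, 159, 152, 121, 126, 141, 135] [239, 226, 159, 152, 141, 135, 126, 121] (by decide +kernel) (by decide +kernel)) (e8f_set_239_226_159_152_141_135_126_121 R)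

theorem e8f_raw_239_226_159_152_121_126_135 [CharP F 2] (R : BRel chevE8 F η) : ChiFus R [239, 226, 159, 152, 121, 126, 135] [226, 220, 213, 216] :=
  chi_fus_trans R (chi_fus_perm R [239, 226, 159, 152, 121, 126, 135] [239, 226, 159, 152, 135, 126, 121] (by decide +kernel) (by decide +kernel)) (e8f_set_239_226_159_152_135_126_121 R)

theorem e8f_raw_239_226_159_152_121_126_135_141 [CharP F 2] (R : BRel chevE8 F η) : ChiFus R [239, 226, 159, 152, 121, 126, 135, 141] [226, 220, 213, 216] :=
  chi_fus_trans R (chi_fus_perm R [239, 226, 159, 152, 121, 126, 135, 141] [239, 226, 159, 152, 141, 135, 126, 121] (by decide +kernel) (by decide +kernel)) (e8f_set_239_226_159_152_141_135_126_121 R)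

theorem e8f_raw_239_226_159_121_152 [CharP F 2] (R : BRel chevE8 F η) : ChiFus R [239, 226, 159, 121, 152] [226, 220, 213, 216] :=
  chi_fus_trans R (chi_fus_perm R [239, 226, 159, 121, 152] [239, 226, 159, 152, 121] (by decide +kernel) (by decide +kernel)) (e8f_set_239_226_159_152_121 R)

theorem e8f_raw_239_226_159_121_152_141 [CharP F 2] (R : BRel chevE8 F η) : ChiFus R [239, 226, 159, 121, 152, 141] [226, 220, 213, 216] :=
  chi_fus_trans R (chi_fus_perm R [239, 226, 159, 121, 152, 141] [239, 226, 159, 152, 141, 121] (by decide +kernel) (by decide +kernel)) (e8f_set_239_226_159_152_141_121 R)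

theorem e8f_raw_239_226_159_121_152_141_135 [CharP F 2] (R : BRel chevE8 F η) : ChiFus R [239, 226, 159, 121, 152, 141, 135] [226, 220, 213, 216] :=
  chi_fus_trans R (chi_fus_perm R [239, 226, 159, 121, 152, 141, 135] [239, 226, 159, 152, 141, 135, 121] (by decide +kernel) (by decide +kernel)) (e8f_set_239_226_159_152_141_135_121 R)

theorem e8f_raw_239_226_159_121_152_141_135_126 [CharP F 2] (R : BRel chevE8 F η) : ChiFus R [239, 226, 159, 121, 152, 141, 135, 126] [226, 220, 213, 216] :=
  chi_fus_trans R (chi_fus_perm R [239, 226, 159, 121, 152, 141, 135, 126] [239, 226, 159, 152, 141, 135, 126, 121] (by decide +kernel) (by decide +kernel)) (e8f_set_239_226_159_152_141_135_126_121 R)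

theorem e8f_raw_239_226_159_121_152_141_126 [CharP F 2] (R : BRel chevE8 F η) : ChiFus R [239, 226, 159, 121, 152, 141, 126] [226, 220, 213, 216] :=
  chi_fus_trans R (chi_fus_perm R [239, 226, 159, 121, 152, 141, 126] [239, 226, 159, 152, 141, 126, 121] (by decide +kernel) (by decide +kernel)) (e8f_set_239_226_159_152_141_126_121 R)

theorem e8f_raw_239_226_159_121_152_141_126_135 [CharP F 2] (R : BRel chevE8 F η) : ChiFus R [239, 226, 159, 121, 152, 141, 126, 135] [226, 220, 213, 216] :=
  chi_fus_trans R (chi_fus_perm R [239, 226, 159, 121, 152, 141, 126, 135] [239, 226, 159, 152, 141, 135, 126, 121] (by decide +kernel) (by decide +kernel)) (e8f_set_239_226_159_152_141_135_126_121 R)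

theorem e8f_raw_239_226_159_121_152_135 [CharP F 2] (R : BRel chevE8 F η) : ChiFus R [239, 226, 159, 121, 152, 135] [226, 220, 213, 216] :=
  chi_fus_trans R (chi_fus_perm R [239, 226, 159, 121, 152, 135] [239, 226, 159, 152, 135, 121] (by decide +kernel) (by decide +kernel)) (e8f_set_239_226_159_152_135_121 R)

theorem e8f_raw_239_226_159_121_152_135_141 [CharP F 2] (R : BRel chevE8 F η) : ChiFus R [239, 226, 159, 121, 152, 135, 141] [226, 220, 213, 216] :=
  chi_fus_trans R (chi_fus_perm R [239, 226, 159, 121, 152, 135, 141] [239, 226, 159, 152, 141, 135, 121] (by decide +kernel) (by decide +kernel)) (e8f_set_239_226_159_152_141_135_121 R)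

theorem e8f_raw_239_226_159_121_152_135_141_126 [CharP F 2] (R : BRel chevE8 F η) : ChiFus R [239, 226, 159, 121, 152, 135, 141, 126] [226, 220, 213, 216] :=
  chi_fus_trans R (chi_fus_perm R [239, 226, 159, 121, 152, 135, 141, 126] [239, 226, 159, 152, 141, 135, 126, 121] (by decide +kernel) (by decide +kernel)) (e8f_set_239_226_159_152_141_135_126_121 R)

theorem e8f_raw_239_226_159_121_152_135_126 [CharP F 2] (R : BRel chevE8 F η) : ChiFus R [239, 226, 159, 121, 152, 135, 126] [226, 220, 213, 216] :=
  chi_fus_trans R (chi_fus_perm R [239, 226, 159, 121, 152, 135, 126] [239, 226, 159, 152, 135, 126, 121] (by decide +kernel) (by decide +kernel)) (e8f_set_239_226_159_152_135_126_121 R)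

theorem e8f_raw_239_226_159_121_152_135_126_141 [CharP F 2] (R : BRel chevE8 F η) : ChiFus R [239, 226, 159, 121, 152, 135, 126, 141] [226, 220, 213, 216] :=
  chi_fus_trans R (chi_fus_perm R [239, 226, 159, 121, 152, 135, 126, 141] [239, 226, 159, 152, 141, 135, 126, 121] (by decide +kernel) (by decide +kernel)) (e8f_set_239_226_159_152_141_135_126_121 R)

theorem e8f_raw_239_226_159_121_152_126 [CharP F 2] (R : BRel chevE8 F η) : ChiFus R [239, 226, 159, 121, 152, 126] [226, 220, 213, 216] :=
  chi_fus_trans R (chi_fus_perm R [239, 226, 159, 121, 152, 126] [239, 226, 159, 152, 126, 121] (by decide +kernel) (by decide +kernel)) (e8f_set_239_226_159_152_126_121 R)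

theorem e8f_raw_239_226_159_121_152_126_141 [CharP F 2] (R : BRel chevE8 F η) : ChiFus R [239, 226, 159, 121, 152, 126, 141] [226, 220, 213, 216] :=
  chi_fus_trans R (chi_fus_perm R [239, 226, 159, 121, 152, 126, 141] [239, 226, 159, 152, 141, 126, 121] (by decide +kernel) (by decide +kernel)) (e8f_set_239_226_159_152_141_126_121 R)

theorem e8f_raw_239_226_159_121_152_126_141_135 [CharP F 2] (R : BRel chevE8 F η) : ChiFus R [239, 226, 159, 121, 152, 126, 141, 135] [226, 220, 213, 216] :=
  chi_fus_trans R (chi_fus_perm R [239, 226, 159, 121, 152, 126, 141, 135] [239, 226, 159, 152, 141, 135, 126, 121] (by decide +kernel) (by decide +kernel)) (e8f_set_239_226_159_152_141_135_126_121 R)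

theorem e8f_raw_239_226_159_121_152_126_135 [CharP F 2] (R : BRel chevE8 F η) : ChiFus R [239, 226, 159, 121, 152, 126, 135] [226, 220, 213, 216] :=
  chi_fus_trans R (chi_fus_perm R [239, 226, 159, 121, 152, 126, 135] [239, 226, 159, 152, 135, 126, 121] (by decide +kernel) (by decide +kernel)) (e8f_set_239_226_159_152_135_126_121 R)

theorem e8f_raw_239_226_159_121_152_126_135_141 [CharP F 2] (R : BRel chevE8 F η) : ChiFus R [239, 226, 159, 121, 152, 126, 135, 141] [226, 220, 213, 216] :=
  chi_fus_trans R (chi_fus_perm R [239, 226, 159, 121, 152, 126, 135, 141] [239, 226, 159, 152, 141, 135, 126, 121] (by decide +kernel) (by decide +kernel)) (e8f_set_239_226_159_152_141_135_126_121 R)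

/-- Every nontrivial standard word is conjugate to one of the representatives. -/
theorem e8i_fusion [CharP F 2] (R : BRel chevE8 F η) : ∀ l ∈ e8iL12345678, l ≠ [] →
    ∃ y ∈ Cfsg.Agent.Helper27.e8iReps, ChiFus R l y := by
  intro l hl hne
  unfold e8iL12345678 at hl
  simp only [List.mem_cons, List.not_mem_nil, or_false] at hl
  rcases hl with rfl | rfl | rfl | rfl | rfl | rfl | rfl | rfl | rfl | rfl | rfl | rfl | rfl | rfl | rfl | rfl | rfl | rfl | rfl | rfl | rfl | rfl | rfl | rfl | rfl | rfl | rfl | rfl | rfl | rfl | rfl | rfl | rfl | rfl | rfl | rfl | rfl | rfl | rfl | rfl | rfl | rfl | rfl | rfl | rfl | rfl | rfl | rfl | rfl | rfl | rfl | rfl | rfl | rfl | rfl | rfl | rfl | rfl | rfl | rfl | rfl | rfl | rfl | rfl | rfl | rfl | rfl | rfl | rfl | rfl | rfl | rfl | rfl | rfl | rfl | rfl | rfl | rfl | rfl | rfl | rfl | rfl | rfl | rfl | rfl | rfl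
  · exact absurd rfl hne
  · exact ⟨[239], by decide +kernel, e8f_set_239 R⟩
  · exact ⟨[232, 233], by decide +kernel, e8f_set_239_226 R⟩
  · exact ⟨[228, 222, 218], by decide +kernel, e8f_set_239_226_159 R⟩
  · exact ⟨[226, 220, 213, 216], by decide +kernel, e8f_set_239_226_159_152 R⟩
  · exact ⟨[226, 220, 213, 216], by decide +kernel, e8f_set_239_226_159_152_141 R⟩
  · exact ⟨[226, 220, 213, 216], by decide +kernel, e8f_set_239_226_159_152_141_135 R⟩
  · exact ⟨[226, 220, 213, 216], by decide +kernel, e8f_set_239_226_159_152_141_135_126 R⟩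
  · exact ⟨[226, 220, 213, 216], by decide +kernel, e8f_set_239_226_159_152_141_135_126_121 R⟩
  · exact ⟨[226, 220, 213, 216], by decide +kernel, e8f_set_239_226_159_152_141_135_121 R⟩
  · exact ⟨[226, 220, 213, 216], by decide +kernel, e8f_raw_239_226_159_152_141_135_121_126 R⟩
  · exact ⟨[226, 220, 213, 216], by decide +kernel, e8f_set_239_226_159_152_141_126 R⟩
  · exact ⟨[226, 220, 213, 216], by decide +kernel, e8f_raw_239_226_159_152_141_126_135 R⟩
  · exact ⟨[226, 220, 213, 216], by decide +kernel, e8f_raw_239_226_159_152_141_126_135_121 R⟩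
  · exact ⟨[226, 220, 213, 216], by decide +kernel, e8f_set_239_226_159_152_141_126_121 R⟩
  · exact ⟨[226, 220, 213, 216], by decide +kernel, e8f_raw_239_226_159_152_141_126_121_135 R⟩
  · exact ⟨[226, 220, 213, 216], by decide +kernel, e8f_set_239_226_159_152_141_121 R⟩
  · exact ⟨[226, 220, 213, 216], by decide +kernel, e8f_raw_239_226_159_152_141_121_135 R⟩
  · exact ⟨[226, 220, 213, 216], by decide +kernel, e8f_raw_239_226_159_152_141_121_135_126 R⟩
  · exact ⟨[226, 220, 213, 216], by decide +kernel, e8f_raw_239_226_159_152_141_121_126 R⟩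
  · exact ⟨[226, 220, 213, 216], by decide +kernel, e8f_raw_239_226_159_152_141_121_126_135 R⟩
  · exact ⟨[226, 220, 213, 216], by decide +kernel, e8f_set_239_226_159_152_135 R⟩
  · exact ⟨[226, 220, 213, 216], by decide +kernel, e8f_raw_239_226_159_152_135_141 R⟩
  · exact ⟨[226, 220, 213, 216], by decide +kernel, e8f_raw_239_226_159_152_135_141_126 R⟩
  · exact ⟨[226, 220, 213, 216], by decide +kernel, e8f_raw_239_226_159_152_135_141_126_121 R⟩
  · exact ⟨[226, 220, 213, 216], by decide +kernel, e8f_raw_239_226_159_152_135_141_121 R⟩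
  · exact ⟨[226, 220, 213, 216], by decide +kernel, e8f_raw_239_226_159_152_135_141_121_126 R⟩
  · exact ⟨[226, 220, 213, 216], by decide +kernel, e8f_set_239_226_159_152_135_126 R⟩
  · exact ⟨[226, 220, 213, 216], by decide +kernel, e8f_raw_239_226_159_152_135_126_141 R⟩
  · exact ⟨[226, 220, 213, 216], by decide +kernel, e8f_raw_239_226_159_152_135_126_141_121 R⟩
  · exact ⟨[226, 220, 213, 216], by decide +kernel, e8f_set_239_226_159_152_135_126_121 R⟩
  · exact ⟨[226, 220, 213, 216], by decide +kernel, e8f_raw_239_226_159_152_135_126_121_141 R⟩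
  · exact ⟨[226, 220, 213, 216], by decide +kernel, e8f_set_239_226_159_152_135_121 R⟩
  · exact ⟨[226, 220, 213, 216], by decide +kernel, e8f_raw_239_226_159_152_135_121_141 R⟩
  · exact ⟨[226, 220, 213, 216], by decide +kernel, e8f_raw_239_226_159_152_135_121_141_126 R⟩
  · exact ⟨[226, 220, 213, 216], by decide +kernel, e8f_raw_239_226_159_152_135_121_126 R⟩
  · exact ⟨[226, 220, 213, 216], by decide +kernel, e8f_raw_239_226_159_152_135_121_126_141 R⟩
  · exact ⟨[226, 220, 213, 216], by decide +kernel, e8f_set_239_226_159_152_126 R⟩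
  · exact ⟨[226, 220, 213, 216], by decide +kernel, e8f_raw_239_226_159_152_126_141 R⟩
  · exact ⟨[226, 220, 213, 216], by decide +kernel, e8f_raw_239_226_159_152_126_141_135 R⟩
  · exact ⟨[226, 220, 213, 216], by decide +kernel, e8f_raw_239_226_159_152_126_141_135_121 R⟩
  · exact ⟨[226, 220, 213, 216], by decide +kernel, e8f_raw_239_226_159_152_126_141_121 R⟩
  · exact ⟨[226, 220, 213, 216], by decide +kernel, e8f_raw_239_226_159_152_126_141_121_135 R⟩
  · exact ⟨[226, 220, 213, 216], by decide +kernel, e8f_raw_239_226_159_152_126_135 R⟩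
  · exact ⟨[226, 220, 213, 216], by decide +kernel, e8f_raw_239_226_159_152_126_135_141 R⟩
  · exact ⟨[226, 220, 213, 216], by decide +kernel, e8f_raw_239_226_159_152_126_135_141_121 R⟩
  · exact ⟨[226, 220, 213, 216], by decide +kernel, e8f_raw_239_226_159_152_126_135_121 R⟩
  · exact ⟨[226, 220, 213, 216], by decide +kernel, e8f_raw_239_226_159_152_126_135_121_141 R⟩
  · exact ⟨[226, 220, 213, 216], by decide +kernel, e8f_set_239_226_159_152_126_121 R⟩
  · exact ⟨[226, 220, 213, 216], by decide +kernel, e8f_raw_239_226_159_152_126_121_141 R⟩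
  · exact ⟨[226, 220, 213, 216], by decide +kernel, e8f_raw_239_226_159_152_126_121_141_135 R⟩
  · exact ⟨[226, 220, 213, 216], by decide +kernel, e8f_raw_239_226_159_152_126_121_135 R⟩
  · exact ⟨[226, 220, 213, 216], by decide +kernel, e8f_raw_239_226_159_152_126_121_135_141 R⟩
  · exact ⟨[226, 220, 213, 216], by decide +kernel, e8f_set_239_226_159_152_121 R⟩
  · exact ⟨[226, 220, 213, 216], by decide +kernel, e8f_raw_239_226_159_152_121_141 R⟩
  · exact ⟨[226, 220, 213, 216], by decide +kernel, e8f_raw_239_226_159_152_121_141_135 R⟩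
  · exact ⟨[226, 220, 213, 216], by decide +kernel, e8f_raw_239_226_159_152_121_141_135_126 R⟩
  · exact ⟨[226, 220, 213, 216], by decide +kernel, e8f_raw_239_226_159_152_121_141_126 R⟩
  · exact ⟨[226, 220, 213, 216], by decide +kernel, e8f_raw_239_226_159_152_121_141_126_135 R⟩
  · exact ⟨[226, 220, 213, 216], by decide +kernel, e8f_raw_239_226_159_152_121_135 R⟩
  · exact ⟨[226, 220, 213, 216], by decide +kernel, e8f_raw_239_226_159_152_121_135_141 R⟩
  · exact ⟨[226, 220, 213, 216], by decide +kernel, e8f_raw_239_226_159_152_121_135_141_126 R⟩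
  · exact ⟨[226, 220, 213, 216], by decide +kernel, e8f_raw_239_226_159_152_121_135_126 R⟩
  · exact ⟨[226, 220, 213, 216], by decide +kernel, e8f_raw_239_226_159_152_121_135_126_141 R⟩
  · exact ⟨[226, 220, 213, 216], by decide +kernel, e8f_raw_239_226_159_152_121_126 R⟩
  · exact ⟨[226, 220, 213, 216], by decide +kernel, e8f_raw_239_226_159_152_121_126_141 R⟩
  · exact ⟨[226, 220, 213, 216], by decide +kernel, e8f_raw_239_226_159_152_121_126_141_135 R⟩
  · exact ⟨[226, 220, 213, 216], by decide +kernel, e8f_raw_239_226_159_152_121_126_135 R⟩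
  · exact ⟨[226, 220, 213, 216], by decide +kernel, e8f_raw_239_226_159_152_121_126_135_141 R⟩
  · exact ⟨[228, 222, 218], by decide +kernel, e8f_set_239_226_159_121 R⟩
  · exact ⟨[226, 220, 213, 216], by decide +kernel, e8f_raw_239_226_159_121_152 R⟩
  · exact ⟨[226, 220, 213, 216], by decide +kernel, e8f_raw_239_226_159_121_152_141 R⟩
  · exact ⟨[226, 220, 213, 216], by decide +kernel, e8f_raw_239_226_159_121_152_141_135 R⟩
  · exact ⟨[226, 220, 213, 216], by decide +kernel, e8f_raw_239_226_159_121_152_141_135_126 R⟩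
  · exact ⟨[226, 220, 213, 216], by decide +kernel, e8f_raw_239_226_159_121_152_141_126 R⟩
  · exact ⟨[226, 220, 213, 216], by decide +kernel, e8f_raw_239_226_159_121_152_141_126_135 R⟩
  · exact ⟨[226, 220, 213, 216], by decide +kernel, e8f_raw_239_226_159_121_152_135 R⟩
  · exact ⟨[226, 220, 213, 216], by decide +kernel, e8f_raw_239_226_159_121_152_135_141 R⟩
  · exact ⟨[226, 220, 213, 216], by decide +kernel, e8f_raw_239_226_159_121_152_135_141_126 R⟩
  · exact ⟨[226, 220, 213, 216], by decide +kernel, e8f_raw_239_226_159_121_152_135_126 R⟩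
  · exact ⟨[226, 220, 213, 216], by decide +kernel, e8f_raw_239_226_159_121_152_135_126_141 R⟩
  · exact ⟨[226, 220, 213, 216], by decide +kernel, e8f_raw_239_226_159_121_152_126 R⟩
  · exact ⟨[226, 220, 213, 216], by decide +kernel, e8f_raw_239_226_159_121_152_126_141 R⟩
  · exact ⟨[226, 220, 213, 216], by decide +kernel, e8f_raw_239_226_159_121_152_126_141_135 R⟩
  · exact ⟨[226, 220, 213, 216], by decide +kernel, e8f_raw_239_226_159_121_152_126_135 R⟩
  · exact ⟨[226, 220, 213, 216], by decide +kernel, e8f_raw_239_226_159_121_152_126_135_141 R⟩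

end

end Cfsg.Agent.Helper81
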