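/-
helper81: involutions of the Chevalley group of type E8 in characteristic two - the checks of the lowering lemma, part 0
(generated by tools/calls/e7scripts/xgen.py; the tables are checked by the kernel, one string at a time).
-/
import Cfsg.Agent.Helper81.E8IDefs
import Cfsg.Agent.Helper81.ChFast

set_option autoImplicit false
set_option linter.unusedSectionVars false
set_option linter.unusedVariables false
set_option maxRecDepth 100000

namespace Cfsg.Agent.Helper81

open Cfsg Cfsg.Lie Cfsg.Agent.Helper36 Cfsg.Agent.Helper17 Cfsg.Agent.Helper18 Cfsg.Agent.Helper18.RSub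
  Cfsg.Agent.Helper38

theorem e8i_lowA_1234567 : PosClosed chevE8 e8iP1234567 :=
  posClosed_of_fast chainPackOK_E8 (by decide +kernel)

theorem e8i_lowB_1234567_0 : 0 < chevE8.rank ∧
    PosClosed chevE8 (e8iP1234567.filter fun r => decide (r ≠ chevE8.simple 0)) ∧
    ∀ r ∈ e8iP1234567, r ≠ chevE8.simple 0 → chevE8.reflectRoot 0 r ∈ e8iP1234567 :=
  ⟨by decide +kernel, posClosed_of_fast chainPackOK_E8 (by decide +kernel), by decide +kernel⟩

theorem e8i_lowB_1234567_1 : 1 < chevE8.rank ∧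
    PosClosed chevE8 (e8iP1234567.filter fun r => decide (r ≠ chevE8.simple 1)) ∧
    ∀ r ∈ e8iP1234567, r ≠ chevE8.simple 1 → chevE8.reflectRoot 1 r ∈ e8iP1234567 :=
  ⟨by decide +kernel, posClosed_of_fast chainPackOK_E8 (by decide +kernel), by decide +kernel⟩

theorem e8i_lowB_1234567_2 : 2 < chevE8.rank ∧
    PosClosed chevE8 (e8iP1234567.filter fun r => decide (r ≠ chevE8.simple 2)) ∧
    ∀ r ∈ e8iP1234567, r ≠ chevE8.simple 2 → chevE8.reflectRoot 2 r ∈ e8iP1234567 :=
  ⟨by decide +kernel, posClosed_of_fast chainPackOK_E8 (by decide +kernel), by decide +kernel⟩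

theorem e8i_lowB_1234567_3 : 3 < chevE8.rank ∧
    PosClosed chevE8 (e8iP1234567.filter fun r => decide (r ≠ chevE8.simple 3)) ∧
    ∀ r ∈ e8iP1234567, r ≠ chevE8.simple 3 → chevE8.reflectRoot 3 r ∈ e8iP1234567 :=
  ⟨by decide +kernel, posClosed_of_fast chainPackOK_E8 (by decide +kernel), by decide +kernel⟩

theorem e8i_lowB_1234567_4 : 4 < chevE8.rank ∧
    PosClosed chevE8 (e8iP1234567.filter fun r => decide (r ≠ chevE8.simple 4)) ∧
    ∀ r ∈ e8iP1234567, r ≠ chevE8.simple 4 → chevE8.reflectRoot 4 r ∈ e8iP1234567 :=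
  ⟨by decide +kernel, posClosed_of_fast chainPackOK_E8 (by decide +kernel), by decide +kernel⟩

theorem e8i_lowB_1234567_5 : 5 < chevE8.rank ∧
    PosClosed chevE8 (e8iP1234567.filter fun r => decide (r ≠ chevE8.simple 5)) ∧
    ∀ r ∈ e8iP1234567, r ≠ chevE8.simple 5 → chevE8.reflectRoot 5 r ∈ e8iP1234567 :=
  ⟨by decide +kernel, posClosed_of_fast chainPackOK_E8 (by decide +kernel), by decide +kernel⟩

theorem e8i_lowB_1234567_6 : 6 < chevE8.rank ∧
    PosClosed chevE8 (e8iP1234567.filter fun r => decide (r ≠ chevE8.simple 6)) ∧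
    ∀ r ∈ e8iP1234567, r ≠ chevE8.simple 6 → chevE8.reflectRoot 6 r ∈ e8iP1234567 :=
  ⟨by decide +kernel, posClosed_of_fast chainPackOK_E8 (by decide +kernel), by decide +kernel⟩

theorem e8i_lowC_1234567 : ∀ r ∈ e8iP1234567, (∃ i ∈ [0, 1, 2, 3, 4, 5, 6], r = chevE8.simple i) ∨
    ∃ i ∈ [0, 1, 2, 3, 4, 5, 6], chevE8.reflectRoot i r < r := by
  decide +kernel

theorem e8i_lowA_12345678 : PosClosed chevE8 e8iP12345678 :=
  posClosed_of_fast chainPackOK_E8 (by decide +kernel)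

theorem e8i_lowB_12345678_0 : 0 < chevE8.rank ∧
    PosClosed chevE8 (e8iP12345678.filter fun r => decide (r ≠ chevE8.simple 0)) ∧
    ∀ r ∈ e8iP12345678, r ≠ chevE8.simple 0 → chevE8.reflectRoot 0 r ∈ e8iP12345678 :=
  ⟨by decide +kernel, posClosed_of_fast chainPackOK_E8 (by decide +kernel), by decide +kernel⟩

theorem e8i_lowB_12345678_1 : 1 < chevE8.rank ∧
    PosClosed chevE8 (e8iP12345678.filter fun r => decide (r ≠ chevE8.simple 1)) ∧
    ∀ r ∈ e8iP12345678, r ≠ chevE8.simple 1 → chevE8.reflectRoot 1 r ∈ e8iP12345678 :=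
  ⟨by decide +kernel, posClosed_of_fast chainPackOK_E8 (by decide +kernel), by decide +kernel⟩

theorem e8i_lowB_12345678_2 : 2 < chevE8.rank ∧
    PosClosed chevE8 (e8iP12345678.filter fun r => decide (r ≠ chevE8.simple 2)) ∧
    ∀ r ∈ e8iP12345678, r ≠ chevE8.simple 2 → chevE8.reflectRoot 2 r ∈ e8iP12345678 :=
  ⟨by decide +kernel, posClosed_of_fast chainPackOK_E8 (by decide +kernel), by decide +kernel⟩

theorem e8i_lowB_12345678_3 : 3 < chevE8.rank ∧
    PosClosed chevE8 (e8iP12345678.filter fun r => decide (r ≠ chevE8.simple 3)) ∧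
    ∀ r ∈ e8iP12345678, r ≠ chevE8.simple 3 → chevE8.reflectRoot 3 r ∈ e8iP12345678 :=
  ⟨by decide +kernel, posClosed_of_fast chainPackOK_E8 (by decide +kernel), by decide +kernel⟩

theorem e8i_lowB_12345678_4 : 4 < chevE8.rank ∧
    PosClosed chevE8 (e8iP12345678.filter fun r => decide (r ≠ chevE8.simple 4)) ∧
    ∀ r ∈ e8iP12345678, r ≠ chevE8.simple 4 → chevE8.reflectRoot 4 r ∈ e8iP12345678 :=
  ⟨by decide +kernel, posClosed_of_fast chainPackOK_E8 (by decide +kernel), by decide +kernel⟩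

theorem e8i_lowB_12345678_5 : 5 < chevE8.rank ∧
    PosClosed chevE8 (e8iP12345678.filter fun r => decide (r ≠ chevE8.simple 5)) ∧
    ∀ r ∈ e8iP12345678, r ≠ chevE8.simple 5 → chevE8.reflectRoot 5 r ∈ e8iP12345678 :=
  ⟨by decide +kernel, posClosed_of_fast chainPackOK_E8 (by decide +kernel), by decide +kernel⟩

theorem e8i_lowB_12345678_6 : 6 < chevE8.rank ∧
    PosClosed chevE8 (e8iP12345678.filter fun r => decide (r ≠ chevE8.simple 6)) ∧
    ∀ r ∈ e8iP12345678, r ≠ chevE8.simple 6 → chevE8.reflectRoot 6 r ∈ e8iP12345678 :=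
  ⟨by decide +kernel, posClosed_of_fast chainPackOK_E8 (by decide +kernel), by decide +kernel⟩

theorem e8i_lowB_12345678_7 : 7 < chevE8.rank ∧
    PosClosed chevE8 (e8iP12345678.filter fun r => decide (r ≠ chevE8.simple 7)) ∧
    ∀ r ∈ e8iP12345678, r ≠ chevE8.simple 7 → chevE8.reflectRoot 7 r ∈ e8iP12345678 :=
  ⟨by decide +kernel, posClosed_of_fast chainPackOK_E8 (by decide +kernel), by decide +kernel⟩

theorem e8i_lowC_12345678 : ∀ r ∈ e8iP12345678, (∃ i ∈ [0, 1, 2, 3, 4, 5, 6, 7], r = chevE8.simple i) ∨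
    ∃ i ∈ [0, 1, 2, 3, 4, 5, 6, 7], chevE8.reflectRoot i r < r := by
  decide +kernel

end Cfsg.Agent.Helper81
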