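/-
helper81: involutions of the Chevalley group of type E8 in characteristic two - the string checks of the Levi recursion, part 0
(generated by tools/calls/e7scripts/xgen.py; the tables are checked by the kernel, one string at a time).
-/
import Cfsg.Agent.Helper81.E8IDefs
import Cfsg.Agent.Helper81.ChFast

set_option autoImplicit false
set_option linter.unusedSectionVars false
set_option linter.unusedVariables false
set_option maxRecDepth 100000

namespace Cfsg.Agent.Helper81

open Cfsg Cfsg.Lie Cfsg.Agent.Helper36 Cfsg.Agent.Helper17 Cfsg.Agent.Helper18 Cfsg.Agent.Helper18.RSub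
  Cfsg.Agent.Helper38

theorem e8i_st_2345_1_0 : StepOK chevE8 (chevE8.simple 1) 130 142 ([126, 135, 152] ++ strRoots [(131, 143), (136, 147), (137, 148)]) :=
  stepOK_of_fast chainPackOK_E8 (by decide +kernel) (by decide +kernel)

theorem e8i_st_2345_1_1 : StepOK chevE8 (chevE8.simple 1) 131 143 ([126, 135, 152] ++ strRoots [(136, 147), (137, 148)]) :=
  stepOK_of_fast chainPackOK_E8 (by decide +kernel) (by decide +kernel)

theorem e8i_st_2345_1_2 : StepOK chevE8 (chevE8.simple 1) 136 147 ([126, 135, 152] ++ strRoots [(137, 148)]) :=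
  stepOK_of_fast chainPackOK_E8 (by decide +kernel) (by decide +kernel)

theorem e8i_st_2345_1_3 : StepOK chevE8 (chevE8.simple 1) 137 148 ([126, 135, 152] ++ strRoots []) :=
  stepOK_of_fast chainPackOK_E8 (by decide +kernel) (by decide +kernel)

theorem e8i_st_2345_2_0 : StepOK chevE8 (chevE8.simple 2) 130 136 ([126, 141, 152] ++ strRoots [(131, 137), (142, 147), (143, 148)]) :=
  stepOK_of_fast chainPackOK_E8 (by decide +kernel) (by decide +kernel)

theorem e8i_st_2345_2_1 : StepOK chevE8 (chevE8.simple 2) 131 137 ([126, 141, 152] ++ strRoots [(142, 147), (143, 148)]) :=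
  stepOK_of_fast chainPackOK_E8 (by decide +kernel) (by decide +kernel)

theorem e8i_st_2345_2_2 : StepOK chevE8 (chevE8.simple 2) 142 147 ([126, 141, 152] ++ strRoots [(143, 148)]) :=
  stepOK_of_fast chainPackOK_E8 (by decide +kernel) (by decide +kernel)

theorem e8i_st_2345_2_3 : StepOK chevE8 (chevE8.simple 2) 143 148 ([126, 141, 152] ++ strRoots []) :=
  stepOK_of_fast chainPackOK_E8 (by decide +kernel) (by decide +kernel)

theorem e8i_st_2345_3_0 : StepOK chevE8 (chevE8.simple 3) 126 131 ([137, 143, 147] ++ strRoots [(135, 136), (141, 142), (148, 152)]) :=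
  stepOK_of_fast chainPackOK_E8 (by decide +kernel) (by decide +kernel)

theorem e8i_st_2345_3_1 : StepOK chevE8 (chevE8.simple 3) 135 136 ([137, 143, 147] ++ strRoots [(141, 142), (148, 152)]) :=
  stepOK_of_fast chainPackOK_E8 (by decide +kernel) (by decide +kernel)

theorem e8i_st_2345_3_2 : StepOK chevE8 (chevE8.simple 3) 141 142 ([137, 143, 147] ++ strRoots [(148, 152)]) :=
  stepOK_of_fast chainPackOK_E8 (by decide +kernel) (by decide +kernel)

theorem e8i_st_2345_3_3 : StepOK chevE8 (chevE8.simple 3) 148 152 ([137, 143, 147] ++ strRoots []) :=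
  stepOK_of_fast chainPackOK_E8 (by decide +kernel) (by decide +kernel)

theorem e8i_st_2345_4_0 : StepOK chevE8 (chevE8.simple 4) 130 131 ([135, 141, 152] ++ strRoots [(136, 137), (142, 143), (147, 148)]) :=
  stepOK_of_fast chainPackOK_E8 (by decide +kernel) (by decide +kernel)

theorem e8i_st_2345_4_1 : StepOK chevE8 (chevE8.simple 4) 136 137 ([135, 141, 152] ++ strRoots [(142, 143), (147, 148)]) :=
  stepOK_of_fast chainPackOK_E8 (by decide +kernel) (by decide +kernel)

theorem e8i_st_2345_4_2 : StepOK chevE8 (chevE8.simple 4) 142 143 ([135, 141, 152] ++ strRoots [(147, 148)]) :=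
  stepOK_of_fast chainPackOK_E8 (by decide +kernel) (by decide +kernel)

theorem e8i_st_2345_4_3 : StepOK chevE8 (chevE8.simple 4) 147 148 ([135, 141, 152] ++ strRoots []) :=
  stepOK_of_fast chainPackOK_E8 (by decide +kernel) (by decide +kernel)

theorem e8i_st_23457_1_0 : StepOK chevE8 (chevE8.simple 1) 130 142 ([121, 126, 135, 152] ++ strRoots [(131, 143), (136, 147), (137, 148)]) :=
  stepOK_of_fast chainPackOK_E8 (by decide +kernel) (by decide +kernel)

theorem e8i_st_23457_1_1 : StepOK chevE8 (chevE8.simple 1) 131 143 ([121, 126, 135, 152] ++ strRoots [(136, 147), (137, 148)]) :=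
  stepOK_of_fast chainPackOK_E8 (by decide +kernel) (by decide +kernel)

theorem e8i_st_23457_1_2 : StepOK chevE8 (chevE8.simple 1) 136 147 ([121, 126, 135, 152] ++ strRoots [(137, 148)]) :=
  stepOK_of_fast chainPackOK_E8 (by decide +kernel) (by decide +kernel)

theorem e8i_st_23457_1_3 : StepOK chevE8 (chevE8.simple 1) 137 148 ([121, 126, 135, 152] ++ strRoots []) :=
  stepOK_of_fast chainPackOK_E8 (by decide +kernel) (by decide +kernel)

theorem e8i_st_23457_2_0 : StepOK chevE8 (chevE8.simple 2) 130 136 ([121, 126, 141, 152] ++ strRoots [(131, 137), (142, 147), (143, 148)]) :=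
  stepOK_of_fast chainPackOK_E8 (by decide +kernel) (by decide +kernel)

theorem e8i_st_23457_2_1 : StepOK chevE8 (chevE8.simple 2) 131 137 ([121, 126, 141, 152] ++ strRoots [(142, 147), (143, 148)]) :=
  stepOK_of_fast chainPackOK_E8 (by decide +kernel) (by decide +kernel)

theorem e8i_st_23457_2_2 : StepOK chevE8 (chevE8.simple 2) 142 147 ([121, 126, 141, 152] ++ strRoots [(143, 148)]) :=
  stepOK_of_fast chainPackOK_E8 (by decide +kernel) (by decide +kernel)

theorem e8i_st_23457_2_3 : StepOK chevE8 (chevE8.simple 2) 143 148 ([121, 126, 141, 152] ++ strRoots []) :=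
  stepOK_of_fast chainPackOK_E8 (by decide +kernel) (by decide +kernel)

theorem e8i_st_23457_3_0 : StepOK chevE8 (chevE8.simple 3) 126 131 ([121, 137, 143, 147] ++ strRoots [(135, 136), (141, 142), (148, 152)]) :=
  stepOK_of_fast chainPackOK_E8 (by decide +kernel) (by decide +kernel)

theorem e8i_st_23457_3_1 : StepOK chevE8 (chevE8.simple 3) 135 136 ([121, 137, 143, 147] ++ strRoots [(141, 142), (148, 152)]) :=
  stepOK_of_fast chainPackOK_E8 (by decide +kernel) (by decide +kernel)

theorem e8i_st_23457_3_2 : StepOK chevE8 (chevE8.simple 3) 141 142 ([121, 137, 143, 147] ++ strRoots [(148, 152)]) :=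
  stepOK_of_fast chainPackOK_E8 (by decide +kernel) (by decide +kernel)

theorem e8i_st_23457_3_3 : StepOK chevE8 (chevE8.simple 3) 148 152 ([121, 137, 143, 147] ++ strRoots []) :=
  stepOK_of_fast chainPackOK_E8 (by decide +kernel) (by decide +kernel)

theorem e8i_st_23457_4_0 : StepOK chevE8 (chevE8.simple 4) 130 131 ([121, 135, 141, 152] ++ strRoots [(136, 137), (142, 143), (147, 148)]) :=
  stepOK_of_fast chainPackOK_E8 (by decide +kernel) (by decide +kernel)

theorem e8i_st_23457_4_1 : StepOK chevE8 (chevE8.simple 4) 136 137 ([121, 135, 141, 152] ++ strRoots [(142, 143), (147, 148)]) :=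
  stepOK_of_fast chainPackOK_E8 (by decide +kernel) (by decide +kernel)

theorem e8i_st_23457_4_2 : StepOK chevE8 (chevE8.simple 4) 142 143 ([121, 135, 141, 152] ++ strRoots [(147, 148)]) :=
  stepOK_of_fast chainPackOK_E8 (by decide +kernel) (by decide +kernel)

theorem e8i_st_23457_4_3 : StepOK chevE8 (chevE8.simple 4) 147 148 ([121, 135, 141, 152] ++ strRoots []) :=
  stepOK_of_fast chainPackOK_E8 (by decide +kernel) (by decide +kernel)

theorem e8i_st_234567_1_0 : StepOK chevE8 (chevE8.simple 1) 130 142 ([121, 123, 124, 126, 127, 128, 135, 152, 153, 154, 156, 157, 159] ++ strRoots [(131, 143), (132, 144), (133, 145), (136, 147), (137, 148), (138, 149), (139, 150)]) :=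
  stepOK_of_fast chainPackOK_E8 (by decide +kernel) (by decide +kernel)

theorem e8i_st_234567_1_1 : StepOK chevE8 (chevE8.simple 1) 131 143 ([121, 123, 124, 126, 127, 128, 135, 152, 153, 154, 156, 157, 159] ++ strRoots [(132, 144), (133, 145), (136, 147), (137, 148), (138, 149), (139, 150)]) :=
  stepOK_of_fast chainPackOK_E8 (by decide +kernel) (by decide +kernel)

theorem e8i_st_234567_1_2 : StepOK chevE8 (chevE8.simple 1) 132 144 ([121, 123, 124, 126, 127, 128, 135, 152, 153, 154, 156, 157, 159] ++ strRoots [(133, 145), (136, 147), (137, 148), (138, 149), (139, 150)]) :=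
  stepOK_of_fast chainPackOK_E8 (by decide +kernel) (by decide +kernel)

theorem e8i_st_234567_1_3 : StepOK chevE8 (chevE8.simple 1) 133 145 ([121, 123, 124, 126, 127, 128, 135, 152, 153, 154, 156, 157, 159] ++ strRoots [(136, 147), (137, 148), (138, 149), (139, 150)]) :=
  stepOK_of_fast chainPackOK_E8 (by decide +kernel) (by decide +kernel)

theorem e8i_st_234567_1_4 : StepOK chevE8 (chevE8.simple 1) 136 147 ([121, 123, 124, 126, 127, 128, 135, 152, 153, 154, 156, 157, 159] ++ strRoots [(137, 148), (138, 149), (139, 150)]) :=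
  stepOK_of_fast chainPackOK_E8 (by decide +kernel) (by decide +kernel)

theorem e8i_st_234567_1_5 : StepOK chevE8 (chevE8.simple 1) 137 148 ([121, 123, 124, 126, 127, 128, 135, 152, 153, 154, 156, 157, 159] ++ strRoots [(138, 149), (139, 150)]) :=
  stepOK_of_fast chainPackOK_E8 (by decide +kernel) (by decide +kernel)

theorem e8i_st_234567_1_6 : StepOK chevE8 (chevE8.simple 1) 138 149 ([121, 123, 124, 126, 127, 128, 135, 152, 153, 154, 156, 157, 159] ++ strRoots [(139, 150)]) :=
  stepOK_of_fast chainPackOK_E8 (by decide +kernel) (by decide +kernel)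

theorem e8i_st_234567_1_7 : StepOK chevE8 (chevE8.simple 1) 139 150 ([121, 123, 124, 126, 127, 128, 135, 152, 153, 154, 156, 157, 159] ++ strRoots []) :=
  stepOK_of_fast chainPackOK_E8 (by decide +kernel) (by decide +kernel)

theorem e8i_st_234567_2_0 : StepOK chevE8 (chevE8.simple 2) 130 136 ([121, 123, 124, 126, 127, 128, 141, 152, 153, 154, 156, 157, 159] ++ strRoots [(131, 137), (132, 138), (133, 139), (142, 147), (143, 148), (144, 149), (145, 150)]) :=
  stepOK_of_fast chainPackOK_E8 (by decide +kernel) (by decide +kernel)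

theorem e8i_st_234567_2_1 : StepOK chevE8 (chevE8.simple 2) 131 137 ([121, 123, 124, 126, 127, 128, 141, 152, 153, 154, 156, 157, 159] ++ strRoots [(132, 138), (133, 139), (142, 147), (143, 148), (144, 149), (145, 150)]) :=
  stepOK_of_fast chainPackOK_E8 (by decide +kernel) (by decide +kernel)

theorem e8i_st_234567_2_2 : StepOK chevE8 (chevE8.simple 2) 132 138 ([121, 123, 124, 126, 127, 128, 141, 152, 153, 154, 156, 157, 159] ++ strRoots [(133, 139), (142, 147), (143, 148), (144, 149), (145, 150)]) :=
  stepOK_of_fast chainPackOK_E8 (by decide +kernel) (by decide +kernel)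

theorem e8i_st_234567_2_3 : StepOK chevE8 (chevE8.simple 2) 133 139 ([121, 123, 124, 126, 127, 128, 141, 152, 153, 154, 156, 157, 159] ++ strRoots [(142, 147), (143, 148), (144, 149), (145, 150)]) :=
  stepOK_of_fast chainPackOK_E8 (by decide +kernel) (by decide +kernel)

theorem e8i_st_234567_2_4 : StepOK chevE8 (chevE8.simple 2) 142 147 ([121, 123, 124, 126, 127, 128, 141, 152, 153, 154, 156, 157, 159] ++ strRoots [(143, 148), (144, 149), (145, 150)]) :=
  stepOK_of_fast chainPackOK_E8 (by decide +kernel) (by decide +kernel)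

theorem e8i_st_234567_2_5 : StepOK chevE8 (chevE8.simple 2) 143 148 ([121, 123, 124, 126, 127, 128, 141, 152, 153, 154, 156, 157, 159] ++ strRoots [(144, 149), (145, 150)]) :=
  stepOK_of_fast chainPackOK_E8 (by decide +kernel) (by decide +kernel)

theorem e8i_st_234567_2_6 : StepOK chevE8 (chevE8.simple 2) 144 149 ([121, 123, 124, 126, 127, 128, 141, 152, 153, 154, 156, 157, 159] ++ strRoots [(145, 150)]) :=
  stepOK_of_fast chainPackOK_E8 (by decide +kernel) (by decide +kernel)

theorem e8i_st_234567_2_7 : StepOK chevE8 (chevE8.simple 2) 145 150 ([121, 123, 124, 126, 127, 128, 141, 152, 153, 154, 156, 157, 159] ++ strRoots []) :=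
  stepOK_of_fast chainPackOK_E8 (by decide +kernel) (by decide +kernel)

theorem e8i_st_234567_3_0 : StepOK chevE8 (chevE8.simple 3) 126 131 ([121, 123, 124, 137, 138, 139, 143, 144, 145, 147, 156, 157, 159] ++ strRoots [(127, 132), (128, 133), (135, 136), (141, 142), (148, 152), (149, 153), (150, 154)]) :=
  stepOK_of_fast chainPackOK_E8 (by decide +kernel) (by decide +kernel)

theorem e8i_st_234567_3_1 : StepOK chevE8 (chevE8.simple 3) 127 132 ([121, 123, 124, 137, 138, 139, 143, 144, 145, 147, 156, 157, 159] ++ strRoots [(128, 133), (135, 136), (141, 142), (148, 152), (149, 153), (150, 154)]) :=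
  stepOK_of_fast chainPackOK_E8 (by decide +kernel) (by decide +kernel)

theorem e8i_st_234567_3_2 : StepOK chevE8 (chevE8.simple 3) 128 133 ([121, 123, 124, 137, 138, 139, 143, 144, 145, 147, 156, 157, 159] ++ strRoots [(135, 136), (141, 142), (148, 152), (149, 153), (150, 154)]) :=
  stepOK_of_fast chainPackOK_E8 (by decide +kernel) (by decide +kernel)

theorem e8i_st_234567_3_3 : StepOK chevE8 (chevE8.simple 3) 135 136 ([121, 123, 124, 137, 138, 139, 143, 144, 145, 147, 156, 157, 159] ++ strRoots [(141, 142), (148, 152), (149, 153), (150, 154)]) :=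
  stepOK_of_fast chainPackOK_E8 (by decide +kernel) (by decide +kernel)

theorem e8i_st_234567_3_4 : StepOK chevE8 (chevE8.simple 3) 141 142 ([121, 123, 124, 137, 138, 139, 143, 144, 145, 147, 156, 157, 159] ++ strRoots [(148, 152), (149, 153), (150, 154)]) :=
  stepOK_of_fast chainPackOK_E8 (by decide +kernel) (by decide +kernel)

theorem e8i_st_234567_3_5 : StepOK chevE8 (chevE8.simple 3) 148 152 ([121, 123, 124, 137, 138, 139, 143, 144, 145, 147, 156, 157, 159] ++ strRoots [(149, 153), (150, 154)]) :=
  stepOK_of_fast chainPackOK_E8 (by decide +kernel) (by decide +kernel)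

theorem e8i_st_234567_3_6 : StepOK chevE8 (chevE8.simple 3) 149 153 ([121, 123, 124, 137, 138, 139, 143, 144, 145, 147, 156, 157, 159] ++ strRoots [(150, 154)]) :=
  stepOK_of_fast chainPackOK_E8 (by decide +kernel) (by decide +kernel)

theorem e8i_st_234567_3_7 : StepOK chevE8 (chevE8.simple 3) 150 154 ([121, 123, 124, 137, 138, 139, 143, 144, 145, 147, 156, 157, 159] ++ strRoots []) :=
  stepOK_of_fast chainPackOK_E8 (by decide +kernel) (by decide +kernel)

theorem e8i_st_234567_4_0 : StepOK chevE8 (chevE8.simple 4) 123 127 ([121, 132, 133, 135, 138, 139, 141, 144, 145, 149, 150, 152, 159] ++ strRoots [(124, 128), (130, 131), (136, 137), (142, 143), (147, 148), (153, 156), (154, 157)]) :=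
  stepOK_of_fast chainPackOK_E8 (by decide +kernel) (by decide +kernel)

theorem e8i_st_234567_4_1 : StepOK chevE8 (chevE8.simple 4) 124 128 ([121, 132, 133, 135, 138, 139, 141, 144, 145, 149, 150, 152, 159] ++ strRoots [(130, 131), (136, 137), (142, 143), (147, 148), (153, 156), (154, 157)]) :=
  stepOK_of_fast chainPackOK_E8 (by decide +kernel) (by decide +kernel)

theorem e8i_st_234567_4_2 : StepOK chevE8 (chevE8.simple 4) 130 131 ([121, 132, 133, 135, 138, 139, 141, 144, 145, 149, 150, 152, 159] ++ strRoots [(136, 137), (142, 143), (147, 148), (153, 156), (154, 157)]) :=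
  stepOK_of_fast chainPackOK_E8 (by decide +kernel) (by decide +kernel)

theorem e8i_st_234567_4_3 : StepOK chevE8 (chevE8.simple 4) 136 137 ([121, 132, 133, 135, 138, 139, 141, 144, 145, 149, 150, 152, 159] ++ strRoots [(142, 143), (147, 148), (153, 156), (154, 157)]) :=
  stepOK_of_fast chainPackOK_E8 (by decide +kernel) (by decide +kernel)

theorem e8i_st_234567_4_4 : StepOK chevE8 (chevE8.simple 4) 142 143 ([121, 132, 133, 135, 138, 139, 141, 144, 145, 149, 150, 152, 159] ++ strRoots [(147, 148), (153, 156), (154, 157)]) :=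
  stepOK_of_fast chainPackOK_E8 (by decide +kernel) (by decide +kernel)

theorem e8i_st_234567_4_5 : StepOK chevE8 (chevE8.simple 4) 147 148 ([121, 132, 133, 135, 138, 139, 141, 144, 145, 149, 150, 152, 159] ++ strRoots [(153, 156), (154, 157)]) :=
  stepOK_of_fast chainPackOK_E8 (by decide +kernel) (by decide +kernel)

theorem e8i_st_234567_4_6 : StepOK chevE8 (chevE8.simple 4) 153 156 ([121, 132, 133, 135, 138, 139, 141, 144, 145, 149, 150, 152, 159] ++ strRoots [(154, 157)]) :=
  stepOK_of_fast chainPackOK_E8 (by decide +kernel) (by decide +kernel)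

theorem e8i_st_234567_4_7 : StepOK chevE8 (chevE8.simple 4) 154 157 ([121, 132, 133, 135, 138, 139, 141, 144, 145, 149, 150, 152, 159] ++ strRoots []) :=
  stepOK_of_fast chainPackOK_E8 (by decide +kernel) (by decide +kernel)

theorem e8i_st_234567_5_0 : StepOK chevE8 (chevE8.simple 5) 121 124 ([128, 130, 133, 135, 136, 139, 141, 142, 145, 147, 150, 154, 156] ++ strRoots [(126, 127), (131, 132), (137, 138), (143, 144), (148, 149), (152, 153), (157, 159)]) :=
  stepOK_of_fast chainPackOK_E8 (by decide +kernel) (by decide +kernel)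

theorem e8i_st_234567_5_1 : StepOK chevE8 (chevE8.simple 5) 126 127 ([128, 130, 133, 135, 136, 139, 141, 142, 145, 147, 150, 154, 156] ++ strRoots [(131, 132), (137, 138), (143, 144), (148, 149), (152, 153), (157, 159)]) :=
  stepOK_of_fast chainPackOK_E8 (by decide +kernel) (by decide +kernel)

theorem e8i_st_234567_5_2 : StepOK chevE8 (chevE8.simple 5) 131 132 ([128, 130, 133, 135, 136, 139, 141, 142, 145, 147, 150, 154, 156] ++ strRoots [(137, 138), (143, 144), (148, 149), (152, 153), (157, 159)]) :=
  stepOK_of_fast chainPackOK_E8 (by decide +kernel) (by decide +kernel)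

theorem e8i_st_234567_5_3 : StepOK chevE8 (chevE8.simple 5) 137 138 ([128, 130, 133, 135, 136, 139, 141, 142, 145, 147, 150, 154, 156] ++ strRoots [(143, 144), (148, 149), (152, 153), (157, 159)]) :=
  stepOK_of_fast chainPackOK_E8 (by decide +kernel) (by decide +kernel)

theorem e8i_st_234567_5_4 : StepOK chevE8 (chevE8.simple 5) 143 144 ([128, 130, 133, 135, 136, 139, 141, 142, 145, 147, 150, 154, 156] ++ strRoots [(148, 149), (152, 153), (157, 159)]) :=
  stepOK_of_fast chainPackOK_E8 (by decide +kernel) (by decide +kernel)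

theorem e8i_st_234567_5_5 : StepOK chevE8 (chevE8.simple 5) 148 149 ([128, 130, 133, 135, 136, 139, 141, 142, 145, 147, 150, 154, 156] ++ strRoots [(152, 153), (157, 159)]) :=
  stepOK_of_fast chainPackOK_E8 (by decide +kernel) (by decide +kernel)

theorem e8i_st_234567_5_6 : StepOK chevE8 (chevE8.simple 5) 152 153 ([128, 130, 133, 135, 136, 139, 141, 142, 145, 147, 150, 154, 156] ++ strRoots [(157, 159)]) :=
  stepOK_of_fast chainPackOK_E8 (by decide +kernel) (by decide +kernel)

theorem e8i_st_234567_5_7 : StepOK chevE8 (chevE8.simple 5) 157 159 ([128, 130, 133, 135, 136, 139, 141, 142, 145, 147, 150, 154, 156] ++ strRoots []) :=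
  stepOK_of_fast chainPackOK_E8 (by decide +kernel) (by decide +kernel)

theorem e8i_st_234567_6_0 : StepOK chevE8 (chevE8.simple 6) 123 124 ([126, 130, 131, 135, 136, 137, 141, 142, 143, 147, 148, 152, 159] ++ strRoots [(127, 128), (132, 133), (138, 139), (144, 145), (149, 150), (153, 154), (156, 157)]) :=
  stepOK_of_fast chainPackOK_E8 (by decide +kernel) (by decide +kernel)

theorem e8i_st_234567_6_1 : StepOK chevE8 (chevE8.simple 6) 127 128 ([126, 130, 131, 135, 136, 137, 141, 142, 143, 147, 148, 152, 159] ++ strRoots [(132, 133), (138, 139), (144, 145), (149, 150), (153, 154), (156, 157)]) :=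
  stepOK_of_fast chainPackOK_E8 (by decide +kernel) (by decide +kernel)

theorem e8i_st_234567_6_2 : StepOK chevE8 (chevE8.simple 6) 132 133 ([126, 130, 131, 135, 136, 137, 141, 142, 143, 147, 148, 152, 159] ++ strRoots [(138, 139), (144, 145), (149, 150), (153, 154), (156, 157)]) :=
  stepOK_of_fast chainPackOK_E8 (by decide +kernel) (by decide +kernel)

theorem e8i_st_234567_6_3 : StepOK chevE8 (chevE8.simple 6) 138 139 ([126, 130, 131, 135, 136, 137, 141, 142, 143, 147, 148, 152, 159] ++ strRoots [(144, 145), (149, 150), (153, 154), (156, 157)]) :=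
  stepOK_of_fast chainPackOK_E8 (by decide +kernel) (by decide +kernel)

theorem e8i_st_234567_6_4 : StepOK chevE8 (chevE8.simple 6) 144 145 ([126, 130, 131, 135, 136, 137, 141, 142, 143, 147, 148, 152, 159] ++ strRoots [(149, 150), (153, 154), (156, 157)]) :=
  stepOK_of_fast chainPackOK_E8 (by decide +kernel) (by decide +kernel)

theorem e8i_st_234567_6_5 : StepOK chevE8 (chevE8.simple 6) 149 150 ([126, 130, 131, 135, 136, 137, 141, 142, 143, 147, 148, 152, 159] ++ strRoots [(153, 154), (156, 157)]) :=
  stepOK_of_fast chainPackOK_E8 (by decide +kernel) (by decide +kernel)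

theorem e8i_st_234567_6_6 : StepOK chevE8 (chevE8.simple 6) 153 154 ([126, 130, 131, 135, 136, 137, 141, 142, 143, 147, 148, 152, 159] ++ strRoots [(156, 157)]) :=
  stepOK_of_fast chainPackOK_E8 (by decide +kernel) (by decide +kernel)

theorem e8i_st_234567_6_7 : StepOK chevE8 (chevE8.simple 6) 156 157 ([126, 130, 131, 135, 136, 137, 141, 142, 143, 147, 148, 152, 159] ++ strRoots []) :=
  stepOK_of_fast chainPackOK_E8 (by decide +kernel) (by decide +kernel)

theorem e8i_st_1234567_0_0 : StepOK chevE8 (chevE8.simple 0) 135 163 ([121, 123, 124, 126, 127, 128, 130, 131, 132, 133, 141, 142, 143, 144, 145, 184, 185, 186, 188, 189, 191, 194, 195, 197, 200, 204, 205, 207, 210, 214] ++ strRoots [(136, 164), (137, 165), (138, 166), (139, 167), (147, 169), (148, 170), (149, 171), (150, 172), (152, 174), (153, 175), (154, 176), (156, 178), (157, 179), (159, 181), (219, 226)]) :=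
  stepOK_of_fast chainPackOK_E8 (by decide +kernel) (by decide +kernel)

theorem e8i_st_1234567_0_1 : StepOK chevE8 (chevE8.simple 0) 136 164 ([121, 123, 124, 126, 127, 128, 130, 131, 132, 133, 141, 142, 143, 144, 145, 184, 185, 186, 188, 189, 191, 194, 195, 197, 200, 204, 205, 207, 210, 214] ++ strRoots [(137, 165), (138, 166), (139, 167), (147, 169), (148, 170), (149, 171), (150, 172), (152, 174), (153, 175), (154, 176), (156, 178), (157, 179), (159, 181), (219, 226)]) :=
  stepOK_of_fast chainPackOK_E8 (by decide +kernel) (by decide +kernel)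

theorem e8i_st_1234567_0_2 : StepOK chevE8 (chevE8.simple 0) 137 165 ([121, 123, 124, 126, 127, 128, 130, 131, 132, 133, 141, 142, 143, 144, 145, 184, 185, 186, 188, 189, 191, 194, 195, 197, 200, 204, 205, 207, 210, 214] ++ strRoots [(138, 166), (139, 167), (147, 169), (148, 170), (149, 171), (150, 172), (152, 174), (153, 175), (154, 176), (156, 178), (157, 179), (159, 181), (219, 226)]) :=
  stepOK_of_fast chainPackOK_E8 (by decide +kernel) (by decide +kernel)

theorem e8i_st_1234567_0_3 : StepOK chevE8 (chevE8.simple 0) 138 166 ([121, 123, 124, 126, 127, 128, 130, 131, 132, 133, 141, 142, 143, 144, 145, 184, 185, 186, 188, 189, 191, 194, 195, 197, 200, 204, 205, 207, 210, 214] ++ strRoots [(139, 167), (147, 169), (148, 170), (149, 171), (150, 172), (152, 174), (153, 175), (154, 176), (156, 178), (157, 179), (159, 181), (219, 226)]) :=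
  stepOK_of_fast chainPackOK_E8 (by decide +kernel) (by decide +kernel)

theorem e8i_st_1234567_0_4 : StepOK chevE8 (chevE8.simple 0) 139 167 ([121, 123, 124, 126, 127, 128, 130, 131, 132, 133, 141, 142, 143, 144, 145, 184, 185, 186, 188, 189, 191, 194, 195, 197, 200, 204, 205, 207, 210, 214] ++ strRoots [(147, 169), (148, 170), (149, 171), (150, 172), (152, 174), (153, 175), (154, 176), (156, 178), (157, 179), (159, 181), (219, 226)]) :=
  stepOK_of_fast chainPackOK_E8 (by decide +kernel) (by decide +kernel)

theorem e8i_st_1234567_0_5 : StepOK chevE8 (chevE8.simple 0) 147 169 ([121, 123, 124, 126, 127, 128, 130, 131, 132, 133, 141, 142, 143, 144, 145, 184, 185, 186, 188, 189, 191, 194, 195, 197, 200, 204, 205, 207, 210, 214] ++ strRoots [(148, 170), (149, 171), (150, 172), (152, 174), (153, 175), (154, 176), (156, 178), (157, 179), (159, 181), (219, 226)]) :=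
  stepOK_of_fast chainPackOK_E8 (by decide +kernel) (by decide +kernel)

theorem e8i_st_1234567_0_6 : StepOK chevE8 (chevE8.simple 0) 148 170 ([121, 123, 124, 126, 127, 128, 130, 131, 132, 133, 141, 142, 143, 144, 145, 184, 185, 186, 188, 189, 191, 194, 195, 197, 200, 204, 205, 207, 210, 214] ++ strRoots [(149, 171), (150, 172), (152, 174), (153, 175), (154, 176), (156, 178), (157, 179), (159, 181), (219, 226)]) :=
  stepOK_of_fast chainPackOK_E8 (by decide +kernel) (by decide +kernel)

theorem e8i_st_1234567_0_7 : StepOK chevE8 (chevE8.simple 0) 149 171 ([121, 123, 124, 126, 127, 128, 130, 131, 132, 133, 141, 142, 143, 144, 145, 184, 185, 186, 188, 189, 191, 194, 195, 197, 200, 204, 205, 207, 210, 214] ++ strRoots [(150, 172), (152, 174), (153, 175), (154, 176), (156, 178), (157, 179), (159, 181), (219, 226)]) :=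
  stepOK_of_fast chainPackOK_E8 (by decide +kernel) (by decide +kernel)

theorem e8i_st_1234567_0_8 : StepOK chevE8 (chevE8.simple 0) 150 172 ([121, 123, 124, 126, 127, 128, 130, 131, 132, 133, 141, 142, 143, 144, 145, 184, 185, 186, 188, 189, 191, 194, 195, 197, 200, 204, 205, 207, 210, 214] ++ strRoots [(152, 174), (153, 175), (154, 176), (156, 178), (157, 179), (159, 181), (219, 226)]) :=
  stepOK_of_fast chainPackOK_E8 (by decide +kernel) (by decide +kernel)

theorem e8i_st_1234567_0_9 : StepOK chevE8 (chevE8.simple 0) 152 174 ([121, 123, 124, 126, 127, 128, 130, 131, 132, 133, 141, 142, 143, 144, 145, 184, 185, 186, 188, 189, 191, 194, 195, 197, 200, 204, 205, 207, 210, 214] ++ strRoots [(153, 175), (154, 176), (156, 178), (157, 179), (159, 181), (219, 226)]) :=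
  stepOK_of_fast chainPackOK_E8 (by decide +kernel) (by decide +kernel)

theorem e8i_st_1234567_0_10 : StepOK chevE8 (chevE8.simple 0) 153 175 ([121, 123, 124, 126, 127, 128, 130, 131, 132, 133, 141, 142, 143, 144, 145, 184, 185, 186, 188, 189, 191, 194, 195, 197, 200, 204, 205, 207, 210, 214] ++ strRoots [(154, 176), (156, 178), (157, 179), (159, 181), (219, 226)]) :=
  stepOK_of_fast chainPackOK_E8 (by decide +kernel) (by decide +kernel)

theorem e8i_st_1234567_0_11 : StepOK chevE8 (chevE8.simple 0) 154 176 ([121, 123, 124, 126, 127, 128, 130, 131, 132, 133, 141, 142, 143, 144, 145, 184, 185, 186, 188, 189, 191, 194, 195, 197, 200, 204, 205, 207, 210, 214] ++ strRoots [(156, 178), (157, 179), (159, 181), (219, 226)]) :=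
  stepOK_of_fast chainPackOK_E8 (by decide +kernel) (by decide +kernel)

theorem e8i_st_1234567_0_12 : StepOK chevE8 (chevE8.simple 0) 156 178 ([121, 123, 124, 126, 127, 128, 130, 131, 132, 133, 141, 142, 143, 144, 145, 184, 185, 186, 188, 189, 191, 194, 195, 197, 200, 204, 205, 207, 210, 214] ++ strRoots [(157, 179), (159, 181), (219, 226)]) :=
  stepOK_of_fast chainPackOK_E8 (by decide +kernel) (by decide +kernel)

theorem e8i_st_1234567_0_13 : StepOK chevE8 (chevE8.simple 0) 157 179 ([121, 123, 124, 126, 127, 128, 130, 131, 132, 133, 141, 142, 143, 144, 145, 184, 185, 186, 188, 189, 191, 194, 195, 197, 200, 204, 205, 207, 210, 214] ++ strRoots [(159, 181), (219, 226)]) :=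
  stepOK_of_fast chainPackOK_E8 (by decide +kernel) (by decide +kernel)

theorem e8i_st_1234567_0_14 : StepOK chevE8 (chevE8.simple 0) 159 181 ([121, 123, 124, 126, 127, 128, 130, 131, 132, 133, 141, 142, 143, 144, 145, 184, 185, 186, 188, 189, 191, 194, 195, 197, 200, 204, 205, 207, 210, 214] ++ strRoots [(219, 226)]) :=
  stepOK_of_fast chainPackOK_E8 (by decide +kernel) (by decide +kernel)

theorem e8i_st_1234567_0_15 : StepOK chevE8 (chevE8.simple 0) 219 226 ([121, 123, 124, 126, 127, 128, 130, 131, 132, 133, 141, 142, 143, 144, 145, 184, 185, 186, 188, 189, 191, 194, 195, 197, 200, 204, 205, 207, 210, 214] ++ strRoots []) :=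
  stepOK_of_fast chainPackOK_E8 (by decide +kernel) (by decide +kernel)

theorem e8i_st_1234567_1_0 : StepOK chevE8 (chevE8.simple 1) 130 142 ([121, 123, 124, 126, 127, 128, 135, 152, 153, 154, 156, 157, 159, 162, 163, 174, 175, 176, 178, 179, 181, 184, 185, 186, 188, 189, 191, 214, 219, 226] ++ strRoots [(131, 143), (132, 144), (133, 145), (136, 147), (137, 148), (138, 149), (139, 150), (164, 169), (165, 170), (166, 171), (167, 172), (194, 204), (195, 205), (197, 207), (200, 210)]) :=
  stepOK_of_fast chainPackOK_E8 (by decide +kernel) (by decide +kernel)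

theorem e8i_st_1234567_1_1 : StepOK chevE8 (chevE8.simple 1) 131 143 ([121, 123, 124, 126, 127, 128, 135, 152, 153, 154, 156, 157, 159, 162, 163, 174, 175, 176, 178, 179, 181, 184, 185, 186, 188, 189, 191, 214, 219, 226] ++ strRoots [(132, 144), (133, 145), (136, 147), (137, 148), (138, 149), (139, 150), (164, 169), (165, 170), (166, 171), (167, 172), (194, 204), (195, 205), (197, 207), (200, 210)]) :=
  stepOK_of_fast chainPackOK_E8 (by decide +kernel) (by decide +kernel)

theorem e8i_st_1234567_1_2 : StepOK chevE8 (chevE8.simple 1) 132 144 ([121, 123, 124, 126, 127, 128, 135, 152, 153, 154, 156, 157, 159, 162, 163, 174, 175, 176, 178, 179, 181, 184, 185, 186, 188, 189, 191, 214, 219, 226] ++ strRoots [(133, 145), (136, 147), (137, 148), (138, 149), (139, 150), (164, 169), (165, 170), (166, 171), (167, 172), (194, 204), (195, 205), (197, 207), (200, 210)]) :=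
  stepOK_of_fast chainPackOK_E8 (by decide +kernel) (by decide +kernel)

theorem e8i_st_1234567_1_3 : StepOK chevE8 (chevE8.simple 1) 133 145 ([121, 123, 124, 126, 127, 128, 135, 152, 153, 154, 156, 157, 159, 162, 163, 174, 175, 176, 178, 179, 181, 184, 185, 186, 188, 189, 191, 214, 219, 226] ++ strRoots [(136, 147), (137, 148), (138, 149), (139, 150), (164, 169), (165, 170), (166, 171), (167, 172), (194, 204), (195, 205), (197, 207), (200, 210)]) :=
  stepOK_of_fast chainPackOK_E8 (by decide +kernel) (by decide +kernel)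

theorem e8i_st_1234567_1_4 : StepOK chevE8 (chevE8.simple 1) 136 147 ([121, 123, 124, 126, 127, 128, 135, 152, 153, 154, 156, 157, 159, 162, 163, 174, 175, 176, 178, 179, 181, 184, 185, 186, 188, 189, 191, 214, 219, 226] ++ strRoots [(137, 148), (138, 149), (139, 150), (164, 169), (165, 170), (166, 171), (167, 172), (194, 204), (195, 205), (197, 207), (200, 210)]) :=
  stepOK_of_fast chainPackOK_E8 (by decide +kernel) (by decide +kernel)

theorem e8i_st_1234567_1_5 : StepOK chevE8 (chevE8.simple 1) 137 148 ([121, 123, 124, 126, 127, 128, 135, 152, 153, 154, 156, 157, 159, 162, 163, 174, 175, 176, 178, 179, 181, 184, 185, 186, 188, 189, 191, 214, 219, 226] ++ strRoots [(138, 149), (139, 150), (164, 169), (165, 170), (166, 171), (167, 172), (194, 204), (195, 205), (197, 207), (200, 210)]) :=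
  stepOK_of_fast chainPackOK_E8 (by decide +kernel) (by decide +kernel)

theorem e8i_st_1234567_1_6 : StepOK chevE8 (chevE8.simple 1) 138 149 ([121, 123, 124, 126, 127, 128, 135, 152, 153, 154, 156, 157, 159, 162, 163, 174, 175, 176, 178, 179, 181, 184, 185, 186, 188, 189, 191, 214, 219, 226] ++ strRoots [(139, 150), (164, 169), (165, 170), (166, 171), (167, 172), (194, 204), (195, 205), (197, 207), (200, 210)]) :=
  stepOK_of_fast chainPackOK_E8 (by decide +kernel) (by decide +kernel)

theorem e8i_st_1234567_1_7 : StepOK chevE8 (chevE8.simple 1) 139 150 ([121, 123, 124, 126, 127, 128, 135, 152, 153, 154, 156, 157, 159, 162, 163, 174, 175, 176, 178, 179, 181, 184, 185, 186, 188, 189, 191, 214, 219, 226] ++ strRoots [(164, 169), (165, 170), (166, 171), (167, 172), (194, 204), (195, 205), (197, 207), (200, 210)]) :=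
  stepOK_of_fast chainPackOK_E8 (by decide +kernel) (by decide +kernel)

theorem e8i_st_1234567_1_8 : StepOK chevE8 (chevE8.simple 1) 164 169 ([121, 123, 124, 126, 127, 128, 135, 152, 153, 154, 156, 157, 159, 162, 163, 174, 175, 176, 178, 179, 181, 184, 185, 186, 188, 189, 191, 214, 219, 226] ++ strRoots [(165, 170), (166, 171), (167, 172), (194, 204), (195, 205), (197, 207), (200, 210)]) :=
  stepOK_of_fast chainPackOK_E8 (by decide +kernel) (by decide +kernel)

theorem e8i_st_1234567_1_9 : StepOK chevE8 (chevE8.simple 1) 165 170 ([121, 123, 124, 126, 127, 128, 135, 152, 153, 154, 156, 157, 159, 162, 163, 174, 175, 176, 178, 179, 181, 184, 185, 186, 188, 189, 191, 214, 219, 226] ++ strRoots [(166, 171), (167, 172), (194, 204), (195, 205), (197, 207), (200, 210)]) :=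
  stepOK_of_fast chainPackOK_E8 (by decide +kernel) (by decide +kernel)

theorem e8i_st_1234567_1_10 : StepOK chevE8 (chevE8.simple 1) 166 171 ([121, 123, 124, 126, 127, 128, 135, 152, 153, 154, 156, 157, 159, 162, 163, 174, 175, 176, 178, 179, 181, 184, 185, 186, 188, 189, 191, 214, 219, 226] ++ strRoots [(167, 172), (194, 204), (195, 205), (197, 207), (200, 210)]) :=
  stepOK_of_fast chainPackOK_E8 (by decide +kernel) (by decide +kernel)

theorem e8i_st_1234567_1_11 : StepOK chevE8 (chevE8.simple 1) 167 172 ([121, 123, 124, 126, 127, 128, 135, 152, 153, 154, 156, 157, 159, 162, 163, 174, 175, 176, 178, 179, 181, 184, 185, 186, 188, 189, 191, 214, 219, 226] ++ strRoots [(194, 204), (195, 205), (197, 207), (200, 210)]) :=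
  stepOK_of_fast chainPackOK_E8 (by decide +kernel) (by decide +kernel)

theorem e8i_st_1234567_1_12 : StepOK chevE8 (chevE8.simple 1) 194 204 ([121, 123, 124, 126, 127, 128, 135, 152, 153, 154, 156, 157, 159, 162, 163, 174, 175, 176, 178, 179, 181, 184, 185, 186, 188, 189, 191, 214, 219, 226] ++ strRoots [(195, 205), (197, 207), (200, 210)]) :=
  stepOK_of_fast chainPackOK_E8 (by decide +kernel) (by decide +kernel)

theorem e8i_st_1234567_1_13 : StepOK chevE8 (chevE8.simple 1) 195 205 ([121, 123, 124, 126, 127, 128, 135, 152, 153, 154, 156, 157, 159, 162, 163, 174, 175, 176, 178, 179, 181, 184, 185, 186, 188, 189, 191, 214, 219, 226] ++ strRoots [(197, 207), (200, 210)]) :=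
  stepOK_of_fast chainPackOK_E8 (by decide +kernel) (by decide +kernel)

theorem e8i_st_1234567_1_14 : StepOK chevE8 (chevE8.simple 1) 197 207 ([121, 123, 124, 126, 127, 128, 135, 152, 153, 154, 156, 157, 159, 162, 163, 174, 175, 176, 178, 179, 181, 184, 185, 186, 188, 189, 191, 214, 219, 226] ++ strRoots [(200, 210)]) :=
  stepOK_of_fast chainPackOK_E8 (by decide +kernel) (by decide +kernel)

theorem e8i_st_1234567_1_15 : StepOK chevE8 (chevE8.simple 1) 200 210 ([121, 123, 124, 126, 127, 128, 135, 152, 153, 154, 156, 157, 159, 162, 163, 174, 175, 176, 178, 179, 181, 184, 185, 186, 188, 189, 191, 214, 219, 226] ++ strRoots []) :=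
  stepOK_of_fast chainPackOK_E8 (by decide +kernel) (by decide +kernel)

theorem e8i_st_1234567_2_0 : StepOK chevE8 (chevE8.simple 2) 130 136 ([121, 123, 124, 126, 127, 128, 141, 152, 153, 154, 156, 157, 159, 164, 165, 166, 167, 169, 170, 171, 172, 194, 195, 197, 200, 204, 205, 207, 210, 226] ++ strRoots [(131, 137), (132, 138), (133, 139), (142, 147), (143, 148), (144, 149), (145, 150), (162, 163), (174, 184), (175, 185), (176, 186), (178, 188), (179, 189), (181, 191), (214, 219)]) :=
  stepOK_of_fast chainPackOK_E8 (by decide +kernel) (by decide +kernel)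

theorem e8i_st_1234567_2_1 : StepOK chevE8 (chevE8.simple 2) 131 137 ([121, 123, 124, 126, 127, 128, 141, 152, 153, 154, 156, 157, 159, 164, 165, 166, 167, 169, 170, 171, 172, 194, 195, 197, 200, 204, 205, 207, 210, 226] ++ strRoots [(132, 138), (133, 139), (142, 147), (143, 148), (144, 149), (145, 150), (162, 163), (174, 184), (175, 185), (176, 186), (178, 188), (179, 189), (181, 191), (214, 219)]) :=
  stepOK_of_fast chainPackOK_E8 (by decide +kernel) (by decide +kernel)

theorem e8i_st_1234567_2_2 : StepOK chevE8 (chevE8.simple 2) 132 138 ([121, 123, 124, 126, 127, 128, 141, 152, 153, 154, 156, 157, 159, 164, 165, 166, 167, 169, 170, 171, 172, 194, 195, 197, 200, 204, 205, 207, 210, 226] ++ strRoots [(133, 139), (142, 147), (143, 148), (144, 149), (145, 150), (162, 163), (174, 184), (175, 185), (176, 186), (178, 188), (179, 189), (181, 191), (214, 219)]) :=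
  stepOK_of_fast chainPackOK_E8 (by decide +kernel) (by decide +kernel)

theorem e8i_st_1234567_2_3 : StepOK chevE8 (chevE8.simple 2) 133 139 ([121, 123, 124, 126, 127, 128, 141, 152, 153, 154, 156, 157, 159, 164, 165, 166, 167, 169, 170, 171, 172, 194, 195, 197, 200, 204, 205, 207, 210, 226] ++ strRoots [(142, 147), (143, 148), (144, 149), (145, 150), (162, 163), (174, 184), (175, 185), (176, 186), (178, 188), (179, 189), (181, 191), (214, 219)]) :=
  stepOK_of_fast chainPackOK_E8 (by decide +kernel) (by decide +kernel)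

theorem e8i_st_1234567_2_4 : StepOK chevE8 (chevE8.simple 2) 142 147 ([121, 123, 124, 126, 127, 128, 141, 152, 153, 154, 156, 157, 159, 164, 165, 166, 167, 169, 170, 171, 172, 194, 195, 197, 200, 204, 205, 207, 210, 226] ++ strRoots [(143, 148), (144, 149), (145, 150), (162, 163), (174, 184), (175, 185), (176, 186), (178, 188), (179, 189), (181, 191), (214, 219)]) :=
  stepOK_of_fast chainPackOK_E8 (by decide +kernel) (by decide +kernel)

theorem e8i_st_1234567_2_5 : StepOK chevE8 (chevE8.simple 2) 143 148 ([121, 123, 124, 126, 127, 128, 141, 152, 153, 154, 156, 157, 159, 164, 165, 166, 167, 169, 170, 171, 172, 194, 195, 197, 200, 204, 205, 207, 210, 226] ++ strRoots [(144, 149), (145, 150), (162, 163), (174, 184), (175, 185), (176, 186), (178, 188), (179, 189), (181, 191), (214, 219)]) :=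
  stepOK_of_fast chainPackOK_E8 (by decide +kernel) (by decide +kernel)

theorem e8i_st_1234567_2_6 : StepOK chevE8 (chevE8.simple 2) 144 149 ([121, 123, 124, 126, 127, 128, 141, 152, 153, 154, 156, 157, 159, 164, 165, 166, 167, 169, 170, 171, 172, 194, 195, 197, 200, 204, 205, 207, 210, 226] ++ strRoots [(145, 150), (162, 163), (174, 184), (175, 185), (176, 186), (178, 188), (179, 189), (181, 191), (214, 219)]) :=
  stepOK_of_fast chainPackOK_E8 (by decide +kernel) (by decide +kernel)

theorem e8i_st_1234567_2_7 : StepOK chevE8 (chevE8.simple 2) 145 150 ([121, 123, 124, 126, 127, 128, 141, 152, 153, 154, 156, 157, 159, 164, 165, 166, 167, 169, 170, 171, 172, 194, 195, 197, 200, 204, 205, 207, 210, 226] ++ strRoots [(162, 163), (174, 184), (175, 185), (176, 186), (178, 188), (179, 189), (181, 191), (214, 219)]) :=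
  stepOK_of_fast chainPackOK_E8 (by decide +kernel) (by decide +kernel)

theorem e8i_st_1234567_2_8 : StepOK chevE8 (chevE8.simple 2) 162 163 ([121, 123, 124, 126, 127, 128, 141, 152, 153, 154, 156, 157, 159, 164, 165, 166, 167, 169, 170, 171, 172, 194, 195, 197, 200, 204, 205, 207, 210, 226] ++ strRoots [(174, 184), (175, 185), (176, 186), (178, 188), (179, 189), (181, 191), (214, 219)]) :=
  stepOK_of_fast chainPackOK_E8 (by decide +kernel) (by decide +kernel)

theorem e8i_st_1234567_2_9 : StepOK chevE8 (chevE8.simple 2) 174 184 ([121, 123, 124, 126, 127, 128, 141, 152, 153, 154, 156, 157, 159, 164, 165, 166, 167, 169, 170, 171, 172, 194, 195, 197, 200, 204, 205, 207, 210, 226] ++ strRoots [(175, 185), (176, 186), (178, 188), (179, 189), (181, 191), (214, 219)]) :=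
  stepOK_of_fast chainPackOK_E8 (by decide +kernel) (by decide +kernel)

theorem e8i_st_1234567_2_10 : StepOK chevE8 (chevE8.simple 2) 175 185 ([121, 123, 124, 126, 127, 128, 141, 152, 153, 154, 156, 157, 159, 164, 165, 166, 167, 169, 170, 171, 172, 194, 195, 197, 200, 204, 205, 207, 210, 226] ++ strRoots [(176, 186), (178, 188), (179, 189), (181, 191), (214, 219)]) :=
  stepOK_of_fast chainPackOK_E8 (by decide +kernel) (by decide +kernel)

theorem e8i_st_1234567_2_11 : StepOK chevE8 (chevE8.simple 2) 176 186 ([121, 123, 124, 126, 127, 128, 141, 152, 153, 154, 156, 157, 159, 164, 165, 166, 167, 169, 170, 171, 172, 194, 195, 197, 200, 204, 205, 207, 210, 226] ++ strRoots [(178, 188), (179, 189), (181, 191), (214, 219)]) :=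
  stepOK_of_fast chainPackOK_E8 (by decide +kernel) (by decide +kernel)

theorem e8i_st_1234567_2_12 : StepOK chevE8 (chevE8.simple 2) 178 188 ([121, 123, 124, 126, 127, 128, 141, 152, 153, 154, 156, 157, 159, 164, 165, 166, 167, 169, 170, 171, 172, 194, 195, 197, 200, 204, 205, 207, 210, 226] ++ strRoots [(179, 189), (181, 191), (214, 219)]) :=
  stepOK_of_fast chainPackOK_E8 (by decide +kernel) (by decide +kernel)

theorem e8i_st_1234567_2_13 : StepOK chevE8 (chevE8.simple 2) 179 189 ([121, 123, 124, 126, 127, 128, 141, 152, 153, 154, 156, 157, 159, 164, 165, 166, 167, 169, 170, 171, 172, 194, 195, 197, 200, 204, 205, 207, 210, 226] ++ strRoots [(181, 191), (214, 219)]) :=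
  stepOK_of_fast chainPackOK_E8 (by decide +kernel) (by decide +kernel)

theorem e8i_st_1234567_2_14 : StepOK chevE8 (chevE8.simple 2) 181 191 ([121, 123, 124, 126, 127, 128, 141, 152, 153, 154, 156, 157, 159, 164, 165, 166, 167, 169, 170, 171, 172, 194, 195, 197, 200, 204, 205, 207, 210, 226] ++ strRoots [(214, 219)]) :=
  stepOK_of_fast chainPackOK_E8 (by decide +kernel) (by decide +kernel)

theorem e8i_st_1234567_2_15 : StepOK chevE8 (chevE8.simple 2) 214 219 ([121, 123, 124, 126, 127, 128, 141, 152, 153, 154, 156, 157, 159, 164, 165, 166, 167, 169, 170, 171, 172, 194, 195, 197, 200, 204, 205, 207, 210, 226] ++ strRoots []) :=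
  stepOK_of_fast chainPackOK_E8 (by decide +kernel) (by decide +kernel)

theorem e8i_st_1234567_3_0 : StepOK chevE8 (chevE8.simple 3) 126 131 ([121, 123, 124, 137, 138, 139, 143, 144, 145, 147, 156, 157, 159, 162, 165, 166, 167, 169, 178, 179, 181, 184, 185, 186, 200, 204, 205, 207, 219, 226] ++ strRoots [(127, 132), (128, 133), (135, 136), (141, 142), (148, 152), (149, 153), (150, 154), (163, 164), (170, 174), (171, 175), (172, 176), (188, 194), (189, 195), (191, 197), (210, 214)]) :=
  stepOK_of_fast chainPackOK_E8 (by decide +kernel) (by decide +kernel)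

theorem e8i_st_1234567_3_1 : StepOK chevE8 (chevE8.simple 3) 127 132 ([121, 123, 124, 137, 138, 139, 143, 144, 145, 147, 156, 157, 159, 162, 165, 166, 167, 169, 178, 179, 181, 184, 185, 186, 200, 204, 205, 207, 219, 226] ++ strRoots [(128, 133), (135, 136), (141, 142), (148, 152), (149, 153), (150, 154), (163, 164), (170, 174), (171, 175), (172, 176), (188, 194), (189, 195), (191, 197), (210, 214)]) :=
  stepOK_of_fast chainPackOK_E8 (by decide +kernel) (by decide +kernel)

theorem e8i_st_1234567_3_2 : StepOK chevE8 (chevE8.simple 3) 128 133 ([121, 123, 124, 137, 138, 139, 143, 144, 145, 147, 156, 157, 159, 162, 165, 166, 167, 169, 178, 179, 181, 184, 185, 186, 200, 204, 205, 207, 219, 226] ++ strRoots [(135, 136), (141, 142), (148, 152), (149, 153), (150, 154), (163, 164), (170, 174), (171, 175), (172, 176), (188, 194), (189, 195), (191, 197), (210, 214)]) :=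
  stepOK_of_fast chainPackOK_E8 (by decide +kernel) (by decide +kernel)

theorem e8i_st_1234567_3_3 : StepOK chevE8 (chevE8.simple 3) 135 136 ([121, 123, 124, 137, 138, 139, 143, 144, 145, 147, 156, 157, 159, 162, 165, 166, 167, 169, 178, 179, 181, 184, 185, 186, 200, 204, 205, 207, 219, 226] ++ strRoots [(141, 142), (148, 152), (149, 153), (150, 154), (163, 164), (170, 174), (171, 175), (172, 176), (188, 194), (189, 195), (191, 197), (210, 214)]) :=
  stepOK_of_fast chainPackOK_E8 (by decide +kernel) (by decide +kernel)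

theorem e8i_st_1234567_3_4 : StepOK chevE8 (chevE8.simple 3) 141 142 ([121, 123, 124, 137, 138, 139, 143, 144, 145, 147, 156, 157, 159, 162, 165, 166, 167, 169, 178, 179, 181, 184, 185, 186, 200, 204, 205, 207, 219, 226] ++ strRoots [(148, 152), (149, 153), (150, 154), (163, 164), (170, 174), (171, 175), (172, 176), (188, 194), (189, 195), (191, 197), (210, 214)]) :=
  stepOK_of_fast chainPackOK_E8 (by decide +kernel) (by decide +kernel)

theorem e8i_st_1234567_3_5 : StepOK chevE8 (chevE8.simple 3) 148 152 ([121, 123, 124, 137, 138, 139, 143, 144, 145, 147, 156, 157, 159, 162, 165, 166, 167, 169, 178, 179, 181, 184, 185, 186, 200, 204, 205, 207, 219, 226] ++ strRoots [(149, 153), (150, 154), (163, 164), (170, 174), (171, 175), (172, 176), (188, 194), (189, 195), (191, 197), (210, 214)]) :=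
  stepOK_of_fast chainPackOK_E8 (by decide +kernel) (by decide +kernel)

theorem e8i_st_1234567_3_6 : StepOK chevE8 (chevE8.simple 3) 149 153 ([121, 123, 124, 137, 138, 139, 143, 144, 145, 147, 156, 157, 159, 162, 165, 166, 167, 169, 178, 179, 181, 184, 185, 186, 200, 204, 205, 207, 219, 226] ++ strRoots [(150, 154), (163, 164), (170, 174), (171, 175), (172, 176), (188, 194), (189, 195), (191, 197), (210, 214)]) :=
  stepOK_of_fast chainPackOK_E8 (by decide +kernel) (by decide +kernel)

theorem e8i_st_1234567_3_7 : StepOK chevE8 (chevE8.simple 3) 150 154 ([121, 123, 124, 137, 138, 139, 143, 144, 145, 147, 156, 157, 159, 162, 165, 166, 167, 169, 178, 179, 181, 184, 185, 186, 200, 204, 205, 207, 219, 226] ++ strRoots [(163, 164), (170, 174), (171, 175), (172, 176), (188, 194), (189, 195), (191, 197), (210, 214)]) :=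
  stepOK_of_fast chainPackOK_E8 (by decide +kernel) (by decide +kernel)

theorem e8i_st_1234567_3_8 : StepOK chevE8 (chevE8.simple 3) 163 164 ([121, 123, 124, 137, 138, 139, 143, 144, 145, 147, 156, 157, 159, 162, 165, 166, 167, 169, 178, 179, 181, 184, 185, 186, 200, 204, 205, 207, 219, 226] ++ strRoots [(170, 174), (171, 175), (172, 176), (188, 194), (189, 195), (191, 197), (210, 214)]) :=
  stepOK_of_fast chainPackOK_E8 (by decide +kernel) (by decide +kernel)

theorem e8i_st_1234567_3_9 : StepOK chevE8 (chevE8.simple 3) 170 174 ([121, 123, 124, 137, 138, 139, 143, 144, 145, 147, 156, 157, 159, 162, 165, 166, 167, 169, 178, 179, 181, 184, 185, 186, 200, 204, 205, 207, 219, 226] ++ strRoots [(171, 175), (172, 176), (188, 194), (189, 195), (191, 197), (210, 214)]) :=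
  stepOK_of_fast chainPackOK_E8 (by decide +kernel) (by decide +kernel)

theorem e8i_st_1234567_3_10 : StepOK chevE8 (chevE8.simple 3) 171 175 ([121, 123, 124, 137, 138, 139, 143, 144, 145, 147, 156, 157, 159, 162, 165, 166, 167, 169, 178, 179, 181, 184, 185, 186, 200, 204, 205, 207, 219, 226] ++ strRoots [(172, 176), (188, 194), (189, 195), (191, 197), (210, 214)]) :=
  stepOK_of_fast chainPackOK_E8 (by decide +kernel) (by decide +kernel)

theorem e8i_st_1234567_3_11 : StepOK chevE8 (chevE8.simple 3) 172 176 ([121, 123, 124, 137, 138, 139, 143, 144, 145, 147, 156, 157, 159, 162, 165, 166, 167, 169, 178, 179, 181, 184, 185, 186, 200, 204, 205, 207, 219, 226] ++ strRoots [(188, 194), (189, 195), (191, 197), (210, 214)]) :=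
  stepOK_of_fast chainPackOK_E8 (by decide +kernel) (by decide +kernel)

theorem e8i_st_1234567_3_12 : StepOK chevE8 (chevE8.simple 3) 188 194 ([121, 123, 124, 137, 138, 139, 143, 144, 145, 147, 156, 157, 159, 162, 165, 166, 167, 169, 178, 179, 181, 184, 185, 186, 200, 204, 205, 207, 219, 226] ++ strRoots [(189, 195), (191, 197), (210, 214)]) :=
  stepOK_of_fast chainPackOK_E8 (by decide +kernel) (by decide +kernel)

theorem e8i_st_1234567_3_13 : StepOK chevE8 (chevE8.simple 3) 189 195 ([121, 123, 124, 137, 138, 139, 143, 144, 145, 147, 156, 157, 159, 162, 165, 166, 167, 169, 178, 179, 181, 184, 185, 186, 200, 204, 205, 207, 219, 226] ++ strRoots [(191, 197), (210, 214)]) :=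
  stepOK_of_fast chainPackOK_E8 (by decide +kernel) (by decide +kernel)

theorem e8i_st_1234567_3_14 : StepOK chevE8 (chevE8.simple 3) 191 197 ([121, 123, 124, 137, 138, 139, 143, 144, 145, 147, 156, 157, 159, 162, 165, 166, 167, 169, 178, 179, 181, 184, 185, 186, 200, 204, 205, 207, 219, 226] ++ strRoots [(210, 214)]) :=
  stepOK_of_fast chainPackOK_E8 (by decide +kernel) (by decide +kernel)

theorem e8i_st_1234567_3_15 : StepOK chevE8 (chevE8.simple 3) 210 214 ([121, 123, 124, 137, 138, 139, 143, 144, 145, 147, 156, 157, 159, 162, 165, 166, 167, 169, 178, 179, 181, 184, 185, 186, 200, 204, 205, 207, 219, 226] ++ strRoots []) :=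
  stepOK_of_fast chainPackOK_E8 (by decide +kernel) (by decide +kernel)

theorem e8i_st_1234567_4_0 : StepOK chevE8 (chevE8.simple 4) 123 127 ([121, 132, 133, 135, 138, 139, 141, 144, 145, 149, 150, 152, 159, 162, 163, 166, 167, 171, 172, 174, 181, 184, 191, 194, 195, 204, 205, 214, 219, 226] ++ strRoots [(124, 128), (130, 131), (136, 137), (142, 143), (147, 148), (153, 156), (154, 157), (164, 165), (169, 170), (175, 178), (176, 179), (185, 188), (186, 189), (197, 200), (207, 210)]) :=
  stepOK_of_fast chainPackOK_E8 (by decide +kernel) (by decide +kernel)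

theorem e8i_st_1234567_4_1 : StepOK chevE8 (chevE8.simple 4) 124 128 ([121, 132, 133, 135, 138, 139, 141, 144, 145, 149, 150, 152, 159, 162, 163, 166, 167, 171, 172, 174, 181, 184, 191, 194, 195, 204, 205, 214, 219, 226] ++ strRoots [(130, 131), (136, 137), (142, 143), (147, 148), (153, 156), (154, 157), (164, 165), (169, 170), (175, 178), (176, 179), (185, 188), (186, 189), (197, 200), (207, 210)]) :=
  stepOK_of_fast chainPackOK_E8 (by decide +kernel) (by decide +kernel)

theorem e8i_st_1234567_4_2 : StepOK chevE8 (chevE8.simple 4) 130 131 ([121, 132, 133, 135, 138, 139, 141, 144, 145, 149, 150, 152, 159, 162, 163, 166, 167, 171, 172, 174, 181, 184, 191, 194, 195, 204, 205, 214, 219, 226] ++ strRoots [(136, 137), (142, 143), (147, 148), (153, 156), (154, 157), (164, 165), (169, 170), (175, 178), (176, 179), (185, 188), (186, 189), (197, 200), (207, 210)]) :=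
  stepOK_of_fast chainPackOK_E8 (by decide +kernel) (by decide +kernel)

theorem e8i_st_1234567_4_3 : StepOK chevE8 (chevE8.simple 4) 136 137 ([121, 132, 133, 135, 138, 139, 141, 144, 145, 149, 150, 152, 159, 162, 163, 166, 167, 171, 172, 174, 181, 184, 191, 194, 195, 204, 205, 214, 219, 226] ++ strRoots [(142, 143), (147, 148), (153, 156), (154, 157), (164, 165), (169, 170), (175, 178), (176, 179), (185, 188), (186, 189), (197, 200), (207, 210)]) :=
  stepOK_of_fast chainPackOK_E8 (by decide +kernel) (by decide +kernel)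

theorem e8i_st_1234567_4_4 : StepOK chevE8 (chevE8.simple 4) 142 143 ([121, 132, 133, 135, 138, 139, 141, 144, 145, 149, 150, 152, 159, 162, 163, 166, 167, 171, 172, 174, 181, 184, 191, 194, 195, 204, 205, 214, 219, 226] ++ strRoots [(147, 148), (153, 156), (154, 157), (164, 165), (169, 170), (175, 178), (176, 179), (185, 188), (186, 189), (197, 200), (207, 210)]) :=
  stepOK_of_fast chainPackOK_E8 (by decide +kernel) (by decide +kernel)

theorem e8i_st_1234567_4_5 : StepOK chevE8 (chevE8.simple 4) 147 148 ([121, 132, 133, 135, 138, 139, 141, 144, 145, 149, 150, 152, 159, 162, 163, 166, 167, 171, 172, 174, 181, 184, 191, 194, 195, 204, 205, 214, 219, 226] ++ strRoots [(153, 156), (154, 157), (164, 165), (169, 170), (175, 178), (176, 179), (185, 188), (186, 189), (197, 200), (207, 210)]) :=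
  stepOK_of_fast chainPackOK_E8 (by decide +kernel) (by decide +kernel)

theorem e8i_st_1234567_4_6 : StepOK chevE8 (chevE8.simple 4) 153 156 ([121, 132, 133, 135, 138, 139, 141, 144, 145, 149, 150, 152, 159, 162, 163, 166, 167, 171, 172, 174, 181, 184, 191, 194, 195, 204, 205, 214, 219, 226] ++ strRoots [(154, 157), (164, 165), (169, 170), (175, 178), (176, 179), (185, 188), (186, 189), (197, 200), (207, 210)]) :=
  stepOK_of_fast chainPackOK_E8 (by decide +kernel) (by decide +kernel)

end Cfsg.Agent.Helper81
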