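/-
helper81: involutions of the Chevalley group of type E8 in characteristic two - the string checks of the Levi recursion, part 1
(generated by tools/calls/e7scripts/xgen.py; the tables are checked by the kernel, one string at a time).
-/
import Cfsg.Agent.Helper81.E8IDefs
import Cfsg.Agent.Helper81.ChFast

set_option autoImplicit false
set_option linter.unusedSectionVars false
set_option linter.unusedVariables false
set_option maxRecDepth 100000

namespace Cfsg.Agent.Helper81

open Cfsg Cfsg.Lie Cfsg.Agent.Helper36 Cfsg.Agent.Helper17 Cfsg.Agent.Helper18 Cfsg.Agent.Helper18.RSub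
  Cfsg.Agent.Helper38

theorem e8i_st_1234567_4_7 : StepOK chevE8 (chevE8.simple 4) 154 157 ([121, 132, 133, 135, 138, 139, 141, 144, 145, 149, 150, 152, 159, 162, 163, 166, 167, 171, 172, 174, 181, 184, 191, 194, 195, 204, 205, 214, 219, 226] ++ strRoots [(164, 165), (169, 170), (175, 178), (176, 179), (185, 188), (186, 189), (197, 200), (207, 210)]) :=
  stepOK_of_fast chainPackOK_E8 (by decide +kernel) (by decide +kernel)

theorem e8i_st_1234567_4_8 : StepOK chevE8 (chevE8.simple 4) 164 165 ([121, 132, 133, 135, 138, 139, 141, 144, 145, 149, 150, 152, 159, 162, 163, 166, 167, 171, 172, 174, 181, 184, 191, 194, 195, 204, 205, 214, 219, 226] ++ strRoots [(169, 170), (175, 178), (176, 179), (185, 188), (186, 189), (197, 200), (207, 210)]) :=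
  stepOK_of_fast chainPackOK_E8 (by decide +kernel) (by decide +kernel)

theorem e8i_st_1234567_4_9 : StepOK chevE8 (chevE8.simple 4) 169 170 ([121, 132, 133, 135, 138, 139, 141, 144, 145, 149, 150, 152, 159, 162, 163, 166, 167, 171, 172, 174, 181, 184, 191, 194, 195, 204, 205, 214, 219, 226] ++ strRoots [(175, 178), (176, 179), (185, 188), (186, 189), (197, 200), (207, 210)]) :=
  stepOK_of_fast chainPackOK_E8 (by decide +kernel) (by decide +kernel)

theorem e8i_st_1234567_4_10 : StepOK chevE8 (chevE8.simple 4) 175 178 ([121, 132, 133, 135, 138, 139, 141, 144, 145, 149, 150, 152, 159, 162, 163, 166, 167, 171, 172, 174, 181, 184, 191, 194, 195, 204, 205, 214, 219, 226] ++ strRoots [(176, 179), (185, 188), (186, 189), (197, 200), (207, 210)]) :=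
  stepOK_of_fast chainPackOK_E8 (by decide +kernel) (by decide +kernel)

theorem e8i_st_1234567_4_11 : StepOK chevE8 (chevE8.simple 4) 176 179 ([121, 132, 133, 135, 138, 139, 141, 144, 145, 149, 150, 152, 159, 162, 163, 166, 167, 171, 172, 174, 181, 184, 191, 194, 195, 204, 205, 214, 219, 226] ++ strRoots [(185, 188), (186, 189), (197, 200), (207, 210)]) :=
  stepOK_of_fast chainPackOK_E8 (by decide +kernel) (by decide +kernel)

theorem e8i_st_1234567_4_12 : StepOK chevE8 (chevE8.simple 4) 185 188 ([121, 132, 133, 135, 138, 139, 141, 144, 145, 149, 150, 152, 159, 162, 163, 166, 167, 171, 172, 174, 181, 184, 191, 194, 195, 204, 205, 214, 219, 226] ++ strRoots [(186, 189), (197, 200), (207, 210)]) :=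
  stepOK_of_fast chainPackOK_E8 (by decide +kernel) (by decide +kernel)

theorem e8i_st_1234567_4_13 : StepOK chevE8 (chevE8.simple 4) 186 189 ([121, 132, 133, 135, 138, 139, 141, 144, 145, 149, 150, 152, 159, 162, 163, 166, 167, 171, 172, 174, 181, 184, 191, 194, 195, 204, 205, 214, 219, 226] ++ strRoots [(197, 200), (207, 210)]) :=
  stepOK_of_fast chainPackOK_E8 (by decide +kernel) (by decide +kernel)

theorem e8i_st_1234567_4_14 : StepOK chevE8 (chevE8.simple 4) 197 200 ([121, 132, 133, 135, 138, 139, 141, 144, 145, 149, 150, 152, 159, 162, 163, 166, 167, 171, 172, 174, 181, 184, 191, 194, 195, 204, 205, 214, 219, 226] ++ strRoots [(207, 210)]) :=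
  stepOK_of_fast chainPackOK_E8 (by decide +kernel) (by decide +kernel)

theorem e8i_st_1234567_4_15 : StepOK chevE8 (chevE8.simple 4) 207 210 ([121, 132, 133, 135, 138, 139, 141, 144, 145, 149, 150, 152, 159, 162, 163, 166, 167, 171, 172, 174, 181, 184, 191, 194, 195, 204, 205, 214, 219, 226] ++ strRoots []) :=
  stepOK_of_fast chainPackOK_E8 (by decide +kernel) (by decide +kernel)

theorem e8i_st_1234567_5_0 : StepOK chevE8 (chevE8.simple 5) 121 124 ([128, 130, 133, 135, 136, 139, 141, 142, 145, 147, 150, 154, 156, 162, 163, 164, 167, 169, 172, 176, 178, 186, 188, 194, 200, 204, 210, 214, 219, 226] ++ strRoots [(126, 127), (131, 132), (137, 138), (143, 144), (148, 149), (152, 153), (157, 159), (165, 166), (170, 171), (174, 175), (179, 181), (184, 185), (189, 191), (195, 197), (205, 207)]) :=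
  stepOK_of_fast chainPackOK_E8 (by decide +kernel) (by decide +kernel)

theorem e8i_st_1234567_5_1 : StepOK chevE8 (chevE8.simple 5) 126 127 ([128, 130, 133, 135, 136, 139, 141, 142, 145, 147, 150, 154, 156, 162, 163, 164, 167, 169, 172, 176, 178, 186, 188, 194, 200, 204, 210, 214, 219, 226] ++ strRoots [(131, 132), (137, 138), (143, 144), (148, 149), (152, 153), (157, 159), (165, 166), (170, 171), (174, 175), (179, 181), (184, 185), (189, 191), (195, 197), (205, 207)]) :=
  stepOK_of_fast chainPackOK_E8 (by decide +kernel) (by decide +kernel)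

theorem e8i_st_1234567_5_2 : StepOK chevE8 (chevE8.simple 5) 131 132 ([128, 130, 133, 135, 136, 139, 141, 142, 145, 147, 150, 154, 156, 162, 163, 164, 167, 169, 172, 176, 178, 186, 188, 194, 200, 204, 210, 214, 219, 226] ++ strRoots [(137, 138), (143, 144), (148, 149), (152, 153), (157, 159), (165, 166), (170, 171), (174, 175), (179, 181), (184, 185), (189, 191), (195, 197), (205, 207)]) :=
  stepOK_of_fast chainPackOK_E8 (by decide +kernel) (by decide +kernel)

theorem e8i_st_1234567_5_3 : StepOK chevE8 (chevE8.simple 5) 137 138 ([128, 130, 133, 135, 136, 139, 141, 142, 145, 147, 150, 154, 156, 162, 163, 164, 167, 169, 172, 176, 178, 186, 188, 194, 200, 204, 210, 214, 219, 226] ++ strRoots [(143, 144), (148, 149), (152, 153), (157, 159), (165, 166), (170, 171), (174, 175), (179, 181), (184, 185), (189, 191), (195, 197), (205, 207)]) :=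
  stepOK_of_fast chainPackOK_E8 (by decide +kernel) (by decide +kernel)

theorem e8i_st_1234567_5_4 : StepOK chevE8 (chevE8.simple 5) 143 144 ([128, 130, 133, 135, 136, 139, 141, 142, 145, 147, 150, 154, 156, 162, 163, 164, 167, 169, 172, 176, 178, 186, 188, 194, 200, 204, 210, 214, 219, 226] ++ strRoots [(148, 149), (152, 153), (157, 159), (165, 166), (170, 171), (174, 175), (179, 181), (184, 185), (189, 191), (195, 197), (205, 207)]) :=
  stepOK_of_fast chainPackOK_E8 (by decide +kernel) (by decide +kernel)

theorem e8i_st_1234567_5_5 : StepOK chevE8 (chevE8.simple 5) 148 149 ([128, 130, 133, 135, 136, 139, 141, 142, 145, 147, 150, 154, 156, 162, 163, 164, 167, 169, 172, 176, 178, 186, 188, 194, 200, 204, 210, 214, 219, 226] ++ strRoots [(152, 153), (157, 159), (165, 166), (170, 171), (174, 175), (179, 181), (184, 185), (189, 191), (195, 197), (205, 207)]) :=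
  stepOK_of_fast chainPackOK_E8 (by decide +kernel) (by decide +kernel)

theorem e8i_st_1234567_5_6 : StepOK chevE8 (chevE8.simple 5) 152 153 ([128, 130, 133, 135, 136, 139, 141, 142, 145, 147, 150, 154, 156, 162, 163, 164, 167, 169, 172, 176, 178, 186, 188, 194, 200, 204, 210, 214, 219, 226] ++ strRoots [(157, 159), (165, 166), (170, 171), (174, 175), (179, 181), (184, 185), (189, 191), (195, 197), (205, 207)]) :=
  stepOK_of_fast chainPackOK_E8 (by decide +kernel) (by decide +kernel)

theorem e8i_st_1234567_5_7 : StepOK chevE8 (chevE8.simple 5) 157 159 ([128, 130, 133, 135, 136, 139, 141, 142, 145, 147, 150, 154, 156, 162, 163, 164, 167, 169, 172, 176, 178, 186, 188, 194, 200, 204, 210, 214, 219, 226] ++ strRoots [(165, 166), (170, 171), (174, 175), (179, 181), (184, 185), (189, 191), (195, 197), (205, 207)]) :=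
  stepOK_of_fast chainPackOK_E8 (by decide +kernel) (by decide +kernel)

theorem e8i_st_1234567_5_8 : StepOK chevE8 (chevE8.simple 5) 165 166 ([128, 130, 133, 135, 136, 139, 141, 142, 145, 147, 150, 154, 156, 162, 163, 164, 167, 169, 172, 176, 178, 186, 188, 194, 200, 204, 210, 214, 219, 226] ++ strRoots [(170, 171), (174, 175), (179, 181), (184, 185), (189, 191), (195, 197), (205, 207)]) :=
  stepOK_of_fast chainPackOK_E8 (by decide +kernel) (by decide +kernel)

theorem e8i_st_1234567_5_9 : StepOK chevE8 (chevE8.simple 5) 170 171 ([128, 130, 133, 135, 136, 139, 141, 142, 145, 147, 150, 154, 156, 162, 163, 164, 167, 169, 172, 176, 178, 186, 188, 194, 200, 204, 210, 214, 219, 226] ++ strRoots [(174, 175), (179, 181), (184, 185), (189, 191), (195, 197), (205, 207)]) :=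
  stepOK_of_fast chainPackOK_E8 (by decide +kernel) (by decide +kernel)

theorem e8i_st_1234567_5_10 : StepOK chevE8 (chevE8.simple 5) 174 175 ([128, 130, 133, 135, 136, 139, 141, 142, 145, 147, 150, 154, 156, 162, 163, 164, 167, 169, 172, 176, 178, 186, 188, 194, 200, 204, 210, 214, 219, 226] ++ strRoots [(179, 181), (184, 185), (189, 191), (195, 197), (205, 207)]) :=
  stepOK_of_fast chainPackOK_E8 (by decide +kernel) (by decide +kernel)

theorem e8i_st_1234567_5_11 : StepOK chevE8 (chevE8.simple 5) 179 181 ([128, 130, 133, 135, 136, 139, 141, 142, 145, 147, 150, 154, 156, 162, 163, 164, 167, 169, 172, 176, 178, 186, 188, 194, 200, 204, 210, 214, 219, 226] ++ strRoots [(184, 185), (189, 191), (195, 197), (205, 207)]) :=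
  stepOK_of_fast chainPackOK_E8 (by decide +kernel) (by decide +kernel)

theorem e8i_st_1234567_5_12 : StepOK chevE8 (chevE8.simple 5) 184 185 ([128, 130, 133, 135, 136, 139, 141, 142, 145, 147, 150, 154, 156, 162, 163, 164, 167, 169, 172, 176, 178, 186, 188, 194, 200, 204, 210, 214, 219, 226] ++ strRoots [(189, 191), (195, 197), (205, 207)]) :=
  stepOK_of_fast chainPackOK_E8 (by decide +kernel) (by decide +kernel)

theorem e8i_st_1234567_5_13 : StepOK chevE8 (chevE8.simple 5) 189 191 ([128, 130, 133, 135, 136, 139, 141, 142, 145, 147, 150, 154, 156, 162, 163, 164, 167, 169, 172, 176, 178, 186, 188, 194, 200, 204, 210, 214, 219, 226] ++ strRoots [(195, 197), (205, 207)]) :=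
  stepOK_of_fast chainPackOK_E8 (by decide +kernel) (by decide +kernel)

theorem e8i_st_1234567_5_14 : StepOK chevE8 (chevE8.simple 5) 195 197 ([128, 130, 133, 135, 136, 139, 141, 142, 145, 147, 150, 154, 156, 162, 163, 164, 167, 169, 172, 176, 178, 186, 188, 194, 200, 204, 210, 214, 219, 226] ++ strRoots [(205, 207)]) :=
  stepOK_of_fast chainPackOK_E8 (by decide +kernel) (by decide +kernel)

theorem e8i_st_1234567_5_15 : StepOK chevE8 (chevE8.simple 5) 205 207 ([128, 130, 133, 135, 136, 139, 141, 142, 145, 147, 150, 154, 156, 162, 163, 164, 167, 169, 172, 176, 178, 186, 188, 194, 200, 204, 210, 214, 219, 226] ++ strRoots []) :=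
  stepOK_of_fast chainPackOK_E8 (by decide +kernel) (by decide +kernel)

theorem e8i_st_1234567_6_0 : StepOK chevE8 (chevE8.simple 6) 123 124 ([126, 130, 131, 135, 136, 137, 141, 142, 143, 147, 148, 152, 159, 162, 163, 164, 165, 169, 170, 174, 181, 184, 191, 197, 200, 207, 210, 214, 219, 226] ++ strRoots [(127, 128), (132, 133), (138, 139), (144, 145), (149, 150), (153, 154), (156, 157), (166, 167), (171, 172), (175, 176), (178, 179), (185, 186), (188, 189), (194, 195), (204, 205)]) :=
  stepOK_of_fast chainPackOK_E8 (by decide +kernel) (by decide +kernel)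

theorem e8i_st_1234567_6_1 : StepOK chevE8 (chevE8.simple 6) 127 128 ([126, 130, 131, 135, 136, 137, 141, 142, 143, 147, 148, 152, 159, 162, 163, 164, 165, 169, 170, 174, 181, 184, 191, 197, 200, 207, 210, 214, 219, 226] ++ strRoots [(132, 133), (138, 139), (144, 145), (149, 150), (153, 154), (156, 157), (166, 167), (171, 172), (175, 176), (178, 179), (185, 186), (188, 189), (194, 195), (204, 205)]) :=
  stepOK_of_fast chainPackOK_E8 (by decide +kernel) (by decide +kernel)

theorem e8i_st_1234567_6_2 : StepOK chevE8 (chevE8.simple 6) 132 133 ([126, 130, 131, 135, 136, 137, 141, 142, 143, 147, 148, 152, 159, 162, 163, 164, 165, 169, 170, 174, 181, 184, 191, 197, 200, 207, 210, 214, 219, 226] ++ strRoots [(138, 139), (144, 145), (149, 150), (153, 154), (156, 157), (166, 167), (171, 172), (175, 176), (178, 179), (185, 186), (188, 189), (194, 195), (204, 205)]) :=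
  stepOK_of_fast chainPackOK_E8 (by decide +kernel) (by decide +kernel)

theorem e8i_st_1234567_6_3 : StepOK chevE8 (chevE8.simple 6) 138 139 ([126, 130, 131, 135, 136, 137, 141, 142, 143, 147, 148, 152, 159, 162, 163, 164, 165, 169, 170, 174, 181, 184, 191, 197, 200, 207, 210, 214, 219, 226] ++ strRoots [(144, 145), (149, 150), (153, 154), (156, 157), (166, 167), (171, 172), (175, 176), (178, 179), (185, 186), (188, 189), (194, 195), (204, 205)]) :=
  stepOK_of_fast chainPackOK_E8 (by decide +kernel) (by decide +kernel)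

theorem e8i_st_1234567_6_4 : StepOK chevE8 (chevE8.simple 6) 144 145 ([126, 130, 131, 135, 136, 137, 141, 142, 143, 147, 148, 152, 159, 162, 163, 164, 165, 169, 170, 174, 181, 184, 191, 197, 200, 207, 210, 214, 219, 226] ++ strRoots [(149, 150), (153, 154), (156, 157), (166, 167), (171, 172), (175, 176), (178, 179), (185, 186), (188, 189), (194, 195), (204, 205)]) :=
  stepOK_of_fast chainPackOK_E8 (by decide +kernel) (by decide +kernel)

theorem e8i_st_1234567_6_5 : StepOK chevE8 (chevE8.simple 6) 149 150 ([126, 130, 131, 135, 136, 137, 141, 142, 143, 147, 148, 152, 159, 162, 163, 164, 165, 169, 170, 174, 181, 184, 191, 197, 200, 207, 210, 214, 219, 226] ++ strRoots [(153, 154), (156, 157), (166, 167), (171, 172), (175, 176), (178, 179), (185, 186), (188, 189), (194, 195), (204, 205)]) :=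
  stepOK_of_fast chainPackOK_E8 (by decide +kernel) (by decide +kernel)

theorem e8i_st_1234567_6_6 : StepOK chevE8 (chevE8.simple 6) 153 154 ([126, 130, 131, 135, 136, 137, 141, 142, 143, 147, 148, 152, 159, 162, 163, 164, 165, 169, 170, 174, 181, 184, 191, 197, 200, 207, 210, 214, 219, 226] ++ strRoots [(156, 157), (166, 167), (171, 172), (175, 176), (178, 179), (185, 186), (188, 189), (194, 195), (204, 205)]) :=
  stepOK_of_fast chainPackOK_E8 (by decide +kernel) (by decide +kernel)

theorem e8i_st_1234567_6_7 : StepOK chevE8 (chevE8.simple 6) 156 157 ([126, 130, 131, 135, 136, 137, 141, 142, 143, 147, 148, 152, 159, 162, 163, 164, 165, 169, 170, 174, 181, 184, 191, 197, 200, 207, 210, 214, 219, 226] ++ strRoots [(166, 167), (171, 172), (175, 176), (178, 179), (185, 186), (188, 189), (194, 195), (204, 205)]) :=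
  stepOK_of_fast chainPackOK_E8 (by decide +kernel) (by decide +kernel)

theorem e8i_st_1234567_6_8 : StepOK chevE8 (chevE8.simple 6) 166 167 ([126, 130, 131, 135, 136, 137, 141, 142, 143, 147, 148, 152, 159, 162, 163, 164, 165, 169, 170, 174, 181, 184, 191, 197, 200, 207, 210, 214, 219, 226] ++ strRoots [(171, 172), (175, 176), (178, 179), (185, 186), (188, 189), (194, 195), (204, 205)]) :=
  stepOK_of_fast chainPackOK_E8 (by decide +kernel) (by decide +kernel)

theorem e8i_st_1234567_6_9 : StepOK chevE8 (chevE8.simple 6) 171 172 ([126, 130, 131, 135, 136, 137, 141, 142, 143, 147, 148, 152, 159, 162, 163, 164, 165, 169, 170, 174, 181, 184, 191, 197, 200, 207, 210, 214, 219, 226] ++ strRoots [(175, 176), (178, 179), (185, 186), (188, 189), (194, 195), (204, 205)]) :=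
  stepOK_of_fast chainPackOK_E8 (by decide +kernel) (by decide +kernel)

theorem e8i_st_1234567_6_10 : StepOK chevE8 (chevE8.simple 6) 175 176 ([126, 130, 131, 135, 136, 137, 141, 142, 143, 147, 148, 152, 159, 162, 163, 164, 165, 169, 170, 174, 181, 184, 191, 197, 200, 207, 210, 214, 219, 226] ++ strRoots [(178, 179), (185, 186), (188, 189), (194, 195), (204, 205)]) :=
  stepOK_of_fast chainPackOK_E8 (by decide +kernel) (by decide +kernel)

theorem e8i_st_1234567_6_11 : StepOK chevE8 (chevE8.simple 6) 178 179 ([126, 130, 131, 135, 136, 137, 141, 142, 143, 147, 148, 152, 159, 162, 163, 164, 165, 169, 170, 174, 181, 184, 191, 197, 200, 207, 210, 214, 219, 226] ++ strRoots [(185, 186), (188, 189), (194, 195), (204, 205)]) :=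
  stepOK_of_fast chainPackOK_E8 (by decide +kernel) (by decide +kernel)

theorem e8i_st_1234567_6_12 : StepOK chevE8 (chevE8.simple 6) 185 186 ([126, 130, 131, 135, 136, 137, 141, 142, 143, 147, 148, 152, 159, 162, 163, 164, 165, 169, 170, 174, 181, 184, 191, 197, 200, 207, 210, 214, 219, 226] ++ strRoots [(188, 189), (194, 195), (204, 205)]) :=
  stepOK_of_fast chainPackOK_E8 (by decide +kernel) (by decide +kernel)

theorem e8i_st_1234567_6_13 : StepOK chevE8 (chevE8.simple 6) 188 189 ([126, 130, 131, 135, 136, 137, 141, 142, 143, 147, 148, 152, 159, 162, 163, 164, 165, 169, 170, 174, 181, 184, 191, 197, 200, 207, 210, 214, 219, 226] ++ strRoots [(194, 195), (204, 205)]) :=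
  stepOK_of_fast chainPackOK_E8 (by decide +kernel) (by decide +kernel)

theorem e8i_st_1234567_6_14 : StepOK chevE8 (chevE8.simple 6) 194 195 ([126, 130, 131, 135, 136, 137, 141, 142, 143, 147, 148, 152, 159, 162, 163, 164, 165, 169, 170, 174, 181, 184, 191, 197, 200, 207, 210, 214, 219, 226] ++ strRoots [(204, 205)]) :=
  stepOK_of_fast chainPackOK_E8 (by decide +kernel) (by decide +kernel)

theorem e8i_st_1234567_6_15 : StepOK chevE8 (chevE8.simple 6) 204 205 ([126, 130, 131, 135, 136, 137, 141, 142, 143, 147, 148, 152, 159, 162, 163, 164, 165, 169, 170, 174, 181, 184, 191, 197, 200, 207, 210, 214, 219, 226] ++ strRoots []) :=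
  stepOK_of_fast chainPackOK_E8 (by decide +kernel) (by decide +kernel)

theorem e8i_st_12345678_0_0 : StepOK chevE8 (chevE8.simple 0) 135 163 ([120, 121, 122, 123, 124, 125, 126, 127, 128, 129, 130, 131, 132, 133, 134, 141, 142, 143, 144, 145, 146, 184, 185, 186, 187, 188, 189, 190, 191, 192, 193, 194, 195, 196, 197, 198, 199, 200, 201, 202, 203, 204, 205, 206, 207, 208, 209, 210, 211, 212, 213, 214, 215, 216, 217, 218, 232, 234, 235, 236, 237, 238, 239] ++ strRoots [(136, 164), (137, 165), (138, 166), (139, 167), (140, 168), (147, 169), (148, 170), (149, 171), (150, 172), (151, 173), (152, 174), (153, 175), (154, 176), (155, 177), (156, 178), (157, 179), (158, 180), (159, 181), (160, 182), (161, 183), (219, 226), (220, 227), (221, 228), (222, 229), (223, 230), (224, 231), (225, 233)]) :=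
  stepOK_of_fast chainPackOK_E8 (by decide +kernel) (by decide +kernel)

theorem e8i_st_12345678_0_1 : StepOK chevE8 (chevE8.simple 0) 136 164 ([120, 121, 122, 123, 124, 125, 126, 127, 128, 129, 130, 131, 132, 133, 134, 141, 142, 143, 144, 145, 146, 184, 185, 186, 187, 188, 189, 190, 191, 192, 193, 194, 195, 196, 197, 198, 199, 200, 201, 202, 203, 204, 205, 206, 207, 208, 209, 210, 211, 212, 213, 214, 215, 216, 217, 218, 232, 234, 235, 236, 237, 238, 239] ++ strRoots [(137, 165), (138, 166), (139, 167), (140, 168), (147, 169), (148, 170), (149, 171), (150, 172), (151, 173), (152, 174), (153, 175), (154, 176), (155, 177), (156, 178), (157, 179), (158, 180), (159, 181), (160, 182), (161, 183), (219, 226), (220, 227), (221, 228), (222, 229), (223, 230), (224, 231), (225, 233)]) :=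
  stepOK_of_fast chainPackOK_E8 (by decide +kernel) (by decide +kernel)

theorem e8i_st_12345678_0_2 : StepOK chevE8 (chevE8.simple 0) 137 165 ([120, 121, 122, 123, 124, 125, 126, 127, 128, 129, 130, 131, 132, 133, 134, 141, 142, 143, 144, 145, 146, 184, 185, 186, 187, 188, 189, 190, 191, 192, 193, 194, 195, 196, 197, 198, 199, 200, 201, 202, 203, 204, 205, 206, 207, 208, 209, 210, 211, 212, 213, 214, 215, 216, 217, 218, 232, 234, 235, 236, 237, 238, 239] ++ strRoots [(138, 166), (139, 167), (140, 168), (147, 169), (148, 170), (149, 171), (150, 172), (151, 173), (152, 174), (153, 175), (154, 176), (155, 177), (156, 178), (157, 179), (158, 180), (159, 181), (160, 182), (161, 183), (219, 226), (220, 227), (221, 228), (222, 229), (223, 230), (224, 231), (225, 233)]) :=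
  stepOK_of_fast chainPackOK_E8 (by decide +kernel) (by decide +kernel)

theorem e8i_st_12345678_0_3 : StepOK chevE8 (chevE8.simple 0) 138 166 ([120, 121, 122, 123, 124, 125, 126, 127, 128, 129, 130, 131, 132, 133, 134, 141, 142, 143, 144, 145, 146, 184, 185, 186, 187, 188, 189, 190, 191, 192, 193, 194, 195, 196, 197, 198, 199, 200, 201, 202, 203, 204, 205, 206, 207, 208, 209, 210, 211, 212, 213, 214, 215, 216, 217, 218, 232, 234, 235, 236, 237, 238, 239] ++ strRoots [(139, 167), (140, 168), (147, 169), (148, 170), (149, 171), (150, 172), (151, 173), (152, 174), (153, 175), (154, 176), (155, 177), (156, 178), (157, 179), (158, 180), (159, 181), (160, 182), (161, 183), (219, 226), (220, 227), (221, 228), (222, 229), (223, 230), (224, 231), (225, 233)]) :=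
  stepOK_of_fast chainPackOK_E8 (by decide +kernel) (by decide +kernel)

theorem e8i_st_12345678_0_4 : StepOK chevE8 (chevE8.simple 0) 139 167 ([120, 121, 122, 123, 124, 125, 126, 127, 128, 129, 130, 131, 132, 133, 134, 141, 142, 143, 144, 145, 146, 184, 185, 186, 187, 188, 189, 190, 191, 192, 193, 194, 195, 196, 197, 198, 199, 200, 201, 202, 203, 204, 205, 206, 207, 208, 209, 210, 211, 212, 213, 214, 215, 216, 217, 218, 232, 234, 235, 236, 237, 238, 239] ++ strRoots [(140, 168), (147, 169), (148, 170), (149, 171), (150, 172), (151, 173), (152, 174), (153, 175), (154, 176), (155, 177), (156, 178), (157, 179), (158, 180), (159, 181), (160, 182), (161, 183), (219, 226), (220, 227), (221, 228), (222, 229), (223, 230), (224, 231), (225, 233)]) :=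
  stepOK_of_fast chainPackOK_E8 (by decide +kernel) (by decide +kernel)

theorem e8i_st_12345678_0_5 : StepOK chevE8 (chevE8.simple 0) 140 168 ([120, 121, 122, 123, 124, 125, 126, 127, 128, 129, 130, 131, 132, 133, 134, 141, 142, 143, 144, 145, 146, 184, 185, 186, 187, 188, 189, 190, 191, 192, 193, 194, 195, 196, 197, 198, 199, 200, 201, 202, 203, 204, 205, 206, 207, 208, 209, 210, 211, 212, 213, 214, 215, 216, 217, 218, 232, 234, 235, 236, 237, 238, 239] ++ strRoots [(147, 169), (148, 170), (149, 171), (150, 172), (151, 173), (152, 174), (153, 175), (154, 176), (155, 177), (156, 178), (157, 179), (158, 180), (159, 181), (160, 182), (161, 183), (219, 226), (220, 227), (221, 228), (222, 229), (223, 230), (224, 231), (225, 233)]) :=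
  stepOK_of_fast chainPackOK_E8 (by decide +kernel) (by decide +kernel)

theorem e8i_st_12345678_0_6 : StepOK chevE8 (chevE8.simple 0) 147 169 ([120, 121, 122, 123, 124, 125, 126, 127, 128, 129, 130, 131, 132, 133, 134, 141, 142, 143, 144, 145, 146, 184, 185, 186, 187, 188, 189, 190, 191, 192, 193, 194, 195, 196, 197, 198, 199, 200, 201, 202, 203, 204, 205, 206, 207, 208, 209, 210, 211, 212, 213, 214, 215, 216, 217, 218, 232, 234, 235, 236, 237, 238, 239] ++ strRoots [(148, 170), (149, 171), (150, 172), (151, 173), (152, 174), (153, 175), (154, 176), (155, 177), (156, 178), (157, 179), (158, 180), (159, 181), (160, 182), (161, 183), (219, 226), (220, 227), (221, 228), (222, 229), (223, 230), (224, 231), (225, 233)]) :=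
  stepOK_of_fast chainPackOK_E8 (by decide +kernel) (by decide +kernel)

theorem e8i_st_12345678_0_7 : StepOK chevE8 (chevE8.simple 0) 148 170 ([120, 121, 122, 123, 124, 125, 126, 127, 128, 129, 130, 131, 132, 133, 134, 141, 142, 143, 144, 145, 146, 184, 185, 186, 187, 188, 189, 190, 191, 192, 193, 194, 195, 196, 197, 198, 199, 200, 201, 202, 203, 204, 205, 206, 207, 208, 209, 210, 211, 212, 213, 214, 215, 216, 217, 218, 232, 234, 235, 236, 237, 238, 239] ++ strRoots [(149, 171), (150, 172), (151, 173), (152, 174), (153, 175), (154, 176), (155, 177), (156, 178), (157, 179), (158, 180), (159, 181), (160, 182), (161, 183), (219, 226), (220, 227), (221, 228), (222, 229), (223, 230), (224, 231), (225, 233)]) :=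
  stepOK_of_fast chainPackOK_E8 (by decide +kernel) (by decide +kernel)

end Cfsg.Agent.Helper81
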