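/-
helper81: involutions of the Chevalley group of type E8 in characteristic two - the string checks of the Levi recursion, part 11
(generated by tools/calls/e7scripts/xgen.py; the tables are checked by the kernel, one string at a time).
-/
import Cfsg.Agent.Helper81.E8IDefs
import Cfsg.Agent.Helper81.ChFast

set_option autoImplicit false
set_option linter.unusedSectionVars false
set_option linter.unusedVariables false
set_option maxRecDepth 100000

namespace Cfsg.Agent.Helper81

open Cfsg Cfsg.Lie Cfsg.Agent.Helper36 Cfsg.Agent.Helper17 Cfsg.Agent.Helper18 Cfsg.Agent.Helper18.RSub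
  Cfsg.Agent.Helper38

theorem e8i_st_12345678_7_13 : StepOK chevE8 (chevE8.simple 7) 179 180 ([123, 126, 127, 130, 131, 132, 135, 136, 137, 138, 141, 142, 143, 144, 147, 148, 149, 152, 153, 156, 161, 162, 163, 164, 165, 166, 169, 170, 171, 174, 175, 178, 183, 184, 185, 188, 193, 194, 199, 202, 203, 204, 209, 212, 213, 216, 217, 218, 221, 222, 223, 224, 225, 228, 229, 230, 231, 232, 233, 234, 235, 236, 237] ++ strRoots [(181, 182), (186, 187), (189, 190), (191, 192), (195, 196), (197, 198), (200, 201), (205, 206), (207, 208), (210, 211), (214, 215), (219, 220), (226, 227), (238, 239)]) :=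
  stepOK_of_fast chainPackOK_E8 (by decide +kernel) (by decide +kernel)

theorem e8i_st_12345678_7_14 : StepOK chevE8 (chevE8.simple 7) 181 182 ([123, 126, 127, 130, 131, 132, 135, 136, 137, 138, 141, 142, 143, 144, 147, 148, 149, 152, 153, 156, 161, 162, 163, 164, 165, 166, 169, 170, 171, 174, 175, 178, 183, 184, 185, 188, 193, 194, 199, 202, 203, 204, 209, 212, 213, 216, 217, 218, 221, 222, 223, 224, 225, 228, 229, 230, 231, 232, 233, 234, 235, 236, 237] ++ strRoots [(186, 187), (189, 190), (191, 192), (195, 196), (197, 198), (200, 201), (205, 206), (207, 208), (210, 211), (214, 215), (219, 220), (226, 227), (238, 239)]) :=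
  stepOK_of_fast chainPackOK_E8 (by decide +kernel) (by decide +kernel)

theorem e8i_st_12345678_7_15 : StepOK chevE8 (chevE8.simple 7) 186 187 ([123, 126, 127, 130, 131, 132, 135, 136, 137, 138, 141, 142, 143, 144, 147, 148, 149, 152, 153, 156, 161, 162, 163, 164, 165, 166, 169, 170, 171, 174, 175, 178, 183, 184, 185, 188, 193, 194, 199, 202, 203, 204, 209, 212, 213, 216, 217, 218, 221, 222, 223, 224, 225, 228, 229, 230, 231, 232, 233, 234, 235, 236, 237] ++ strRoots [(189, 190), (191, 192), (195, 196), (197, 198), (200, 201), (205, 206), (207, 208), (210, 211), (214, 215), (219, 220), (226, 227), (238, 239)]) :=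
  stepOK_of_fast chainPackOK_E8 (by decide +kernel) (by decide +kernel)

theorem e8i_st_12345678_7_16 : StepOK chevE8 (chevE8.simple 7) 189 190 ([123, 126, 127, 130, 131, 132, 135, 136, 137, 138, 141, 142, 143, 144, 147, 148, 149, 152, 153, 156, 161, 162, 163, 164, 165, 166, 169, 170, 171, 174, 175, 178, 183, 184, 185, 188, 193, 194, 199, 202, 203, 204, 209, 212, 213, 216, 217, 218, 221, 222, 223, 224, 225, 228, 229, 230, 231, 232, 233, 234, 235, 236, 237] ++ strRoots [(191, 192), (195, 196), (197, 198), (200, 201), (205, 206), (207, 208), (210, 211), (214, 215), (219, 220), (226, 227), (238, 239)]) :=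
  stepOK_of_fast chainPackOK_E8 (by decide +kernel) (by decide +kernel)

theorem e8i_st_12345678_7_17 : StepOK chevE8 (chevE8.simple 7) 191 192 ([123, 126, 127, 130, 131, 132, 135, 136, 137, 138, 141, 142, 143, 144, 147, 148, 149, 152, 153, 156, 161, 162, 163, 164, 165, 166, 169, 170, 171, 174, 175, 178, 183, 184, 185, 188, 193, 194, 199, 202, 203, 204, 209, 212, 213, 216, 217, 218, 221, 222, 223, 224, 225, 228, 229, 230, 231, 232, 233, 234, 235, 236, 237] ++ strRoots [(195, 196), (197, 198), (200, 201), (205, 206), (207, 208), (210, 211), (214, 215), (219, 220), (226, 227), (238, 239)]) :=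
  stepOK_of_fast chainPackOK_E8 (by decide +kernel) (by decide +kernel)

theorem e8i_st_12345678_7_18 : StepOK chevE8 (chevE8.simple 7) 195 196 ([123, 126, 127, 130, 131, 132, 135, 136, 137, 138, 141, 142, 143, 144, 147, 148, 149, 152, 153, 156, 161, 162, 163, 164, 165, 166, 169, 170, 171, 174, 175, 178, 183, 184, 185, 188, 193, 194, 199, 202, 203, 204, 209, 212, 213, 216, 217, 218, 221, 222, 223, 224, 225, 228, 229, 230, 231, 232, 233, 234, 235, 236, 237] ++ strRoots [(197, 198), (200, 201), (205, 206), (207, 208), (210, 211), (214, 215), (219, 220), (226, 227), (238, 239)]) :=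
  stepOK_of_fast chainPackOK_E8 (by decide +kernel) (by decide +kernel)

theorem e8i_st_12345678_7_19 : StepOK chevE8 (chevE8.simple 7) 197 198 ([123, 126, 127, 130, 131, 132, 135, 136, 137, 138, 141, 142, 143, 144, 147, 148, 149, 152, 153, 156, 161, 162, 163, 164, 165, 166, 169, 170, 171, 174, 175, 178, 183, 184, 185, 188, 193, 194, 199, 202, 203, 204, 209, 212, 213, 216, 217, 218, 221, 222, 223, 224, 225, 228, 229, 230, 231, 232, 233, 234, 235, 236, 237] ++ strRoots [(200, 201), (205, 206), (207, 208), (210, 211), (214, 215), (219, 220), (226, 227), (238, 239)]) :=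
  stepOK_of_fast chainPackOK_E8 (by decide +kernel) (by decide +kernel)

theorem e8i_st_12345678_7_20 : StepOK chevE8 (chevE8.simple 7) 200 201 ([123, 126, 127, 130, 131, 132, 135, 136, 137, 138, 141, 142, 143, 144, 147, 148, 149, 152, 153, 156, 161, 162, 163, 164, 165, 166, 169, 170, 171, 174, 175, 178, 183, 184, 185, 188, 193, 194, 199, 202, 203, 204, 209, 212, 213, 216, 217, 218, 221, 222, 223, 224, 225, 228, 229, 230, 231, 232, 233, 234, 235, 236, 237] ++ strRoots [(205, 206), (207, 208), (210, 211), (214, 215), (219, 220), (226, 227), (238, 239)]) :=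
  stepOK_of_fast chainPackOK_E8 (by decide +kernel) (by decide +kernel)

theorem e8i_st_12345678_7_21 : StepOK chevE8 (chevE8.simple 7) 205 206 ([123, 126, 127, 130, 131, 132, 135, 136, 137, 138, 141, 142, 143, 144, 147, 148, 149, 152, 153, 156, 161, 162, 163, 164, 165, 166, 169, 170, 171, 174, 175, 178, 183, 184, 185, 188, 193, 194, 199, 202, 203, 204, 209, 212, 213, 216, 217, 218, 221, 222, 223, 224, 225, 228, 229, 230, 231, 232, 233, 234, 235, 236, 237] ++ strRoots [(207, 208), (210, 211), (214, 215), (219, 220), (226, 227), (238, 239)]) :=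
  stepOK_of_fast chainPackOK_E8 (by decide +kernel) (by decide +kernel)

theorem e8i_st_12345678_7_22 : StepOK chevE8 (chevE8.simple 7) 207 208 ([123, 126, 127, 130, 131, 132, 135, 136, 137, 138, 141, 142, 143, 144, 147, 148, 149, 152, 153, 156, 161, 162, 163, 164, 165, 166, 169, 170, 171, 174, 175, 178, 183, 184, 185, 188, 193, 194, 199, 202, 203, 204, 209, 212, 213, 216, 217, 218, 221, 222, 223, 224, 225, 228, 229, 230, 231, 232, 233, 234, 235, 236, 237] ++ strRoots [(210, 211), (214, 215), (219, 220), (226, 227), (238, 239)]) :=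
  stepOK_of_fast chainPackOK_E8 (by decide +kernel) (by decide +kernel)

theorem e8i_st_12345678_7_23 : StepOK chevE8 (chevE8.simple 7) 210 211 ([123, 126, 127, 130, 131, 132, 135, 136, 137, 138, 141, 142, 143, 144, 147, 148, 149, 152, 153, 156, 161, 162, 163, 164, 165, 166, 169, 170, 171, 174, 175, 178, 183, 184, 185, 188, 193, 194, 199, 202, 203, 204, 209, 212, 213, 216, 217, 218, 221, 222, 223, 224, 225, 228, 229, 230, 231, 232, 233, 234, 235, 236, 237] ++ strRoots [(214, 215), (219, 220), (226, 227), (238, 239)]) :=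
  stepOK_of_fast chainPackOK_E8 (by decide +kernel) (by decide +kernel)

theorem e8i_st_12345678_7_24 : StepOK chevE8 (chevE8.simple 7) 214 215 ([123, 126, 127, 130, 131, 132, 135, 136, 137, 138, 141, 142, 143, 144, 147, 148, 149, 152, 153, 156, 161, 162, 163, 164, 165, 166, 169, 170, 171, 174, 175, 178, 183, 184, 185, 188, 193, 194, 199, 202, 203, 204, 209, 212, 213, 216, 217, 218, 221, 222, 223, 224, 225, 228, 229, 230, 231, 232, 233, 234, 235, 236, 237] ++ strRoots [(219, 220), (226, 227), (238, 239)]) :=
  stepOK_of_fast chainPackOK_E8 (by decide +kernel) (by decide +kernel)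

theorem e8i_st_12345678_7_25 : StepOK chevE8 (chevE8.simple 7) 219 220 ([123, 126, 127, 130, 131, 132, 135, 136, 137, 138, 141, 142, 143, 144, 147, 148, 149, 152, 153, 156, 161, 162, 163, 164, 165, 166, 169, 170, 171, 174, 175, 178, 183, 184, 185, 188, 193, 194, 199, 202, 203, 204, 209, 212, 213, 216, 217, 218, 221, 222, 223, 224, 225, 228, 229, 230, 231, 232, 233, 234, 235, 236, 237] ++ strRoots [(226, 227), (238, 239)]) :=
  stepOK_of_fast chainPackOK_E8 (by decide +kernel) (by decide +kernel)

theorem e8i_st_12345678_7_26 : StepOK chevE8 (chevE8.simple 7) 226 227 ([123, 126, 127, 130, 131, 132, 135, 136, 137, 138, 141, 142, 143, 144, 147, 148, 149, 152, 153, 156, 161, 162, 163, 164, 165, 166, 169, 170, 171, 174, 175, 178, 183, 184, 185, 188, 193, 194, 199, 202, 203, 204, 209, 212, 213, 216, 217, 218, 221, 222, 223, 224, 225, 228, 229, 230, 231, 232, 233, 234, 235, 236, 237] ++ strRoots [(238, 239)]) :=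
  stepOK_of_fast chainPackOK_E8 (by decide +kernel) (by decide +kernel)

theorem e8i_st_12345678_7_27 : StepOK chevE8 (chevE8.simple 7) 238 239 ([123, 126, 127, 130, 131, 132, 135, 136, 137, 138, 141, 142, 143, 144, 147, 148, 149, 152, 153, 156, 161, 162, 163, 164, 165, 166, 169, 170, 171, 174, 175, 178, 183, 184, 185, 188, 193, 194, 199, 202, 203, 204, 209, 212, 213, 216, 217, 218, 221, 222, 223, 224, 225, 228, 229, 230, 231, 232, 233, 234, 235, 236, 237] ++ strRoots []) :=
  stepOK_of_fast chainPackOK_E8 (by decide +kernel) (by decide +kernel)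

end Cfsg.Agent.Helper81
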