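/-
helper81: involutions of the Chevalley group of type E8 in characteristic two - the table conditions of the steps of the Levi recursion, assembled
(generated by tools/calls/e7scripts/xgen.py; the tables are checked by the kernel, one string at a time).
-/
import Cfsg.Agent.Helper81.E8IDefs
import Cfsg.Agent.Helper81.E8ISt0
import Cfsg.Agent.Helper81.E8ISt1
import Cfsg.Agent.Helper81.E8ISt2
import Cfsg.Agent.Helper81.E8ISt3
import Cfsg.Agent.Helper81.E8ISt4
import Cfsg.Agent.Helper81.E8ISt5
import Cfsg.Agent.Helper81.E8ISt6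
import Cfsg.Agent.Helper81.E8ISt7
import Cfsg.Agent.Helper81.E8ISt8
import Cfsg.Agent.Helper81.E8ISt9
import Cfsg.Agent.Helper81.E8ISt10
import Cfsg.Agent.Helper81.E8ISt11
import Cfsg.Agent.Helper81.E8ILw0

set_option autoImplicit false
set_option linter.unusedSectionVars false
set_option linter.unusedVariables false
set_option maxRecDepth 100000

namespace Cfsg.Agent.Helper81

open Cfsg Cfsg.Lie Cfsg.Agent.Helper36 Cfsg.Agent.Helper17 Cfsg.Agent.Helper18 Cfsg.Agent.Helper18.RSub
  Cfsg.Agent.Helper38


theorem e8i_low_2 : LowOK chevE8 e8iP2 [1] := by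
  decide +kernel

theorem e8i_low_3 : LowOK chevE8 e8iP3 [2] := by
  decide +kernel

theorem e8i_low_5 : LowOK chevE8 e8iP5 [4] := by
  decide +kernel

theorem e8i_low_7 : LowOK chevE8 e8iP7 [6] := by
  decide +kernel

theorem e8i_low_23 : LowOK chevE8 e8iP23 [1, 2] := by
  decide +kernel

theorem e8i_low_25 : LowOK chevE8 e8iP25 [1, 4] := by
  decide +kernel

theorem e8i_low_27 : LowOK chevE8 e8iP27 [1, 6] := by
  decide +kernel

theorem e8i_low_35 : LowOK chevE8 e8iP35 [2, 4] := by
  decide +kernel

theorem e8i_low_37 : LowOK chevE8 e8iP37 [2, 6] := by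
  decide +kernel

theorem e8i_low_57 : LowOK chevE8 e8iP57 [4, 6] := by
  decide +kernel

theorem e8i_low_235 : LowOK chevE8 e8iP235 [1, 2, 4] := by
  decide +kernel

theorem e8i_low_237 : LowOK chevE8 e8iP237 [1, 2, 6] := by
  decide +kernel

theorem e8i_low_257 : LowOK chevE8 e8iP257 [1, 4, 6] := by
  decide +kernel

theorem e8i_low_357 : LowOK chevE8 e8iP357 [2, 4, 6] := by
  decide +kernel

theorem e8i_low_2345 : LowOK chevE8 e8iP2345 [1, 2, 3, 4] := by
  decide +kernel

theorem e8i_low_2357 : LowOK chevE8 e8iP2357 [1, 2, 4, 6] := by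
  decide +kernel

theorem e8i_low_23457 : LowOK chevE8 e8iP23457 [1, 2, 3, 4, 6] := by
  decide +kernel

theorem e8i_low_234567 : LowOK chevE8 e8iP234567 [1, 2, 3, 4, 5, 6] := by
  decide +kernel

theorem e8i_low_1234567 : LowOK chevE8 e8iP1234567 [0, 1, 2, 3, 4, 5, 6] := by
  unfold LowOK
  refine ⟨e8i_lowA_1234567, ?_, e8i_lowC_1234567⟩
  intro i hi
  simp only [List.mem_cons, List.not_mem_nil, or_false] at hi
  rcases hi with rfl | rfl | rfl | rfl | rfl | rfl | rfl
  · exact e8i_lowB_1234567_0
  · exact e8i_lowB_1234567_1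
  · exact e8i_lowB_1234567_2
  · exact e8i_lowB_1234567_3
  · exact e8i_lowB_1234567_4
  · exact e8i_lowB_1234567_5
  · exact e8i_lowB_1234567_6

theorem e8i_low_12345678 : LowOK chevE8 e8iP12345678 [0, 1, 2, 3, 4, 5, 6, 7] := by
  unfold LowOK
  refine ⟨e8i_lowA_12345678, ?_, e8i_lowC_12345678⟩
  intro i hi
  simp only [List.mem_cons, List.not_mem_nil, or_false] at hi
  rcases hi with rfl | rfl | rfl | rfl | rfl | rfl | rfl | rfl
  · exact e8i_lowB_12345678_0
  · exact e8i_lowB_12345678_1
  · exact e8i_lowB_12345678_2
  · exact e8i_lowB_12345678_3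
  · exact e8i_lowB_12345678_4
  · exact e8i_lowB_12345678_5
  · exact e8i_lowB_12345678_6
  · exact e8i_lowB_12345678_7

theorem e8i_str_2_1 : StrOK chevE8 (chevE8.simple 1) [] [] :=
  trivial

theorem e8i_ok_2_1 : ChiStepOK chevE8 e8iP2 1 141 [] [] [] [] [[]] e8iL2 := by
  unfold ChiStepOK
  exact ⟨by decide +kernel, by decide +kernel, by decide +kernel, by decide +kernel, by decide +kernel, e8i_str_2_1, by decide +kernel, by decide +kernel, by decide +kernel, by decide +kernel, by decide +kernel, by decide +kernel, by decide +kernel, by decide +kernel, by decide +kernel, by decide +kernel⟩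

theorem e8i_str_3_2 : StrOK chevE8 (chevE8.simple 2) [] [] :=
  trivial

theorem e8i_ok_3_2 : ChiStepOK chevE8 e8iP3 2 135 [] [] [] [] [[]] e8iL3 := by
  unfold ChiStepOK
  exact ⟨by decide +kernel, by decide +kernel, by decide +kernel, by decide +kernel, by decide +kernel, e8i_str_3_2, by decide +kernel, by decide +kernel, by decide +kernel, by decide +kernel, by decide +kernel, by decide +kernel, by decide +kernel, by decide +kernel, by decide +kernel, by decide +kernel⟩

theorem e8i_str_5_4 : StrOK chevE8 (chevE8.simple 4) [] [] :=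
  trivial

theorem e8i_ok_5_4 : ChiStepOK chevE8 e8iP5 4 126 [] [] [] [] [[]] e8iL5 := by
  unfold ChiStepOK
  exact ⟨by decide +kernel, by decide +kernel, by decide +kernel, by decide +kernel, by decide +kernel, e8i_str_5_4, by decide +kernel, by decide +kernel, by decide +kernel, by decide +kernel, by decide +kernel, by decide +kernel, by decide +kernel, by decide +kernel, by decide +kernel, by decide +kernel⟩

theorem e8i_str_7_6 : StrOK chevE8 (chevE8.simple 6) [] [] :=
  trivial

theorem e8i_ok_7_6 : ChiStepOK chevE8 e8iP7 6 121 [] [] [] [] [[]] e8iL7 := by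
  unfold ChiStepOK
  exact ⟨by decide +kernel, by decide +kernel, by decide +kernel, by decide +kernel, by decide +kernel, e8i_str_7_6, by decide +kernel, by decide +kernel, by decide +kernel, by decide +kernel, by decide +kernel, by decide +kernel, by decide +kernel, by decide +kernel, by decide +kernel, by decide +kernel⟩

theorem e8i_str_23_1 : StrOK chevE8 (chevE8.simple 1) [135] [] :=
  trivial

theorem e8i_ok_23_1 : ChiStepOK chevE8 e8iP23 1 141 [] [135] [] e8iP3 e8iL3 e8iL23 := by
  unfold ChiStepOK
  exact ⟨by decide +kernel, by decide +kernel, by decide +kernel, by decide +kernel, by decide +kernel, e8i_str_23_1, by decide +kernel, by decide +kernel, by decide +kernel, by decide +kernel, by decide +kernel, by decide +kernel, by decide +kernel, by decide +kernel, by decide +kernel, by decide +kernel⟩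

theorem e8i_str_23_2 : StrOK chevE8 (chevE8.simple 2) [141] [] :=
  trivial

theorem e8i_ok_23_2 : ChiStepOK chevE8 e8iP23 2 135 [] [141] [] e8iP2 e8iL2 e8iL23 := by
  unfold ChiStepOK
  exact ⟨by decide +kernel, by decide +kernel, by decide +kernel, by decide +kernel, by decide +kernel, e8i_str_23_2, by decide +kernel, by decide +kernel, by decide +kernel, by decide +kernel, by decide +kernel, by decide +kernel, by decide +kernel, by decide +kernel, by decide +kernel, by decide +kernel⟩

theorem e8i_str_25_1 : StrOK chevE8 (chevE8.simple 1) [126] [] :=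
  trivial

theorem e8i_ok_25_1 : ChiStepOK chevE8 e8iP25 1 141 [] [126] [] e8iP5 e8iL5 e8iL25 := by
  unfold ChiStepOK
  exact ⟨by decide +kernel, by decide +kernel, by decide +kernel, by decide +kernel, by decide +kernel, e8i_str_25_1, by decide +kernel, by decide +kernel, by decide +kernel, by decide +kernel, by decide +kernel, by decide +kernel, by decide +kernel, by decide +kernel, by decide +kernel, by decide +kernel⟩

theorem e8i_str_25_4 : StrOK chevE8 (chevE8.simple 4) [141] [] :=
  trivial

theorem e8i_ok_25_4 : ChiStepOK chevE8 e8iP25 4 126 [] [141] [] e8iP2 e8iL2 e8iL25 := by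
  unfold ChiStepOK
  exact ⟨by decide +kernel, by decide +kernel, by decide +kernel, by decide +kernel, by decide +kernel, e8i_str_25_4, by decide +kernel, by decide +kernel, by decide +kernel, by decide +kernel, by decide +kernel, by decide +kernel, by decide +kernel, by decide +kernel, by decide +kernel, by decide +kernel⟩

theorem e8i_str_27_1 : StrOK chevE8 (chevE8.simple 1) [121] [] :=
  trivial

theorem e8i_ok_27_1 : ChiStepOK chevE8 e8iP27 1 141 [] [121] [] e8iP7 e8iL7 e8iL27 := by
  unfold ChiStepOK
  exact ⟨by decide +kernel, by decide +kernel, by decide +kernel, by decide +kernel, by decide +kernel, e8i_str_27_1, by decide +kernel, by decide +kernel, by decide +kernel, by decide +kernel, by decide +kernel, by decide +kernel, by decide +kernel, by decide +kernel, by decide +kernel, by decide +kernel⟩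

theorem e8i_str_27_6 : StrOK chevE8 (chevE8.simple 6) [141] [] :=
  trivial

theorem e8i_ok_27_6 : ChiStepOK chevE8 e8iP27 6 121 [] [141] [] e8iP2 e8iL2 e8iL27 := by
  unfold ChiStepOK
  exact ⟨by decide +kernel, by decide +kernel, by decide +kernel, by decide +kernel, by decide +kernel, e8i_str_27_6, by decide +kernel, by decide +kernel, by decide +kernel, by decide +kernel, by decide +kernel, by decide +kernel, by decide +kernel, by decide +kernel, by decide +kernel, by decide +kernel⟩

theorem e8i_str_35_2 : StrOK chevE8 (chevE8.simple 2) [126] [] :=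
  trivial

theorem e8i_ok_35_2 : ChiStepOK chevE8 e8iP35 2 135 [] [126] [] e8iP5 e8iL5 e8iL35 := by
  unfold ChiStepOK
  exact ⟨by decide +kernel, by decide +kernel, by decide +kernel, by decide +kernel, by decide +kernel, e8i_str_35_2, by decide +kernel, by decide +kernel, by decide +kernel, by decide +kernel, by decide +kernel, by decide +kernel, by decide +kernel, by decide +kernel, by decide +kernel, by decide +kernel⟩

theorem e8i_str_35_4 : StrOK chevE8 (chevE8.simple 4) [135] [] :=
  trivial

theorem e8i_ok_35_4 : ChiStepOK chevE8 e8iP35 4 126 [] [135] [] e8iP3 e8iL3 e8iL35 := by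
  unfold ChiStepOK
  exact ⟨by decide +kernel, by decide +kernel, by decide +kernel, by decide +kernel, by decide +kernel, e8i_str_35_4, by decide +kernel, by decide +kernel, by decide +kernel, by decide +kernel, by decide +kernel, by decide +kernel, by decide +kernel, by decide +kernel, by decide +kernel, by decide +kernel⟩

theorem e8i_str_37_2 : StrOK chevE8 (chevE8.simple 2) [121] [] :=
  trivial

theorem e8i_ok_37_2 : ChiStepOK chevE8 e8iP37 2 135 [] [121] [] e8iP7 e8iL7 e8iL37 := by
  unfold ChiStepOK
  exact ⟨by decide +kernel, by decide +kernel, by decide +kernel, by decide +kernel, by decide +kernel, e8i_str_37_2, by decide +kernel, by decide +kernel, by decide +kernel, by decide +kernel, by decide +kernel, by decide +kernel, by decide +kernel, by decide +kernel, by decide +kernel, by decide +kernel⟩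

theorem e8i_str_37_6 : StrOK chevE8 (chevE8.simple 6) [135] [] :=
  trivial

theorem e8i_ok_37_6 : ChiStepOK chevE8 e8iP37 6 121 [] [135] [] e8iP3 e8iL3 e8iL37 := by
  unfold ChiStepOK
  exact ⟨by decide +kernel, by decide +kernel, by decide +kernel, by decide +kernel, by decide +kernel, e8i_str_37_6, by decide +kernel, by decide +kernel, by decide +kernel, by decide +kernel, by decide +kernel, by decide +kernel, by decide +kernel, by decide +kernel, by decide +kernel, by decide +kernel⟩

theorem e8i_str_57_4 : StrOK chevE8 (chevE8.simple 4) [121] [] :=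
  trivial

theorem e8i_ok_57_4 : ChiStepOK chevE8 e8iP57 4 126 [] [121] [] e8iP7 e8iL7 e8iL57 := by
  unfold ChiStepOK
  exact ⟨by decide +kernel, by decide +kernel, by decide +kernel, by decide +kernel, by decide +kernel, e8i_str_57_4, by decide +kernel, by decide +kernel, by decide +kernel, by decide +kernel, by decide +kernel, by decide +kernel, by decide +kernel, by decide +kernel, by decide +kernel, by decide +kernel⟩

theorem e8i_str_57_6 : StrOK chevE8 (chevE8.simple 6) [126] [] :=
  trivial

theorem e8i_ok_57_6 : ChiStepOK chevE8 e8iP57 6 121 [] [126] [] e8iP5 e8iL5 e8iL57 := by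
  unfold ChiStepOK
  exact ⟨by decide +kernel, by decide +kernel, by decide +kernel, by decide +kernel, by decide +kernel, e8i_str_57_6, by decide +kernel, by decide +kernel, by decide +kernel, by decide +kernel, by decide +kernel, by decide +kernel, by decide +kernel, by decide +kernel, by decide +kernel, by decide +kernel⟩

theorem e8i_str_235_1 : StrOK chevE8 (chevE8.simple 1) [126, 135] [] :=
  trivial

theorem e8i_ok_235_1 : ChiStepOK chevE8 e8iP235 1 141 [] [126, 135] [] e8iP35 e8iL35 e8iL235 := by
  unfold ChiStepOK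
  exact ⟨by decide +kernel, by decide +kernel, by decide +kernel, by decide +kernel, by decide +kernel, e8i_str_235_1, by decide +kernel, by decide +kernel, by decide +kernel, by decide +kernel, by decide +kernel, by decide +kernel, by decide +kernel, by decide +kernel, by decide +kernel, by decide +kernel⟩

theorem e8i_str_235_2 : StrOK chevE8 (chevE8.simple 2) [126, 141] [] :=
  trivial

theorem e8i_ok_235_2 : ChiStepOK chevE8 e8iP235 2 135 [] [126, 141] [] e8iP25 e8iL25 e8iL235 := by
  unfold ChiStepOK
  exact ⟨by decide +kernel, by decide +kernel, by decide +kernel, by decide +kernel, by decide +kernel, e8i_str_235_2, by decide +kernel, by decide +kernel, by decide +kernel, by decide +kernel, by decide +kernel, by decide +kernel, by decide +kernel, by decide +kernel, by decide +kernel, by decide +kernel⟩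

theorem e8i_str_235_4 : StrOK chevE8 (chevE8.simple 4) [135, 141] [] :=
  trivial

theorem e8i_ok_235_4 : ChiStepOK chevE8 e8iP235 4 126 [] [135, 141] [] e8iP23 e8iL23 e8iL235 := by
  unfold ChiStepOK
  exact ⟨by decide +kernel, by decide +kernel, by decide +kernel, by decide +kernel, by decide +kernel, e8i_str_235_4, by decide +kernel, by decide +kernel, by decide +kernel, by decide +kernel, by decide +kernel, by decide +kernel, by decide +kernel, by decide +kernel, by decide +kernel, by decide +kernel⟩

theorem e8i_str_237_1 : StrOK chevE8 (chevE8.simple 1) [121, 135] [] :=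
  trivial

theorem e8i_ok_237_1 : ChiStepOK chevE8 e8iP237 1 141 [] [121, 135] [] e8iP37 e8iL37 e8iL237 := by
  unfold ChiStepOK
  exact ⟨by decide +kernel, by decide +kernel, by decide +kernel, by decide +kernel, by decide +kernel, e8i_str_237_1, by decide +kernel, by decide +kernel, by decide +kernel, by decide +kernel, by decide +kernel, by decide +kernel, by decide +kernel, by decide +kernel, by decide +kernel, by decide +kernel⟩

theorem e8i_str_237_2 : StrOK chevE8 (chevE8.simple 2) [121, 141] [] :=
  trivial

theorem e8i_ok_237_2 : ChiStepOK chevE8 e8iP237 2 135 [] [121, 141] [] e8iP27 e8iL27 e8iL237 := by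
  unfold ChiStepOK
  exact ⟨by decide +kernel, by decide +kernel, by decide +kernel, by decide +kernel, by decide +kernel, e8i_str_237_2, by decide +kernel, by decide +kernel, by decide +kernel, by decide +kernel, by decide +kernel, by decide +kernel, by decide +kernel, by decide +kernel, by decide +kernel, by decide +kernel⟩

theorem e8i_str_237_6 : StrOK chevE8 (chevE8.simple 6) [135, 141] [] :=
  trivial

theorem e8i_ok_237_6 : ChiStepOK chevE8 e8iP237 6 121 [] [135, 141] [] e8iP23 e8iL23 e8iL237 := by
  unfold ChiStepOK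
  exact ⟨by decide +kernel, by decide +kernel, by decide +kernel, by decide +kernel, by decide +kernel, e8i_str_237_6, by decide +kernel, by decide +kernel, by decide +kernel, by decide +kernel, by decide +kernel, by decide +kernel, by decide +kernel, by decide +kernel, by decide +kernel, by decide +kernel⟩

theorem e8i_str_257_1 : StrOK chevE8 (chevE8.simple 1) [121, 126] [] :=
  trivial

theorem e8i_ok_257_1 : ChiStepOK chevE8 e8iP257 1 141 [] [121, 126] [] e8iP57 e8iL57 e8iL257 := by
  unfold ChiStepOK
  exact ⟨by decide +kernel, by decide +kernel, by decide +kernel, by decide +kernel, by decide +kernel, e8i_str_257_1, by decide +kernel, by decide +kernel, by decide +kernel, by decide +kernel, by decide +kernel, by decide +kernel, by decide +kernel, by decide +kernel, by decide +kernel, by decide +kernel⟩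

theorem e8i_str_257_4 : StrOK chevE8 (chevE8.simple 4) [121, 141] [] :=
  trivial

theorem e8i_ok_257_4 : ChiStepOK chevE8 e8iP257 4 126 [] [121, 141] [] e8iP27 e8iL27 e8iL257 := by
  unfold ChiStepOK
  exact ⟨by decide +kernel, by decide +kernel, by decide +kernel, by decide +kernel, by decide +kernel, e8i_str_257_4, by decide +kernel, by decide +kernel, by decide +kernel, by decide +kernel, by decide +kernel, by decide +kernel, by decide +kernel, by decide +kernel, by decide +kernel, by decide +kernel⟩

theorem e8i_str_257_6 : StrOK chevE8 (chevE8.simple 6) [126, 141] [] :=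
  trivial

theorem e8i_ok_257_6 : ChiStepOK chevE8 e8iP257 6 121 [] [126, 141] [] e8iP25 e8iL25 e8iL257 := by
  unfold ChiStepOK
  exact ⟨by decide +kernel, by decide +kernel, by decide +kernel, by decide +kernel, by decide +kernel, e8i_str_257_6, by decide +kernel, by decide +kernel, by decide +kernel, by decide +kernel, by decide +kernel, by decide +kernel, by decide +kernel, by decide +kernel, by decide +kernel, by decide +kernel⟩

theorem e8i_str_357_2 : StrOK chevE8 (chevE8.simple 2) [121, 126] [] :=
  trivial

theorem e8i_ok_357_2 : ChiStepOK chevE8 e8iP357 2 135 [] [121, 126] [] e8iP57 e8iL57 e8iL357 := by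
  unfold ChiStepOK
  exact ⟨by decide +kernel, by decide +kernel, by decide +kernel, by decide +kernel, by decide +kernel, e8i_str_357_2, by decide +kernel, by decide +kernel, by decide +kernel, by decide +kernel, by decide +kernel, by decide +kernel, by decide +kernel, by decide +kernel, by decide +kernel, by decide +kernel⟩

theorem e8i_str_357_4 : StrOK chevE8 (chevE8.simple 4) [121, 135] [] :=
  trivial

theorem e8i_ok_357_4 : ChiStepOK chevE8 e8iP357 4 126 [] [121, 135] [] e8iP37 e8iL37 e8iL357 := by
  unfold ChiStepOK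
  exact ⟨by decide +kernel, by decide +kernel, by decide +kernel, by decide +kernel, by decide +kernel, e8i_str_357_4, by decide +kernel, by decide +kernel, by decide +kernel, by decide +kernel, by decide +kernel, by decide +kernel, by decide +kernel, by decide +kernel, by decide +kernel, by decide +kernel⟩

theorem e8i_str_357_6 : StrOK chevE8 (chevE8.simple 6) [126, 135] [] :=
  trivial

theorem e8i_ok_357_6 : ChiStepOK chevE8 e8iP357 6 121 [] [126, 135] [] e8iP35 e8iL35 e8iL357 := by
  unfold ChiStepOK
  exact ⟨by decide +kernel, by decide +kernel, by decide +kernel, by decide +kernel, by decide +kernel, e8i_str_357_6, by decide +kernel, by decide +kernel, by decide +kernel, by decide +kernel, by decide +kernel, by decide +kernel, by decide +kernel, by decide +kernel, by decide +kernel, by decide +kernel⟩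

theorem e8i_str_2345_1 : StrOK chevE8 (chevE8.simple 1) [126, 135, 152] [(130, 142), (131, 143), (136, 147), (137, 148)] :=
  ⟨e8i_st_2345_1_0, e8i_st_2345_1_1, e8i_st_2345_1_2, e8i_st_2345_1_3, trivial⟩

theorem e8i_ok_2345_1 : ChiStepOK chevE8 e8iP2345 1 152 [3, 4, 2, 3] [126, 135, 152] [(130, 142), (131, 143), (136, 147), (137, 148)] e8iP235 e8iL235 e8iL2345 := by
  unfold ChiStepOK
  exact ⟨by decide +kernel, by decide +kernel, by decide +kernel, by decide +kernel, by decide +kernel, e8i_str_2345_1, by decide +kernel, by decide +kernel, by decide +kernel, by decide +kernel, by decide +kernel, by decide +kernel, by decide +kernel, by decide +kernel, by decide +kernel, by decide +kernel⟩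

theorem e8i_str_2345_2 : StrOK chevE8 (chevE8.simple 2) [126, 141, 152] [(130, 136), (131, 137), (142, 147), (143, 148)] :=
  ⟨e8i_st_2345_2_0, e8i_st_2345_2_1, e8i_st_2345_2_2, e8i_st_2345_2_3, trivial⟩

theorem e8i_ok_2345_2 : ChiStepOK chevE8 e8iP2345 2 152 [3, 4, 1, 3] [126, 141, 152] [(130, 136), (131, 137), (142, 147), (143, 148)] e8iP235 e8iL235 e8iL2345 := by
  unfold ChiStepOK
  exact ⟨by decide +kernel, by decide +kernel, by decide +kernel, by decide +kernel, by decide +kernel, e8i_str_2345_2, by decide +kernel, by decide +kernel, by decide +kernel, by decide +kernel, by decide +kernel, by decide +kernel, by decide +kernel, by decide +kernel, by decide +kernel, by decide +kernel⟩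

theorem e8i_str_2345_3 : StrOK chevE8 (chevE8.simple 3) [137, 143, 147] [(126, 131), (135, 136), (141, 142), (148, 152)] :=
  ⟨e8i_st_2345_3_0, e8i_st_2345_3_1, e8i_st_2345_3_2, e8i_st_2345_3_3, trivial⟩

theorem e8i_ok_2345_3 : ChiStepOK chevE8 e8iP2345 3 152 [3, 4, 2, 1] [137, 143, 147] [(126, 131), (135, 136), (141, 142), (148, 152)] e8iP235 e8iL235 e8iL2345 := by
  unfold ChiStepOK
  exact ⟨by decide +kernel, by decide +kernel, by decide +kernel, by decide +kernel, by decide +kernel, e8i_str_2345_3, by decide +kernel, by decide +kernel, by decide +kernel, by decide +kernel, by decide +kernel, by decide +kernel, by decide +kernel, by decide +kernel, by decide +kernel, by decide +kernel⟩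

theorem e8i_str_2345_4 : StrOK chevE8 (chevE8.simple 4) [135, 141, 152] [(130, 131), (136, 137), (142, 143), (147, 148)] :=
  ⟨e8i_st_2345_4_0, e8i_st_2345_4_1, e8i_st_2345_4_2, e8i_st_2345_4_3, trivial⟩

theorem e8i_ok_2345_4 : ChiStepOK chevE8 e8iP2345 4 152 [3, 2, 1, 3] [135, 141, 152] [(130, 131), (136, 137), (142, 143), (147, 148)] e8iP235 e8iL235 e8iL2345 := by
  unfold ChiStepOK
  exact ⟨by decide +kernel, by decide +kernel, by decide +kernel, by decide +kernel, by decide +kernel, e8i_str_2345_4, by decide +kernel, by decide +kernel, by decide +kernel, by decide +kernel, by decide +kernel, by decide +kernel, by decide +kernel, by decide +kernel, by decide +kernel, by decide +kernel⟩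

theorem e8i_str_2357_1 : StrOK chevE8 (chevE8.simple 1) [121, 126, 135] [] :=
  trivial

theorem e8i_ok_2357_1 : ChiStepOK chevE8 e8iP2357 1 141 [] [121, 126, 135] [] e8iP357 e8iL357 e8iL2357 := by
  unfold ChiStepOK
  exact ⟨by decide +kernel, by decide +kernel, by decide +kernel, by decide +kernel, by decide +kernel, e8i_str_2357_1, by decide +kernel, by decide +kernel, by decide +kernel, by decide +kernel, by decide +kernel, by decide +kernel, by decide +kernel, by decide +kernel, by decide +kernel, by decide +kernel⟩

theorem e8i_str_2357_2 : StrOK chevE8 (chevE8.simple 2) [121, 126, 141] [] :=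
  trivial

theorem e8i_ok_2357_2 : ChiStepOK chevE8 e8iP2357 2 135 [] [121, 126, 141] [] e8iP257 e8iL257 e8iL2357 := by
  unfold ChiStepOK
  exact ⟨by decide +kernel, by decide +kernel, by decide +kernel, by decide +kernel, by decide +kernel, e8i_str_2357_2, by decide +kernel, by decide +kernel, by decide +kernel, by decide +kernel, by decide +kernel, by decide +kernel, by decide +kernel, by decide +kernel, by decide +kernel, by decide +kernel⟩

theorem e8i_str_2357_4 : StrOK chevE8 (chevE8.simple 4) [121, 135, 141] [] :=
  trivial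

theorem e8i_ok_2357_4 : ChiStepOK chevE8 e8iP2357 4 126 [] [121, 135, 141] [] e8iP237 e8iL237 e8iL2357 := by
  unfold ChiStepOK
  exact ⟨by decide +kernel, by decide +kernel, by decide +kernel, by decide +kernel, by decide +kernel, e8i_str_2357_4, by decide +kernel, by decide +kernel, by decide +kernel, by decide +kernel, by decide +kernel, by decide +kernel, by decide +kernel, by decide +kernel, by decide +kernel, by decide +kernel⟩

theorem e8i_str_2357_6 : StrOK chevE8 (chevE8.simple 6) [126, 135, 141] [] :=
  trivial

theorem e8i_ok_2357_6 : ChiStepOK chevE8 e8iP2357 6 121 [] [126, 135, 141] [] e8iP235 e8iL235 e8iL2357 := by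
  unfold ChiStepOK
  exact ⟨by decide +kernel, by decide +kernel, by decide +kernel, by decide +kernel, by decide +kernel, e8i_str_2357_6, by decide +kernel, by decide +kernel, by decide +kernel, by decide +kernel, by decide +kernel, by decide +kernel, by decide +kernel, by decide +kernel, by decide +kernel, by decide +kernel⟩

theorem e8i_str_23457_1 : StrOK chevE8 (chevE8.simple 1) [121, 126, 135, 152] [(130, 142), (131, 143), (136, 147), (137, 148)] :=
  ⟨e8i_st_23457_1_0, e8i_st_23457_1_1, e8i_st_23457_1_2, e8i_st_23457_1_3, trivial⟩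

theorem e8i_ok_23457_1 : ChiStepOK chevE8 e8iP23457 1 152 [3, 4, 2, 3] [121, 126, 135, 152] [(130, 142), (131, 143), (136, 147), (137, 148)] e8iP2357 e8iL2357 e8iL23457 := by
  unfold ChiStepOK
  exact ⟨by decide +kernel, by decide +kernel, by decide +kernel, by decide +kernel, by decide +kernel, e8i_str_23457_1, by decide +kernel, by decide +kernel, by decide +kernel, by decide +kernel, by decide +kernel, by decide +kernel, by decide +kernel, by decide +kernel, by decide +kernel, by decide +kernel⟩

theorem e8i_str_23457_2 : StrOK chevE8 (chevE8.simple 2) [121, 126, 141, 152] [(130, 136), (131, 137), (142, 147), (143, 148)] :=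
  ⟨e8i_st_23457_2_0, e8i_st_23457_2_1, e8i_st_23457_2_2, e8i_st_23457_2_3, trivial⟩

theorem e8i_ok_23457_2 : ChiStepOK chevE8 e8iP23457 2 152 [3, 4, 1, 3] [121, 126, 141, 152] [(130, 136), (131, 137), (142, 147), (143, 148)] e8iP2357 e8iL2357 e8iL23457 := by
  unfold ChiStepOK
  exact ⟨by decide +kernel, by decide +kernel, by decide +kernel, by decide +kernel, by decide +kernel, e8i_str_23457_2, by decide +kernel, by decide +kernel, by decide +kernel, by decide +kernel, by decide +kernel, by decide +kernel, by decide +kernel, by decide +kernel, by decide +kernel, by decide +kernel⟩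

theorem e8i_str_23457_3 : StrOK chevE8 (chevE8.simple 3) [121, 137, 143, 147] [(126, 131), (135, 136), (141, 142), (148, 152)] :=
  ⟨e8i_st_23457_3_0, e8i_st_23457_3_1, e8i_st_23457_3_2, e8i_st_23457_3_3, trivial⟩

theorem e8i_ok_23457_3 : ChiStepOK chevE8 e8iP23457 3 152 [3, 4, 2, 1] [121, 137, 143, 147] [(126, 131), (135, 136), (141, 142), (148, 152)] e8iP2357 e8iL2357 e8iL23457 := by
  unfold ChiStepOK
  exact ⟨by decide +kernel, by decide +kernel, by decide +kernel, by decide +kernel, by decide +kernel, e8i_str_23457_3, by decide +kernel, by decide +kernel, by decide +kernel, by decide +kernel, by decide +kernel, by decide +kernel, by decide +kernel, by decide +kernel, by decide +kernel, by decide +kernel⟩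

theorem e8i_str_23457_4 : StrOK chevE8 (chevE8.simple 4) [121, 135, 141, 152] [(130, 131), (136, 137), (142, 143), (147, 148)] :=
  ⟨e8i_st_23457_4_0, e8i_st_23457_4_1, e8i_st_23457_4_2, e8i_st_23457_4_3, trivial⟩

theorem e8i_ok_23457_4 : ChiStepOK chevE8 e8iP23457 4 152 [3, 2, 1, 3] [121, 135, 141, 152] [(130, 131), (136, 137), (142, 143), (147, 148)] e8iP2357 e8iL2357 e8iL23457 := by
  unfold ChiStepOK
  exact ⟨by decide +kernel, by decide +kernel, by decide +kernel, by decide +kernel, by decide +kernel, e8i_str_23457_4, by decide +kernel, by decide +kernel, by decide +kernel, by decide +kernel, by decide +kernel, by decide +kernel, by decide +kernel, by decide +kernel, by decide +kernel, by decide +kernel⟩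

theorem e8i_str_23457_6 : StrOK chevE8 (chevE8.simple 6) [126, 130, 131, 135, 136, 137, 141, 142, 143, 147, 148, 152] [] :=
  trivial

theorem e8i_ok_23457_6 : ChiStepOK chevE8 e8iP23457 6 121 [] [126, 130, 131, 135, 136, 137, 141, 142, 143, 147, 148, 152] [] e8iP2345 e8iL2345 e8iL23457 := by
  unfold ChiStepOK
  exact ⟨by decide +kernel, by decide +kernel, by decide +kernel, by decide +kernel, by decide +kernel, e8i_str_23457_6, by decide +kernel, by decide +kernel, by decide +kernel, by decide +kernel, by decide +kernel, by decide +kernel, by decide +kernel, by decide +kernel, by decide +kernel, by decide +kernel⟩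

theorem e8i_str_234567_1 : StrOK chevE8 (chevE8.simple 1) [121, 123, 124, 126, 127, 128, 135, 152, 153, 154, 156, 157, 159] [(130, 142), (131, 143), (132, 144), (133, 145), (136, 147), (137, 148), (138, 149), (139, 150)] :=
  ⟨e8i_st_234567_1_0, e8i_st_234567_1_1, e8i_st_234567_1_2, e8i_st_234567_1_3, e8i_st_234567_1_4, e8i_st_234567_1_5, e8i_st_234567_1_6, e8i_st_234567_1_7, trivial⟩

theorem e8i_ok_234567_1 : ChiStepOK chevE8 e8iP234567 1 159 [5, 6, 4, 5, 3, 4, 2, 3] [121, 123, 124, 126, 127, 128, 135, 152, 153, 154, 156, 157, 159] [(130, 142), (131, 143), (132, 144), (133, 145), (136, 147), (137, 148), (138, 149), (139, 150)] e8iP23457 e8iL23457 e8iL234567 := by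
  unfold ChiStepOK
  exact ⟨by decide +kernel, by decide +kernel, by decide +kernel, by decide +kernel, by decide +kernel, e8i_str_234567_1, by decide +kernel, by decide +kernel, by decide +kernel, by decide +kernel, by decide +kernel, by decide +kernel, by decide +kernel, by decide +kernel, by decide +kernel, by decide +kernel⟩

theorem e8i_str_234567_2 : StrOK chevE8 (chevE8.simple 2) [121, 123, 124, 126, 127, 128, 141, 152, 153, 154, 156, 157, 159] [(130, 136), (131, 137), (132, 138), (133, 139), (142, 147), (143, 148), (144, 149), (145, 150)] :=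
  ⟨e8i_st_234567_2_0, e8i_st_234567_2_1, e8i_st_234567_2_2, e8i_st_234567_2_3, e8i_st_234567_2_4, e8i_st_234567_2_5, e8i_st_234567_2_6, e8i_st_234567_2_7, trivial⟩

theorem e8i_ok_234567_2 : ChiStepOK chevE8 e8iP234567 2 159 [5, 6, 4, 5, 3, 4, 1, 3] [121, 123, 124, 126, 127, 128, 141, 152, 153, 154, 156, 157, 159] [(130, 136), (131, 137), (132, 138), (133, 139), (142, 147), (143, 148), (144, 149), (145, 150)] e8iP23457 e8iL23457 e8iL234567 := by
  unfold ChiStepOK
  exact ⟨by decide +kernel, by decide +kernel, by decide +kernel, by decide +kernel, by decide +kernel, e8i_str_234567_2, by decide +kernel, by decide +kernel, by decide +kernel, by decide +kernel, by decide +kernel, by decide +kernel, by decide +kernel, by decide +kernel, by decide +kernel, by decide +kernel⟩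

theorem e8i_str_234567_3 : StrOK chevE8 (chevE8.simple 3) [121, 123, 124, 137, 138, 139, 143, 144, 145, 147, 156, 157, 159] [(126, 131), (127, 132), (128, 133), (135, 136), (141, 142), (148, 152), (149, 153), (150, 154)] :=
  ⟨e8i_st_234567_3_0, e8i_st_234567_3_1, e8i_st_234567_3_2, e8i_st_234567_3_3, e8i_st_234567_3_4, e8i_st_234567_3_5, e8i_st_234567_3_6, e8i_st_234567_3_7, trivial⟩

theorem e8i_ok_234567_3 : ChiStepOK chevE8 e8iP234567 3 159 [5, 6, 4, 5, 3, 4, 2, 1] [121, 123, 124, 137, 138, 139, 143, 144, 145, 147, 156, 157, 159] [(126, 131), (127, 132), (128, 133), (135, 136), (141, 142), (148, 152), (149, 153), (150, 154)] e8iP23457 e8iL23457 e8iL234567 := by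
  unfold ChiStepOK
  exact ⟨by decide +kernel, by decide +kernel, by decide +kernel, by decide +kernel, by decide +kernel, e8i_str_234567_3, by decide +kernel, by decide +kernel, by decide +kernel, by decide +kernel, by decide +kernel, by decide +kernel, by decide +kernel, by decide +kernel, by decide +kernel, by decide +kernel⟩

theorem e8i_str_234567_4 : StrOK chevE8 (chevE8.simple 4) [121, 132, 133, 135, 138, 139, 141, 144, 145, 149, 150, 152, 159] [(123, 127), (124, 128), (130, 131), (136, 137), (142, 143), (147, 148), (153, 156), (154, 157)] :=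
  ⟨e8i_st_234567_4_0, e8i_st_234567_4_1, e8i_st_234567_4_2, e8i_st_234567_4_3, e8i_st_234567_4_4, e8i_st_234567_4_5, e8i_st_234567_4_6, e8i_st_234567_4_7, trivial⟩

theorem e8i_ok_234567_4 : ChiStepOK chevE8 e8iP234567 4 159 [5, 6, 4, 5, 3, 2, 1, 3] [121, 132, 133, 135, 138, 139, 141, 144, 145, 149, 150, 152, 159] [(123, 127), (124, 128), (130, 131), (136, 137), (142, 143), (147, 148), (153, 156), (154, 157)] e8iP23457 e8iL23457 e8iL234567 := by
  unfold ChiStepOK
  exact ⟨by decide +kernel, by decide +kernel, by decide +kernel, by decide +kernel, by decide +kernel, e8i_str_234567_4, by decide +kernel, by decide +kernel, by decide +kernel, by decide +kernel, by decide +kernel, by decide +kernel, by decide +kernel, by decide +kernel, by decide +kernel, by decide +kernel⟩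

theorem e8i_str_234567_5 : StrOK chevE8 (chevE8.simple 5) [128, 130, 133, 135, 136, 139, 141, 142, 145, 147, 150, 154, 156] [(121, 124), (126, 127), (131, 132), (137, 138), (143, 144), (148, 149), (152, 153), (157, 159)] :=
  ⟨e8i_st_234567_5_0, e8i_st_234567_5_1, e8i_st_234567_5_2, e8i_st_234567_5_3, e8i_st_234567_5_4, e8i_st_234567_5_5, e8i_st_234567_5_6, e8i_st_234567_5_7, trivial⟩

theorem e8i_ok_234567_5 : ChiStepOK chevE8 e8iP234567 5 159 [5, 6, 4, 3, 2, 1, 3, 4] [128, 130, 133, 135, 136, 139, 141, 142, 145, 147, 150, 154, 156] [(121, 124), (126, 127), (131, 132), (137, 138), (143, 144), (148, 149), (152, 153), (157, 159)] e8iP23457 e8iL23457 e8iL234567 := by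
  unfold ChiStepOK
  exact ⟨by decide +kernel, by decide +kernel, by decide +kernel, by decide +kernel, by decide +kernel, e8i_str_234567_5, by decide +kernel, by decide +kernel, by decide +kernel, by decide +kernel, by decide +kernel, by decide +kernel, by decide +kernel, by decide +kernel, by decide +kernel, by decide +kernel⟩

theorem e8i_str_234567_6 : StrOK chevE8 (chevE8.simple 6) [126, 130, 131, 135, 136, 137, 141, 142, 143, 147, 148, 152, 159] [(123, 124), (127, 128), (132, 133), (138, 139), (144, 145), (149, 150), (153, 154), (156, 157)] :=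
  ⟨e8i_st_234567_6_0, e8i_st_234567_6_1, e8i_st_234567_6_2, e8i_st_234567_6_3, e8i_st_234567_6_4, e8i_st_234567_6_5, e8i_st_234567_6_6, e8i_st_234567_6_7, trivial⟩

theorem e8i_ok_234567_6 : ChiStepOK chevE8 e8iP234567 6 159 [5, 4, 3, 2, 1, 3, 4, 5] [126, 130, 131, 135, 136, 137, 141, 142, 143, 147, 148, 152, 159] [(123, 124), (127, 128), (132, 133), (138, 139), (144, 145), (149, 150), (153, 154), (156, 157)] e8iP23457 e8iL23457 e8iL234567 := by
  unfold ChiStepOK
  exact ⟨by decide +kernel, by decide +kernel, by decide +kernel, by decide +kernel, by decide +kernel, e8i_str_234567_6, by decide +kernel, by decide +kernel, by decide +kernel, by decide +kernel, by decide +kernel, by decide +kernel, by decide +kernel, by decide +kernel, by decide +kernel, by decide +kernel⟩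

theorem e8i_str_1234567_0 : StrOK chevE8 (chevE8.simple 0) [121, 123, 124, 126, 127, 128, 130, 131, 132, 133, 141, 142, 143, 144, 145, 184, 185, 186, 188, 189, 191, 194, 195, 197, 200, 204, 205, 207, 210, 214] [(135, 163), (136, 164), (137, 165), (138, 166), (139, 167), (147, 169), (148, 170), (149, 171), (150, 172), (152, 174), (153, 175), (154, 176), (156, 178), (157, 179), (159, 181), (219, 226)] :=
  ⟨e8i_st_1234567_0_0, e8i_st_1234567_0_1, e8i_st_1234567_0_2, e8i_st_1234567_0_3, e8i_st_1234567_0_4, e8i_st_1234567_0_5, e8i_st_1234567_0_6, e8i_st_1234567_0_7, e8i_st_1234567_0_8, e8i_st_1234567_0_9, e8i_st_1234567_0_10, e8i_st_1234567_0_11, e8i_st_1234567_0_12, e8i_st_1234567_0_13, e8i_st_1234567_0_14, e8i_st_1234567_0_15, trivial⟩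

theorem e8i_ok_1234567_0 : ChiStepOK chevE8 e8iP1234567 0 226 [0, 2, 3, 4, 5, 6, 1, 3, 4, 5, 2, 3, 4, 1, 3, 2] [121, 123, 124, 126, 127, 128, 130, 131, 132, 133, 141, 142, 143, 144, 145, 184, 185, 186, 188, 189, 191, 194, 195, 197, 200, 204, 205, 207, 210, 214] [(135, 163), (136, 164), (137, 165), (138, 166), (139, 167), (147, 169), (148, 170), (149, 171), (150, 172), (152, 174), (153, 175), (154, 176), (156, 178), (157, 179), (159, 181), (219, 226)] e8iP234567 e8iL234567 e8iL1234567 := by
  unfold ChiStepOK
  exact ⟨by decide +kernel, by decide +kernel, by decide +kernel, by decide +kernel, by decide +kernel, e8i_str_1234567_0, by decide +kernel, by decide +kernel, by decide +kernel, by decide +kernel, by decide +kernel, by decide +kernel, by decide +kernel, by decide +kernel, by decide +kernel, by decide +kernel⟩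

theorem e8i_str_1234567_1 : StrOK chevE8 (chevE8.simple 1) [121, 123, 124, 126, 127, 128, 135, 152, 153, 154, 156, 157, 159, 162, 163, 174, 175, 176, 178, 179, 181, 184, 185, 186, 188, 189, 191, 214, 219, 226] [(130, 142), (131, 143), (132, 144), (133, 145), (136, 147), (137, 148), (138, 149), (139, 150), (164, 169), (165, 170), (166, 171), (167, 172), (194, 204), (195, 205), (197, 207), (200, 210)] :=
  ⟨e8i_st_1234567_1_0, e8i_st_1234567_1_1, e8i_st_1234567_1_2, e8i_st_1234567_1_3, e8i_st_1234567_1_4, e8i_st_1234567_1_5, e8i_st_1234567_1_6, e8i_st_1234567_1_7, e8i_st_1234567_1_8, e8i_st_1234567_1_9, e8i_st_1234567_1_10, e8i_st_1234567_1_11, e8i_st_1234567_1_12, e8i_st_1234567_1_13, e8i_st_1234567_1_14, e8i_st_1234567_1_15, trivial⟩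

theorem e8i_ok_1234567_1 : ChiStepOK chevE8 e8iP1234567 1 226 [0, 2, 3, 4, 5, 6, 1, 3, 4, 5, 2, 3, 4, 0, 2, 3] [121, 123, 124, 126, 127, 128, 135, 152, 153, 154, 156, 157, 159, 162, 163, 174, 175, 176, 178, 179, 181, 184, 185, 186, 188, 189, 191, 214, 219, 226] [(130, 142), (131, 143), (132, 144), (133, 145), (136, 147), (137, 148), (138, 149), (139, 150), (164, 169), (165, 170), (166, 171), (167, 172), (194, 204), (195, 205), (197, 207), (200, 210)] e8iP234567 e8iL234567 e8iL1234567 := by
  unfold ChiStepOK
  exact ⟨by decide +kernel, by decide +kernel, by decide +kernel, by decide +kernel, by decide +kernel, e8i_str_1234567_1, by decide +kernel, by decide +kernel, by decide +kernel, by decide +kernel, by decide +kernel, by decide +kernel, by decide +kernel, by decide +kernel, by decide +kernel, by decide +kernel⟩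

theorem e8i_str_1234567_2 : StrOK chevE8 (chevE8.simple 2) [121, 123, 124, 126, 127, 128, 141, 152, 153, 154, 156, 157, 159, 164, 165, 166, 167, 169, 170, 171, 172, 194, 195, 197, 200, 204, 205, 207, 210, 226] [(130, 136), (131, 137), (132, 138), (133, 139), (142, 147), (143, 148), (144, 149), (145, 150), (162, 163), (174, 184), (175, 185), (176, 186), (178, 188), (179, 189), (181, 191), (214, 219)] :=
  ⟨e8i_st_1234567_2_0, e8i_st_1234567_2_1, e8i_st_1234567_2_2, e8i_st_1234567_2_3, e8i_st_1234567_2_4, e8i_st_1234567_2_5, e8i_st_1234567_2_6, e8i_st_1234567_2_7, e8i_st_1234567_2_8, e8i_st_1234567_2_9, e8i_st_1234567_2_10, e8i_st_1234567_2_11, e8i_st_1234567_2_12, e8i_st_1234567_2_13, e8i_st_1234567_2_14, e8i_st_1234567_2_15, trivial⟩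

theorem e8i_ok_1234567_2 : ChiStepOK chevE8 e8iP1234567 2 226 [0, 2, 3, 4, 5, 6, 1, 3, 4, 5, 2, 3, 4, 1, 3, 0] [121, 123, 124, 126, 127, 128, 141, 152, 153, 154, 156, 157, 159, 164, 165, 166, 167, 169, 170, 171, 172, 194, 195, 197, 200, 204, 205, 207, 210, 226] [(130, 136), (131, 137), (132, 138), (133, 139), (142, 147), (143, 148), (144, 149), (145, 150), (162, 163), (174, 184), (175, 185), (176, 186), (178, 188), (179, 189), (181, 191), (214, 219)] e8iP234567 e8iL234567 e8iL1234567 := by
  unfold ChiStepOK
  exact ⟨by decide +kernel, by decide +kernel, by decide +kernel, by decide +kernel, by decide +kernel, e8i_str_1234567_2, by decide +kernel, by decide +kernel, by decide +kernel, by decide +kernel, by decide +kernel, by decide +kernel, by decide +kernel, by decide +kernel, by decide +kernel, by decide +kernel⟩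

theorem e8i_str_1234567_3 : StrOK chevE8 (chevE8.simple 3) [121, 123, 124, 137, 138, 139, 143, 144, 145, 147, 156, 157, 159, 162, 165, 166, 167, 169, 178, 179, 181, 184, 185, 186, 200, 204, 205, 207, 219, 226] [(126, 131), (127, 132), (128, 133), (135, 136), (141, 142), (148, 152), (149, 153), (150, 154), (163, 164), (170, 174), (171, 175), (172, 176), (188, 194), (189, 195), (191, 197), (210, 214)] :=
  ⟨e8i_st_1234567_3_0, e8i_st_1234567_3_1, e8i_st_1234567_3_2, e8i_st_1234567_3_3, e8i_st_1234567_3_4, e8i_st_1234567_3_5, e8i_st_1234567_3_6, e8i_st_1234567_3_7, e8i_st_1234567_3_8, e8i_st_1234567_3_9, e8i_st_1234567_3_10, e8i_st_1234567_3_11, e8i_st_1234567_3_12, e8i_st_1234567_3_13, e8i_st_1234567_3_14, e8i_st_1234567_3_15, trivial⟩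

theorem e8i_ok_1234567_3 : ChiStepOK chevE8 e8iP1234567 3 226 [0, 2, 3, 4, 5, 6, 1, 3, 4, 5, 2, 3, 4, 0, 2, 1] [121, 123, 124, 137, 138, 139, 143, 144, 145, 147, 156, 157, 159, 162, 165, 166, 167, 169, 178, 179, 181, 184, 185, 186, 200, 204, 205, 207, 219, 226] [(126, 131), (127, 132), (128, 133), (135, 136), (141, 142), (148, 152), (149, 153), (150, 154), (163, 164), (170, 174), (171, 175), (172, 176), (188, 194), (189, 195), (191, 197), (210, 214)] e8iP234567 e8iL234567 e8iL1234567 := by
  unfold ChiStepOK
  exact ⟨by decide +kernel, by decide +kernel, by decide +kernel, by decide +kernel, by decide +kernel, e8i_str_1234567_3, by decide +kernel, by decide +kernel, by decide +kernel, by decide +kernel, by decide +kernel, by decide +kernel, by decide +kernel, by decide +kernel, by decide +kernel, by decide +kernel⟩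

theorem e8i_str_1234567_4 : StrOK chevE8 (chevE8.simple 4) [121, 132, 133, 135, 138, 139, 141, 144, 145, 149, 150, 152, 159, 162, 163, 166, 167, 171, 172, 174, 181, 184, 191, 194, 195, 204, 205, 214, 219, 226] [(123, 127), (124, 128), (130, 131), (136, 137), (142, 143), (147, 148), (153, 156), (154, 157), (164, 165), (169, 170), (175, 178), (176, 179), (185, 188), (186, 189), (197, 200), (207, 210)] :=
  ⟨e8i_st_1234567_4_0, e8i_st_1234567_4_1, e8i_st_1234567_4_2, e8i_st_1234567_4_3, e8i_st_1234567_4_4, e8i_st_1234567_4_5, e8i_st_1234567_4_6, e8i_st_1234567_4_7, e8i_st_1234567_4_8, e8i_st_1234567_4_9, e8i_st_1234567_4_10, e8i_st_1234567_4_11, e8i_st_1234567_4_12, e8i_st_1234567_4_13, e8i_st_1234567_4_14, e8i_st_1234567_4_15, trivial⟩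

theorem e8i_ok_1234567_4 : ChiStepOK chevE8 e8iP1234567 4 226 [0, 2, 3, 4, 5, 6, 1, 3, 4, 5, 2, 3, 0, 2, 1, 3] [121, 132, 133, 135, 138, 139, 141, 144, 145, 149, 150, 152, 159, 162, 163, 166, 167, 171, 172, 174, 181, 184, 191, 194, 195, 204, 205, 214, 219, 226] [(123, 127), (124, 128), (130, 131), (136, 137), (142, 143), (147, 148), (153, 156), (154, 157), (164, 165), (169, 170), (175, 178), (176, 179), (185, 188), (186, 189), (197, 200), (207, 210)] e8iP234567 e8iL234567 e8iL1234567 := by
  unfold ChiStepOK
  exact ⟨by decide +kernel, by decide +kernel, by decide +kernel, by decide +kernel, by decide +kernel, e8i_str_1234567_4, by decide +kernel, by decide +kernel, by decide +kernel, by decide +kernel, by decide +kernel, by decide +kernel, by decide +kernel, by decide +kernel, by decide +kernel, by decide +kernel⟩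

theorem e8i_str_1234567_5 : StrOK chevE8 (chevE8.simple 5) [128, 130, 133, 135, 136, 139, 141, 142, 145, 147, 150, 154, 156, 162, 163, 164, 167, 169, 172, 176, 178, 186, 188, 194, 200, 204, 210, 214, 219, 226] [(121, 124), (126, 127), (131, 132), (137, 138), (143, 144), (148, 149), (152, 153), (157, 159), (165, 166), (170, 171), (174, 175), (179, 181), (184, 185), (189, 191), (195, 197), (205, 207)] :=
  ⟨e8i_st_1234567_5_0, e8i_st_1234567_5_1, e8i_st_1234567_5_2, e8i_st_1234567_5_3, e8i_st_1234567_5_4, e8i_st_1234567_5_5, e8i_st_1234567_5_6, e8i_st_1234567_5_7, e8i_st_1234567_5_8, e8i_st_1234567_5_9, e8i_st_1234567_5_10, e8i_st_1234567_5_11, e8i_st_1234567_5_12, e8i_st_1234567_5_13, e8i_st_1234567_5_14, e8i_st_1234567_5_15, trivial⟩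

theorem e8i_ok_1234567_5 : ChiStepOK chevE8 e8iP1234567 5 226 [0, 2, 3, 4, 5, 6, 1, 3, 4, 2, 3, 0, 2, 1, 3, 4] [128, 130, 133, 135, 136, 139, 141, 142, 145, 147, 150, 154, 156, 162, 163, 164, 167, 169, 172, 176, 178, 186, 188, 194, 200, 204, 210, 214, 219, 226] [(121, 124), (126, 127), (131, 132), (137, 138), (143, 144), (148, 149), (152, 153), (157, 159), (165, 166), (170, 171), (174, 175), (179, 181), (184, 185), (189, 191), (195, 197), (205, 207)] e8iP234567 e8iL234567 e8iL1234567 := by
  unfold ChiStepOK
  exact ⟨by decide +kernel, by decide +kernel, by decide +kernel, by decide +kernel, by decide +kernel, e8i_str_1234567_5, by decide +kernel, by decide +kernel, by decide +kernel, by decide +kernel, by decide +kernel, by decide +kernel, by decide +kernel, by decide +kernel, by decide +kernel, by decide +kernel⟩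

theorem e8i_str_1234567_6 : StrOK chevE8 (chevE8.simple 6) [126, 130, 131, 135, 136, 137, 141, 142, 143, 147, 148, 152, 159, 162, 163, 164, 165, 169, 170, 174, 181, 184, 191, 197, 200, 207, 210, 214, 219, 226] [(123, 124), (127, 128), (132, 133), (138, 139), (144, 145), (149, 150), (153, 154), (156, 157), (166, 167), (171, 172), (175, 176), (178, 179), (185, 186), (188, 189), (194, 195), (204, 205)] :=
  ⟨e8i_st_1234567_6_0, e8i_st_1234567_6_1, e8i_st_1234567_6_2, e8i_st_1234567_6_3, e8i_st_1234567_6_4, e8i_st_1234567_6_5, e8i_st_1234567_6_6, e8i_st_1234567_6_7, e8i_st_1234567_6_8, e8i_st_1234567_6_9, e8i_st_1234567_6_10, e8i_st_1234567_6_11, e8i_st_1234567_6_12, e8i_st_1234567_6_13, e8i_st_1234567_6_14, e8i_st_1234567_6_15, trivial⟩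

theorem e8i_ok_1234567_6 : ChiStepOK chevE8 e8iP1234567 6 226 [0, 2, 3, 4, 5, 1, 3, 4, 2, 3, 0, 2, 1, 3, 4, 5] [126, 130, 131, 135, 136, 137, 141, 142, 143, 147, 148, 152, 159, 162, 163, 164, 165, 169, 170, 174, 181, 184, 191, 197, 200, 207, 210, 214, 219, 226] [(123, 124), (127, 128), (132, 133), (138, 139), (144, 145), (149, 150), (153, 154), (156, 157), (166, 167), (171, 172), (175, 176), (178, 179), (185, 186), (188, 189), (194, 195), (204, 205)] e8iP234567 e8iL234567 e8iL1234567 := by
  unfold ChiStepOK
  exact ⟨by decide +kernel, by decide +kernel, by decide +kernel, by decide +kernel, by decide +kernel, e8i_str_1234567_6, by decide +kernel, by decide +kernel, by decide +kernel, by decide +kernel, by decide +kernel, by decide +kernel, by decide +kernel, by decide +kernel, by decide +kernel, by decide +kernel⟩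

theorem e8i_str_12345678_0 : StrOK chevE8 (chevE8.simple 0) [120, 121, 122, 123, 124, 125, 126, 127, 128, 129, 130, 131, 132, 133, 134, 141, 142, 143, 144, 145, 146, 184, 185, 186, 187, 188, 189, 190, 191, 192, 193, 194, 195, 196, 197, 198, 199, 200, 201, 202, 203, 204, 205, 206, 207, 208, 209, 210, 211, 212, 213, 214, 215, 216, 217, 218, 232, 234, 235, 236, 237, 238, 239] [(135, 163), (136, 164), (137, 165), (138, 166), (139, 167), (140, 168), (147, 169), (148, 170), (149, 171), (150, 172), (151, 173), (152, 174), (153, 175), (154, 176), (155, 177), (156, 178), (157, 179), (158, 180), (159, 181), (160, 182), (161, 183), (219, 226), (220, 227), (221, 228), (222, 229), (223, 230), (224, 231), (225, 233)] :=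
  ⟨e8i_st_12345678_0_0, e8i_st_12345678_0_1, e8i_st_12345678_0_2, e8i_st_12345678_0_3, e8i_st_12345678_0_4, e8i_st_12345678_0_5, e8i_st_12345678_0_6, e8i_st_12345678_0_7, e8i_st_12345678_0_8, e8i_st_12345678_0_9, e8i_st_12345678_0_10, e8i_st_12345678_0_11, e8i_st_12345678_0_12, e8i_st_12345678_0_13, e8i_st_12345678_0_14, e8i_st_12345678_0_15, e8i_st_12345678_0_16, e8i_st_12345678_0_17, e8i_st_12345678_0_18, e8i_st_12345678_0_19, e8i_st_12345678_0_20, e8i_st_12345678_0_21, e8i_st_12345678_0_22, e8i_st_12345678_0_23, e8i_st_12345678_0_24, e8i_st_12345678_0_25, e8i_st_12345678_0_26, e8i_st_12345678_0_27, trivial⟩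

theorem e8i_ok_12345678_0 : ChiStepOK chevE8 e8iP12345678 0 239 [7, 6, 5, 4, 3, 2, 1, 3, 4, 5, 6, 7, 0, 2, 3, 4, 5, 6, 1, 3, 4, 5, 2, 3, 4, 1, 3, 2] [120, 121, 122, 123, 124, 125, 126, 127, 128, 129, 130, 131, 132, 133, 134, 141, 142, 143, 144, 145, 146, 184, 185, 186, 187, 188, 189, 190, 191, 192, 193, 194, 195, 196, 197, 198, 199, 200, 201, 202, 203, 204, 205, 206, 207, 208, 209, 210, 211, 212, 213, 214, 215, 216, 217, 218, 232, 234, 235, 236, 237, 238, 239] [(135, 163), (136, 164), (137, 165), (138, 166), (139, 167), (140, 168), (147, 169), (148, 170), (149, 171), (150, 172), (151, 173), (152, 174), (153, 175), (154, 176), (155, 177), (156, 178), (157, 179), (158, 180), (159, 181), (160, 182), (161, 183), (219, 226), (220, 227), (221, 228), (222, 229), (223, 230), (224, 231), (225, 233)] e8iP1234567 e8iL1234567 e8iL12345678 := by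
  unfold ChiStepOK
  exact ⟨by decide +kernel, by decide +kernel, by decide +kernel, by decide +kernel, by decide +kernel, e8i_str_12345678_0, by decide +kernel, by decide +kernel, by decide +kernel, by decide +kernel, by decide +kernel, by decide +kernel, by decide +kernel, by decide +kernel, by decide +kernel, by decide +kernel⟩

theorem e8i_str_12345678_1 : StrOK chevE8 (chevE8.simple 1) [120, 121, 122, 123, 124, 125, 126, 127, 128, 129, 135, 152, 153, 154, 155, 156, 157, 158, 159, 160, 161, 162, 163, 174, 175, 176, 177, 178, 179, 180, 181, 182, 183, 184, 185, 186, 187, 188, 189, 190, 191, 192, 193, 214, 215, 216, 217, 218, 219, 220, 221, 222, 223, 226, 227, 228, 229, 230, 235, 236, 237, 238, 239] [(130, 142), (131, 143), (132, 144), (133, 145), (134, 146), (136, 147), (137, 148), (138, 149), (139, 150), (140, 151), (164, 169), (165, 170), (166, 171), (167, 172), (168, 173), (194, 204), (195, 205), (196, 206), (197, 207), (198, 208), (199, 209), (200, 210), (201, 211), (202, 212), (203, 213), (224, 225), (231, 233), (232, 234)] :=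
  ⟨e8i_st_12345678_1_0, e8i_st_12345678_1_1, e8i_st_12345678_1_2, e8i_st_12345678_1_3, e8i_st_12345678_1_4, e8i_st_12345678_1_5, e8i_st_12345678_1_6, e8i_st_12345678_1_7, e8i_st_12345678_1_8, e8i_st_12345678_1_9, e8i_st_12345678_1_10, e8i_st_12345678_1_11, e8i_st_12345678_1_12, e8i_st_12345678_1_13, e8i_st_12345678_1_14, e8i_st_12345678_1_15, e8i_st_12345678_1_16, e8i_st_12345678_1_17, e8i_st_12345678_1_18, e8i_st_12345678_1_19, e8i_st_12345678_1_20, e8i_st_12345678_1_21, e8i_st_12345678_1_22, e8i_st_12345678_1_23, e8i_st_12345678_1_24, e8i_st_12345678_1_25, e8i_st_12345678_1_26, e8i_st_12345678_1_27, trivial⟩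

theorem e8i_ok_12345678_1 : ChiStepOK chevE8 e8iP12345678 1 239 [7, 6, 5, 4, 3, 2, 1, 3, 4, 5, 6, 7, 0, 2, 3, 4, 5, 6, 1, 3, 4, 5, 2, 3, 4, 0, 2, 3] [120, 121, 122, 123, 124, 125, 126, 127, 128, 129, 135, 152, 153, 154, 155, 156, 157, 158, 159, 160, 161, 162, 163, 174, 175, 176, 177, 178, 179, 180, 181, 182, 183, 184, 185, 186, 187, 188, 189, 190, 191, 192, 193, 214, 215, 216, 217, 218, 219, 220, 221, 222, 223, 226, 227, 228, 229, 230, 235, 236, 237, 238, 239] [(130, 142), (131, 143), (132, 144), (133, 145), (134, 146), (136, 147), (137, 148), (138, 149), (139, 150), (140, 151), (164, 169), (165, 170), (166, 171), (167, 172), (168, 173), (194, 204), (195, 205), (196, 206), (197, 207), (198, 208), (199, 209), (200, 210), (201, 211), (202, 212), (203, 213), (224, 225), (231, 233), (232, 234)] e8iP1234567 e8iL1234567 e8iL12345678 := by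
  unfold ChiStepOK
  exact ⟨by decide +kernel, by decide +kernel, by decide +kernel, by decide +kernel, by decide +kernel, e8i_str_12345678_1, by decide +kernel, by decide +kernel, by decide +kernel, by decide +kernel, by decide +kernel, by decide +kernel, by decide +kernel, by decide +kernel, by decide +kernel, by decide +kernel⟩

theorem e8i_str_12345678_2 : StrOK chevE8 (chevE8.simple 2) [120, 121, 122, 123, 124, 125, 126, 127, 128, 129, 141, 152, 153, 154, 155, 156, 157, 158, 159, 160, 161, 164, 165, 166, 167, 168, 169, 170, 171, 172, 173, 194, 195, 196, 197, 198, 199, 200, 201, 202, 203, 204, 205, 206, 207, 208, 209, 210, 211, 212, 213, 224, 225, 226, 227, 228, 229, 230, 235, 236, 237, 238, 239] [(130, 136), (131, 137), (132, 138), (133, 139), (134, 140), (142, 147), (143, 148), (144, 149), (145, 150), (146, 151), (162, 163), (174, 184), (175, 185), (176, 186), (177, 187), (178, 188), (179, 189), (180, 190), (181, 191), (182, 192), (183, 193), (214, 219), (215, 220), (216, 221), (217, 222), (218, 223), (231, 232), (233, 234)] :=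
  ⟨e8i_st_12345678_2_0, e8i_st_12345678_2_1, e8i_st_12345678_2_2, e8i_st_12345678_2_3, e8i_st_12345678_2_4, e8i_st_12345678_2_5, e8i_st_12345678_2_6, e8i_st_12345678_2_7, e8i_st_12345678_2_8, e8i_st_12345678_2_9, e8i_st_12345678_2_10, e8i_st_12345678_2_11, e8i_st_12345678_2_12, e8i_st_12345678_2_13, e8i_st_12345678_2_14, e8i_st_12345678_2_15, e8i_st_12345678_2_16, e8i_st_12345678_2_17, e8i_st_12345678_2_18, e8i_st_12345678_2_19, e8i_st_12345678_2_20, e8i_st_12345678_2_21, e8i_st_12345678_2_22, e8i_st_12345678_2_23, e8i_st_12345678_2_24, e8i_st_12345678_2_25, e8i_st_12345678_2_26, e8i_st_12345678_2_27, trivial⟩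

theorem e8i_ok_12345678_2 : ChiStepOK chevE8 e8iP12345678 2 239 [7, 6, 5, 4, 3, 2, 1, 3, 4, 5, 6, 7, 0, 2, 3, 4, 5, 6, 1, 3, 4, 5, 2, 3, 4, 1, 3, 0] [120, 121, 122, 123, 124, 125, 126, 127, 128, 129, 141, 152, 153, 154, 155, 156, 157, 158, 159, 160, 161, 164, 165, 166, 167, 168, 169, 170, 171, 172, 173, 194, 195, 196, 197, 198, 199, 200, 201, 202, 203, 204, 205, 206, 207, 208, 209, 210, 211, 212, 213, 224, 225, 226, 227, 228, 229, 230, 235, 236, 237, 238, 239] [(130, 136), (131, 137), (132, 138), (133, 139), (134, 140), (142, 147), (143, 148), (144, 149), (145, 150), (146, 151), (162, 163), (174, 184), (175, 185), (176, 186), (177, 187), (178, 188), (179, 189), (180, 190), (181, 191), (182, 192), (183, 193), (214, 219), (215, 220), (216, 221), (217, 222), (218, 223), (231, 232), (233, 234)] e8iP1234567 e8iL1234567 e8iL12345678 := by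
  unfold ChiStepOK
  exact ⟨by decide +kernel, by decide +kernel, by decide +kernel, by decide +kernel, by decide +kernel, e8i_str_12345678_2, by decide +kernel, by decide +kernel, by decide +kernel, by decide +kernel, by decide +kernel, by decide +kernel, by decide +kernel, by decide +kernel, by decide +kernel, by decide +kernel⟩

theorem e8i_str_12345678_3 : StrOK chevE8 (chevE8.simple 3) [120, 121, 122, 123, 124, 125, 137, 138, 139, 140, 143, 144, 145, 146, 147, 156, 157, 158, 159, 160, 161, 162, 165, 166, 167, 168, 169, 178, 179, 180, 181, 182, 183, 184, 185, 186, 187, 200, 201, 202, 203, 204, 205, 206, 207, 208, 209, 218, 219, 220, 221, 222, 225, 226, 227, 228, 229, 232, 233, 236, 237, 238, 239] [(126, 131), (127, 132), (128, 133), (129, 134), (135, 136), (141, 142), (148, 152), (149, 153), (150, 154), (151, 155), (163, 164), (170, 174), (171, 175), (172, 176), (173, 177), (188, 194), (189, 195), (190, 196), (191, 197), (192, 198), (193, 199), (210, 214), (211, 215), (212, 216), (213, 217), (223, 224), (230, 231), (234, 235)] :=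
  ⟨e8i_st_12345678_3_0, e8i_st_12345678_3_1, e8i_st_12345678_3_2, e8i_st_12345678_3_3, e8i_st_12345678_3_4, e8i_st_12345678_3_5, e8i_st_12345678_3_6, e8i_st_12345678_3_7, e8i_st_12345678_3_8, e8i_st_12345678_3_9, e8i_st_12345678_3_10, e8i_st_12345678_3_11, e8i_st_12345678_3_12, e8i_st_12345678_3_13, e8i_st_12345678_3_14, e8i_st_12345678_3_15, e8i_st_12345678_3_16, e8i_st_12345678_3_17, e8i_st_12345678_3_18, e8i_st_12345678_3_19, e8i_st_12345678_3_20, e8i_st_12345678_3_21, e8i_st_12345678_3_22, e8i_st_12345678_3_23, e8i_st_12345678_3_24, e8i_st_12345678_3_25, e8i_st_12345678_3_26, e8i_st_12345678_3_27, trivial⟩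

theorem e8i_ok_12345678_3 : ChiStepOK chevE8 e8iP12345678 3 239 [7, 6, 5, 4, 3, 2, 1, 3, 4, 5, 6, 7, 0, 2, 3, 4, 5, 6, 1, 3, 4, 5, 2, 3, 4, 0, 2, 1] [120, 121, 122, 123, 124, 125, 137, 138, 139, 140, 143, 144, 145, 146, 147, 156, 157, 158, 159, 160, 161, 162, 165, 166, 167, 168, 169, 178, 179, 180, 181, 182, 183, 184, 185, 186, 187, 200, 201, 202, 203, 204, 205, 206, 207, 208, 209, 218, 219, 220, 221, 222, 225, 226, 227, 228, 229, 232, 233, 236, 237, 238, 239] [(126, 131), (127, 132), (128, 133), (129, 134), (135, 136), (141, 142), (148, 152), (149, 153), (150, 154), (151, 155), (163, 164), (170, 174), (171, 175), (172, 176), (173, 177), (188, 194), (189, 195), (190, 196), (191, 197), (192, 198), (193, 199), (210, 214), (211, 215), (212, 216), (213, 217), (223, 224), (230, 231), (234, 235)] e8iP1234567 e8iL1234567 e8iL12345678 := by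
  unfold ChiStepOK
  exact ⟨by decide +kernel, by decide +kernel, by decide +kernel, by decide +kernel, by decide +kernel, e8i_str_12345678_3, by decide +kernel, by decide +kernel, by decide +kernel, by decide +kernel, by decide +kernel, by decide +kernel, by decide +kernel, by decide +kernel, by decide +kernel, by decide +kernel⟩

theorem e8i_str_12345678_4 : StrOK chevE8 (chevE8.simple 4) [120, 121, 122, 132, 133, 134, 135, 138, 139, 140, 141, 144, 145, 146, 149, 150, 151, 152, 159, 160, 161, 162, 163, 166, 167, 168, 171, 172, 173, 174, 181, 182, 183, 184, 191, 192, 193, 194, 195, 196, 203, 204, 205, 206, 213, 214, 215, 216, 219, 220, 221, 224, 225, 226, 227, 228, 231, 232, 233, 234, 237, 238, 239] [(123, 127), (124, 128), (125, 129), (130, 131), (136, 137), (142, 143), (147, 148), (153, 156), (154, 157), (155, 158), (164, 165), (169, 170), (175, 178), (176, 179), (177, 180), (185, 188), (186, 189), (187, 190), (197, 200), (198, 201), (199, 202), (207, 210), (208, 211), (209, 212), (217, 218), (222, 223), (229, 230), (235, 236)] :=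
  ⟨e8i_st_12345678_4_0, e8i_st_12345678_4_1, e8i_st_12345678_4_2, e8i_st_12345678_4_3, e8i_st_12345678_4_4, e8i_st_12345678_4_5, e8i_st_12345678_4_6, e8i_st_12345678_4_7, e8i_st_12345678_4_8, e8i_st_12345678_4_9, e8i_st_12345678_4_10, e8i_st_12345678_4_11, e8i_st_12345678_4_12, e8i_st_12345678_4_13, e8i_st_12345678_4_14, e8i_st_12345678_4_15, e8i_st_12345678_4_16, e8i_st_12345678_4_17, e8i_st_12345678_4_18, e8i_st_12345678_4_19, e8i_st_12345678_4_20, e8i_st_12345678_4_21, e8i_st_12345678_4_22, e8i_st_12345678_4_23, e8i_st_12345678_4_24, e8i_st_12345678_4_25, e8i_st_12345678_4_26, e8i_st_12345678_4_27, trivial⟩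

theorem e8i_ok_12345678_4 : ChiStepOK chevE8 e8iP12345678 4 239 [7, 6, 5, 4, 3, 2, 1, 3, 4, 5, 6, 7, 0, 2, 3, 4, 5, 6, 1, 3, 4, 5, 2, 3, 0, 2, 1, 3] [120, 121, 122, 132, 133, 134, 135, 138, 139, 140, 141, 144, 145, 146, 149, 150, 151, 152, 159, 160, 161, 162, 163, 166, 167, 168, 171, 172, 173, 174, 181, 182, 183, 184, 191, 192, 193, 194, 195, 196, 203, 204, 205, 206, 213, 214, 215, 216, 219, 220, 221, 224, 225, 226, 227, 228, 231, 232, 233, 234, 237, 238, 239] [(123, 127), (124, 128), (125, 129), (130, 131), (136, 137), (142, 143), (147, 148), (153, 156), (154, 157), (155, 158), (164, 165), (169, 170), (175, 178), (176, 179), (177, 180), (185, 188), (186, 189), (187, 190), (197, 200), (198, 201), (199, 202), (207, 210), (208, 211), (209, 212), (217, 218), (222, 223), (229, 230), (235, 236)] e8iP1234567 e8iL1234567 e8iL12345678 := by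
  unfold ChiStepOK
  exact ⟨by decide +kernel, by decide +kernel, by decide +kernel, by decide +kernel, by decide +kernel, e8i_str_12345678_4, by decide +kernel, by decide +kernel, by decide +kernel, by decide +kernel, by decide +kernel, by decide +kernel, by decide +kernel, by decide +kernel, by decide +kernel, by decide +kernel⟩

theorem e8i_str_12345678_5 : StrOK chevE8 (chevE8.simple 5) [120, 128, 129, 130, 133, 134, 135, 136, 139, 140, 141, 142, 145, 146, 147, 150, 151, 154, 155, 156, 161, 162, 163, 164, 167, 168, 169, 172, 173, 176, 177, 178, 183, 186, 187, 188, 193, 194, 199, 200, 201, 204, 209, 210, 211, 214, 215, 218, 219, 220, 223, 224, 225, 226, 227, 230, 231, 232, 233, 234, 235, 238, 239] [(121, 124), (122, 125), (126, 127), (131, 132), (137, 138), (143, 144), (148, 149), (152, 153), (157, 159), (158, 160), (165, 166), (170, 171), (174, 175), (179, 181), (180, 182), (184, 185), (189, 191), (190, 192), (195, 197), (196, 198), (202, 203), (205, 207), (206, 208), (212, 213), (216, 217), (221, 222), (228, 229), (236, 237)] :=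
  ⟨e8i_st_12345678_5_0, e8i_st_12345678_5_1, e8i_st_12345678_5_2, e8i_st_12345678_5_3, e8i_st_12345678_5_4, e8i_st_12345678_5_5, e8i_st_12345678_5_6, e8i_st_12345678_5_7, e8i_st_12345678_5_8, e8i_st_12345678_5_9, e8i_st_12345678_5_10, e8i_st_12345678_5_11, e8i_st_12345678_5_12, e8i_st_12345678_5_13, e8i_st_12345678_5_14, e8i_st_12345678_5_15, e8i_st_12345678_5_16, e8i_st_12345678_5_17, e8i_st_12345678_5_18, e8i_st_12345678_5_19, e8i_st_12345678_5_20, e8i_st_12345678_5_21, e8i_st_12345678_5_22, e8i_st_12345678_5_23, e8i_st_12345678_5_24, e8i_st_12345678_5_25, e8i_st_12345678_5_26, e8i_st_12345678_5_27, trivial⟩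

theorem e8i_ok_12345678_5 : ChiStepOK chevE8 e8iP12345678 5 239 [7, 6, 5, 4, 3, 2, 1, 3, 4, 5, 6, 7, 0, 2, 3, 4, 5, 6, 1, 3, 4, 2, 3, 0, 2, 1, 3, 4] [120, 128, 129, 130, 133, 134, 135, 136, 139, 140, 141, 142, 145, 146, 147, 150, 151, 154, 155, 156, 161, 162, 163, 164, 167, 168, 169, 172, 173, 176, 177, 178, 183, 186, 187, 188, 193, 194, 199, 200, 201, 204, 209, 210, 211, 214, 215, 218, 219, 220, 223, 224, 225, 226, 227, 230, 231, 232, 233, 234, 235, 238, 239] [(121, 124), (122, 125), (126, 127), (131, 132), (137, 138), (143, 144), (148, 149), (152, 153), (157, 159), (158, 160), (165, 166), (170, 171), (174, 175), (179, 181), (180, 182), (184, 185), (189, 191), (190, 192), (195, 197), (196, 198), (202, 203), (205, 207), (206, 208), (212, 213), (216, 217), (221, 222), (228, 229), (236, 237)] e8iP1234567 e8iL1234567 e8iL12345678 := by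
  unfold ChiStepOK
  exact ⟨by decide +kernel, by decide +kernel, by decide +kernel, by decide +kernel, by decide +kernel, e8i_str_12345678_5, by decide +kernel, by decide +kernel, by decide +kernel, by decide +kernel, by decide +kernel, by decide +kernel, by decide +kernel, by decide +kernel, by decide +kernel, by decide +kernel⟩

theorem e8i_str_12345678_6 : StrOK chevE8 (chevE8.simple 6) [125, 126, 129, 130, 131, 134, 135, 136, 137, 140, 141, 142, 143, 146, 147, 148, 151, 152, 155, 158, 159, 162, 163, 164, 165, 168, 169, 170, 173, 174, 177, 180, 181, 184, 187, 190, 191, 196, 197, 200, 203, 206, 207, 210, 213, 214, 217, 218, 219, 222, 223, 224, 225, 226, 229, 230, 231, 232, 233, 234, 235, 236, 239] [(120, 122), (123, 124), (127, 128), (132, 133), (138, 139), (144, 145), (149, 150), (153, 154), (156, 157), (160, 161), (166, 167), (171, 172), (175, 176), (178, 179), (182, 183), (185, 186), (188, 189), (192, 193), (194, 195), (198, 199), (201, 202), (204, 205), (208, 209), (211, 212), (215, 216), (220, 221), (227, 228), (237, 238)] :=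
  ⟨e8i_st_12345678_6_0, e8i_st_12345678_6_1, e8i_st_12345678_6_2, e8i_st_12345678_6_3, e8i_st_12345678_6_4, e8i_st_12345678_6_5, e8i_st_12345678_6_6, e8i_st_12345678_6_7, e8i_st_12345678_6_8, e8i_st_12345678_6_9, e8i_st_12345678_6_10, e8i_st_12345678_6_11, e8i_st_12345678_6_12, e8i_st_12345678_6_13, e8i_st_12345678_6_14, e8i_st_12345678_6_15, e8i_st_12345678_6_16, e8i_st_12345678_6_17, e8i_st_12345678_6_18, e8i_st_12345678_6_19, e8i_st_12345678_6_20, e8i_st_12345678_6_21, e8i_st_12345678_6_22, e8i_st_12345678_6_23, e8i_st_12345678_6_24, e8i_st_12345678_6_25, e8i_st_12345678_6_26, e8i_st_12345678_6_27, trivial⟩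

theorem e8i_ok_12345678_6 : ChiStepOK chevE8 e8iP12345678 6 239 [7, 6, 5, 4, 3, 2, 1, 3, 4, 5, 6, 7, 0, 2, 3, 4, 5, 1, 3, 4, 2, 3, 0, 2, 1, 3, 4, 5] [125, 126, 129, 130, 131, 134, 135, 136, 137, 140, 141, 142, 143, 146, 147, 148, 151, 152, 155, 158, 159, 162, 163, 164, 165, 168, 169, 170, 173, 174, 177, 180, 181, 184, 187, 190, 191, 196, 197, 200, 203, 206, 207, 210, 213, 214, 217, 218, 219, 222, 223, 224, 225, 226, 229, 230, 231, 232, 233, 234, 235, 236, 239] [(120, 122), (123, 124), (127, 128), (132, 133), (138, 139), (144, 145), (149, 150), (153, 154), (156, 157), (160, 161), (166, 167), (171, 172), (175, 176), (178, 179), (182, 183), (185, 186), (188, 189), (192, 193), (194, 195), (198, 199), (201, 202), (204, 205), (208, 209), (211, 212), (215, 216), (220, 221), (227, 228), (237, 238)] e8iP1234567 e8iL1234567 e8iL12345678 := by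
  unfold ChiStepOK
  exact ⟨by decide +kernel, by decide +kernel, by decide +kernel, by decide +kernel, by decide +kernel, e8i_str_12345678_6, by decide +kernel, by decide +kernel, by decide +kernel, by decide +kernel, by decide +kernel, by decide +kernel, by decide +kernel, by decide +kernel, by decide +kernel, by decide +kernel⟩

theorem e8i_str_12345678_7 : StrOK chevE8 (chevE8.simple 7) [123, 126, 127, 130, 131, 132, 135, 136, 137, 138, 141, 142, 143, 144, 147, 148, 149, 152, 153, 156, 161, 162, 163, 164, 165, 166, 169, 170, 171, 174, 175, 178, 183, 184, 185, 188, 193, 194, 199, 202, 203, 204, 209, 212, 213, 216, 217, 218, 221, 222, 223, 224, 225, 228, 229, 230, 231, 232, 233, 234, 235, 236, 237] [(121, 122), (124, 125), (128, 129), (133, 134), (139, 140), (145, 146), (150, 151), (154, 155), (157, 158), (159, 160), (167, 168), (172, 173), (176, 177), (179, 180), (181, 182), (186, 187), (189, 190), (191, 192), (195, 196), (197, 198), (200, 201), (205, 206), (207, 208), (210, 211), (214, 215), (219, 220), (226, 227), (238, 239)] :=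
  ⟨e8i_st_12345678_7_0, e8i_st_12345678_7_1, e8i_st_12345678_7_2, e8i_st_12345678_7_3, e8i_st_12345678_7_4, e8i_st_12345678_7_5, e8i_st_12345678_7_6, e8i_st_12345678_7_7, e8i_st_12345678_7_8, e8i_st_12345678_7_9, e8i_st_12345678_7_10, e8i_st_12345678_7_11, e8i_st_12345678_7_12, e8i_st_12345678_7_13, e8i_st_12345678_7_14, e8i_st_12345678_7_15, e8i_st_12345678_7_16, e8i_st_12345678_7_17, e8i_st_12345678_7_18, e8i_st_12345678_7_19, e8i_st_12345678_7_20, e8i_st_12345678_7_21, e8i_st_12345678_7_22, e8i_st_12345678_7_23, e8i_st_12345678_7_24, e8i_st_12345678_7_25, e8i_st_12345678_7_26, e8i_st_12345678_7_27, trivial⟩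

theorem e8i_ok_12345678_7 : ChiStepOK chevE8 e8iP12345678 7 239 [7, 6, 5, 4, 3, 2, 1, 3, 4, 5, 6, 0, 2, 3, 4, 5, 1, 3, 4, 2, 3, 0, 2, 1, 3, 4, 5, 6] [123, 126, 127, 130, 131, 132, 135, 136, 137, 138, 141, 142, 143, 144, 147, 148, 149, 152, 153, 156, 161, 162, 163, 164, 165, 166, 169, 170, 171, 174, 175, 178, 183, 184, 185, 188, 193, 194, 199, 202, 203, 204, 209, 212, 213, 216, 217, 218, 221, 222, 223, 224, 225, 228, 229, 230, 231, 232, 233, 234, 235, 236, 237] [(121, 122), (124, 125), (128, 129), (133, 134), (139, 140), (145, 146), (150, 151), (154, 155), (157, 158), (159, 160), (167, 168), (172, 173), (176, 177), (179, 180), (181, 182), (186, 187), (189, 190), (191, 192), (195, 196), (197, 198), (200, 201), (205, 206), (207, 208), (210, 211), (214, 215), (219, 220), (226, 227), (238, 239)] e8iP1234567 e8iL1234567 e8iL12345678 := by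
  unfold ChiStepOK
  exact ⟨by decide +kernel, by decide +kernel, by decide +kernel, by decide +kernel, by decide +kernel, e8i_str_12345678_7, by decide +kernel, by decide +kernel, by decide +kernel, by decide +kernel, by decide +kernel, by decide +kernel, by decide +kernel, by decide +kernel, by decide +kernel, by decide +kernel⟩

end Cfsg.Agent.Helper81
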