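/-
helper81: involutions of the Chevalley group of type E8 in characteristic two - the Levi recursion: every involution of the subgroup of the positive roots is conjugate to one of 86 standard words
(generated by tools/calls/e7scripts/xgen.py; the tables are checked by the kernel, one string at a time).
-/
import Cfsg.Agent.Helper81.E8IOk

set_option autoImplicit false
set_option linter.unusedSectionVars false
set_option linter.unusedVariables false
set_option maxRecDepth 100000

namespace Cfsg.Agent.Helper81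

open Cfsg Cfsg.Lie Cfsg.Agent.Helper36 Cfsg.Agent.Helper17 Cfsg.Agent.Helper18 Cfsg.Agent.Helper18.RSub
  Cfsg.Agent.Helper38


section E8IRec

variable {F : Type*} [Field F] {η : ℕ → ℕ → ℤ}

theorem e8i_hD : chevE8 ∈ [chevG2, chevB2, chevD4, chevF4, chevE6, chevE7, chevE8] := by simp

theorem e8i_claim_2 [Finite F] [CharP F 2] (R : BRel chevE8 F η) (hL : ChiLowS R) (hC : ChiCocS R) :
    ChiClaim R e8iP2 e8iL2 := by
  refine chi_claim e8i_hD R hL hC e8iP2 [1] e8iL2 e8i_low_2 (by decide +kernel) (by decide +kernel) ?_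
  intro j hj
  simp only [List.mem_cons, List.not_mem_nil, or_false] at hj
  subst hj
  · exact ⟨141, [], [], [], [], [[]], e8i_ok_2_1, chi_claim_nil R⟩

theorem e8i_claim_3 [Finite F] [CharP F 2] (R : BRel chevE8 F η) (hL : ChiLowS R) (hC : ChiCocS R) :
    ChiClaim R e8iP3 e8iL3 := by
  refine chi_claim e8i_hD R hL hC e8iP3 [2] e8iL3 e8i_low_3 (by decide +kernel) (by decide +kernel) ?_
  intro j hj
  simp only [List.mem_cons, List.not_mem_nil, or_false] at hj
  subst hj
  · exact ⟨135, [], [], [], [], [[]], e8i_ok_3_2, chi_claim_nil R⟩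

theorem e8i_claim_5 [Finite F] [CharP F 2] (R : BRel chevE8 F η) (hL : ChiLowS R) (hC : ChiCocS R) :
    ChiClaim R e8iP5 e8iL5 := by
  refine chi_claim e8i_hD R hL hC e8iP5 [4] e8iL5 e8i_low_5 (by decide +kernel) (by decide +kernel) ?_
  intro j hj
  simp only [List.mem_cons, List.not_mem_nil, or_false] at hj
  subst hj
  · exact ⟨126, [], [], [], [], [[]], e8i_ok_5_4, chi_claim_nil R⟩

theorem e8i_claim_7 [Finite F] [CharP F 2] (R : BRel chevE8 F η) (hL : ChiLowS R) (hC : ChiCocS R) :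
    ChiClaim R e8iP7 e8iL7 := by
  refine chi_claim e8i_hD R hL hC e8iP7 [6] e8iL7 e8i_low_7 (by decide +kernel) (by decide +kernel) ?_
  intro j hj
  simp only [List.mem_cons, List.not_mem_nil, or_false] at hj
  subst hj
  · exact ⟨121, [], [], [], [], [[]], e8i_ok_7_6, chi_claim_nil R⟩

theorem e8i_claim_23 [Finite F] [CharP F 2] (R : BRel chevE8 F η) (hL : ChiLowS R) (hC : ChiCocS R) :
    ChiClaim R e8iP23 e8iL23 := by
  refine chi_claim e8i_hD R hL hC e8iP23 [1, 2] e8iL23 e8i_low_23 (by decide +kernel) (by decide +kernel) ?_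
  intro j hj
  simp only [List.mem_cons, List.not_mem_nil, or_false] at hj
  rcases hj with rfl | rfl
  · exact ⟨141, [], [135], [], e8iP3, e8iL3, e8i_ok_23_1, e8i_claim_3 R hL hC⟩
  · exact ⟨135, [], [141], [], e8iP2, e8iL2, e8i_ok_23_2, e8i_claim_2 R hL hC⟩

theorem e8i_claim_25 [Finite F] [CharP F 2] (R : BRel chevE8 F η) (hL : ChiLowS R) (hC : ChiCocS R) :
    ChiClaim R e8iP25 e8iL25 := by
  refine chi_claim e8i_hD R hL hC e8iP25 [1, 4] e8iL25 e8i_low_25 (by decide +kernel) (by decide +kernel) ?_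
  intro j hj
  simp only [List.mem_cons, List.not_mem_nil, or_false] at hj
  rcases hj with rfl | rfl
  · exact ⟨141, [], [126], [], e8iP5, e8iL5, e8i_ok_25_1, e8i_claim_5 R hL hC⟩
  · exact ⟨126, [], [141], [], e8iP2, e8iL2, e8i_ok_25_4, e8i_claim_2 R hL hC⟩

theorem e8i_claim_27 [Finite F] [CharP F 2] (R : BRel chevE8 F η) (hL : ChiLowS R) (hC : ChiCocS R) :
    ChiClaim R e8iP27 e8iL27 := by
  refine chi_claim e8i_hD R hL hC e8iP27 [1, 6] e8iL27 e8i_low_27 (by decide +kernel) (by decide +kernel) ?_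
  intro j hj
  simp only [List.mem_cons, List.not_mem_nil, or_false] at hj
  rcases hj with rfl | rfl
  · exact ⟨141, [], [121], [], e8iP7, e8iL7, e8i_ok_27_1, e8i_claim_7 R hL hC⟩
  · exact ⟨121, [], [141], [], e8iP2, e8iL2, e8i_ok_27_6, e8i_claim_2 R hL hC⟩

theorem e8i_claim_35 [Finite F] [CharP F 2] (R : BRel chevE8 F η) (hL : ChiLowS R) (hC : ChiCocS R) :
    ChiClaim R e8iP35 e8iL35 := by
  refine chi_claim e8i_hD R hL hC e8iP35 [2, 4] e8iL35 e8i_low_35 (by decide +kernel) (by decide +kernel) ?_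
  intro j hj
  simp only [List.mem_cons, List.not_mem_nil, or_false] at hj
  rcases hj with rfl | rfl
  · exact ⟨135, [], [126], [], e8iP5, e8iL5, e8i_ok_35_2, e8i_claim_5 R hL hC⟩
  · exact ⟨126, [], [135], [], e8iP3, e8iL3, e8i_ok_35_4, e8i_claim_3 R hL hC⟩

theorem e8i_claim_37 [Finite F] [CharP F 2] (R : BRel chevE8 F η) (hL : ChiLowS R) (hC : ChiCocS R) :
    ChiClaim R e8iP37 e8iL37 := by
  refine chi_claim e8i_hD R hL hC e8iP37 [2, 6] e8iL37 e8i_low_37 (by decide +kernel) (by decide +kernel) ?_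
  intro j hj
  simp only [List.mem_cons, List.not_mem_nil, or_false] at hj
  rcases hj with rfl | rfl
  · exact ⟨135, [], [121], [], e8iP7, e8iL7, e8i_ok_37_2, e8i_claim_7 R hL hC⟩
  · exact ⟨121, [], [135], [], e8iP3, e8iL3, e8i_ok_37_6, e8i_claim_3 R hL hC⟩

theorem e8i_claim_57 [Finite F] [CharP F 2] (R : BRel chevE8 F η) (hL : ChiLowS R) (hC : ChiCocS R) :
    ChiClaim R e8iP57 e8iL57 := by
  refine chi_claim e8i_hD R hL hC e8iP57 [4, 6] e8iL57 e8i_low_57 (by decide +kernel) (by decide +kernel) ?_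
  intro j hj
  simp only [List.mem_cons, List.not_mem_nil, or_false] at hj
  rcases hj with rfl | rfl
  · exact ⟨126, [], [121], [], e8iP7, e8iL7, e8i_ok_57_4, e8i_claim_7 R hL hC⟩
  · exact ⟨121, [], [126], [], e8iP5, e8iL5, e8i_ok_57_6, e8i_claim_5 R hL hC⟩

theorem e8i_claim_235 [Finite F] [CharP F 2] (R : BRel chevE8 F η) (hL : ChiLowS R) (hC : ChiCocS R) :
    ChiClaim R e8iP235 e8iL235 := by
  refine chi_claim e8i_hD R hL hC e8iP235 [1, 2, 4] e8iL235 e8i_low_235 (by decide +kernel) (by decide +kernel) ?_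
  intro j hj
  simp only [List.mem_cons, List.not_mem_nil, or_false] at hj
  rcases hj with rfl | rfl | rfl
  · exact ⟨141, [], [126, 135], [], e8iP35, e8iL35, e8i_ok_235_1, e8i_claim_35 R hL hC⟩
  · exact ⟨135, [], [126, 141], [], e8iP25, e8iL25, e8i_ok_235_2, e8i_claim_25 R hL hC⟩
  · exact ⟨126, [], [135, 141], [], e8iP23, e8iL23, e8i_ok_235_4, e8i_claim_23 R hL hC⟩

theorem e8i_claim_237 [Finite F] [CharP F 2] (R : BRel chevE8 F η) (hL : ChiLowS R) (hC : ChiCocS R) :
    ChiClaim R e8iP237 e8iL237 := by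
  refine chi_claim e8i_hD R hL hC e8iP237 [1, 2, 6] e8iL237 e8i_low_237 (by decide +kernel) (by decide +kernel) ?_
  intro j hj
  simp only [List.mem_cons, List.not_mem_nil, or_false] at hj
  rcases hj with rfl | rfl | rfl
  · exact ⟨141, [], [121, 135], [], e8iP37, e8iL37, e8i_ok_237_1, e8i_claim_37 R hL hC⟩
  · exact ⟨135, [], [121, 141], [], e8iP27, e8iL27, e8i_ok_237_2, e8i_claim_27 R hL hC⟩
  · exact ⟨121, [], [135, 141], [], e8iP23, e8iL23, e8i_ok_237_6, e8i_claim_23 R hL hC⟩

theorem e8i_claim_257 [Finite F] [CharP F 2] (R : BRel chevE8 F η) (hL : ChiLowS R) (hC : ChiCocS R) :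
    ChiClaim R e8iP257 e8iL257 := by
  refine chi_claim e8i_hD R hL hC e8iP257 [1, 4, 6] e8iL257 e8i_low_257 (by decide +kernel) (by decide +kernel) ?_
  intro j hj
  simp only [List.mem_cons, List.not_mem_nil, or_false] at hj
  rcases hj with rfl | rfl | rfl
  · exact ⟨141, [], [121, 126], [], e8iP57, e8iL57, e8i_ok_257_1, e8i_claim_57 R hL hC⟩
  · exact ⟨126, [], [121, 141], [], e8iP27, e8iL27, e8i_ok_257_4, e8i_claim_27 R hL hC⟩
  · exact ⟨121, [], [126, 141], [], e8iP25, e8iL25, e8i_ok_257_6, e8i_claim_25 R hL hC⟩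

theorem e8i_claim_357 [Finite F] [CharP F 2] (R : BRel chevE8 F η) (hL : ChiLowS R) (hC : ChiCocS R) :
    ChiClaim R e8iP357 e8iL357 := by
  refine chi_claim e8i_hD R hL hC e8iP357 [2, 4, 6] e8iL357 e8i_low_357 (by decide +kernel) (by decide +kernel) ?_
  intro j hj
  simp only [List.mem_cons, List.not_mem_nil, or_false] at hj
  rcases hj with rfl | rfl | rfl
  · exact ⟨135, [], [121, 126], [], e8iP57, e8iL57, e8i_ok_357_2, e8i_claim_57 R hL hC⟩
  · exact ⟨126, [], [121, 135], [], e8iP37, e8iL37, e8i_ok_357_4, e8i_claim_37 R hL hC⟩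
  · exact ⟨121, [], [126, 135], [], e8iP35, e8iL35, e8i_ok_357_6, e8i_claim_35 R hL hC⟩

theorem e8i_claim_2345 [Finite F] [CharP F 2] (R : BRel chevE8 F η) (hL : ChiLowS R) (hC : ChiCocS R) :
    ChiClaim R e8iP2345 e8iL2345 := by
  refine chi_claim e8i_hD R hL hC e8iP2345 [1, 2, 3, 4] e8iL2345 e8i_low_2345 (by decide +kernel) (by decide +kernel) ?_
  intro j hj
  simp only [List.mem_cons, List.not_mem_nil, or_false] at hj
  rcases hj with rfl | rfl | rfl | rfl
  · exact ⟨152, [3, 4, 2, 3], [126, 135, 152], [(130, 142), (131, 143), (136, 147), (137, 148)], e8iP235, e8iL235, e8i_ok_2345_1, e8i_claim_235 R hL hC⟩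
  · exact ⟨152, [3, 4, 1, 3], [126, 141, 152], [(130, 136), (131, 137), (142, 147), (143, 148)], e8iP235, e8iL235, e8i_ok_2345_2, e8i_claim_235 R hL hC⟩
  · exact ⟨152, [3, 4, 2, 1], [137, 143, 147], [(126, 131), (135, 136), (141, 142), (148, 152)], e8iP235, e8iL235, e8i_ok_2345_3, e8i_claim_235 R hL hC⟩
  · exact ⟨152, [3, 2, 1, 3], [135, 141, 152], [(130, 131), (136, 137), (142, 143), (147, 148)], e8iP235, e8iL235, e8i_ok_2345_4, e8i_claim_235 R hL hC⟩

theorem e8i_claim_2357 [Finite F] [CharP F 2] (R : BRel chevE8 F η) (hL : ChiLowS R) (hC : ChiCocS R) :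
    ChiClaim R e8iP2357 e8iL2357 := by
  refine chi_claim e8i_hD R hL hC e8iP2357 [1, 2, 4, 6] e8iL2357 e8i_low_2357 (by decide +kernel) (by decide +kernel) ?_
  intro j hj
  simp only [List.mem_cons, List.not_mem_nil, or_false] at hj
  rcases hj with rfl | rfl | rfl | rfl
  · exact ⟨141, [], [121, 126, 135], [], e8iP357, e8iL357, e8i_ok_2357_1, e8i_claim_357 R hL hC⟩
  · exact ⟨135, [], [121, 126, 141], [], e8iP257, e8iL257, e8i_ok_2357_2, e8i_claim_257 R hL hC⟩
  · exact ⟨126, [], [121, 135, 141], [], e8iP237, e8iL237, e8i_ok_2357_4, e8i_claim_237 R hL hC⟩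
  · exact ⟨121, [], [126, 135, 141], [], e8iP235, e8iL235, e8i_ok_2357_6, e8i_claim_235 R hL hC⟩

theorem e8i_claim_23457 [Finite F] [CharP F 2] (R : BRel chevE8 F η) (hL : ChiLowS R) (hC : ChiCocS R) :
    ChiClaim R e8iP23457 e8iL23457 := by
  refine chi_claim e8i_hD R hL hC e8iP23457 [1, 2, 3, 4, 6] e8iL23457 e8i_low_23457 (by decide +kernel) (by decide +kernel) ?_
  intro j hj
  simp only [List.mem_cons, List.not_mem_nil, or_false] at hj
  rcases hj with rfl | rfl | rfl | rfl | rfl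
  · exact ⟨152, [3, 4, 2, 3], [121, 126, 135, 152], [(130, 142), (131, 143), (136, 147), (137, 148)], e8iP2357, e8iL2357, e8i_ok_23457_1, e8i_claim_2357 R hL hC⟩
  · exact ⟨152, [3, 4, 1, 3], [121, 126, 141, 152], [(130, 136), (131, 137), (142, 147), (143, 148)], e8iP2357, e8iL2357, e8i_ok_23457_2, e8i_claim_2357 R hL hC⟩
  · exact ⟨152, [3, 4, 2, 1], [121, 137, 143, 147], [(126, 131), (135, 136), (141, 142), (148, 152)], e8iP2357, e8iL2357, e8i_ok_23457_3, e8i_claim_2357 R hL hC⟩
  · exact ⟨152, [3, 2, 1, 3], [121, 135, 141, 152], [(130, 131), (136, 137), (142, 143), (147, 148)], e8iP2357, e8iL2357, e8i_ok_23457_4, e8i_claim_2357 R hL hC⟩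
  · exact ⟨121, [], [126, 130, 131, 135, 136, 137, 141, 142, 143, 147, 148, 152], [], e8iP2345, e8iL2345, e8i_ok_23457_6, e8i_claim_2345 R hL hC⟩

theorem e8i_claim_234567 [Finite F] [CharP F 2] (R : BRel chevE8 F η) (hL : ChiLowS R) (hC : ChiCocS R) :
    ChiClaim R e8iP234567 e8iL234567 := by
  refine chi_claim e8i_hD R hL hC e8iP234567 [1, 2, 3, 4, 5, 6] e8iL234567 e8i_low_234567 (by decide +kernel) (by decide +kernel) ?_
  intro j hj
  simp only [List.mem_cons, List.not_mem_nil, or_false] at hj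
  rcases hj with rfl | rfl | rfl | rfl | rfl | rfl
  · exact ⟨159, [5, 6, 4, 5, 3, 4, 2, 3], [121, 123, 124, 126, 127, 128, 135, 152, 153, 154, 156, 157, 159], [(130, 142), (131, 143), (132, 144), (133, 145), (136, 147), (137, 148), (138, 149), (139, 150)], e8iP23457, e8iL23457, e8i_ok_234567_1, e8i_claim_23457 R hL hC⟩
  · exact ⟨159, [5, 6, 4, 5, 3, 4, 1, 3], [121, 123, 124, 126, 127, 128, 141, 152, 153, 154, 156, 157, 159], [(130, 136), (131, 137), (132, 138), (133, 139), (142, 147), (143, 148), (144, 149), (145, 150)], e8iP23457, e8iL23457, e8i_ok_234567_2, e8i_claim_23457 R hL hC⟩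
  · exact ⟨159, [5, 6, 4, 5, 3, 4, 2, 1], [121, 123, 124, 137, 138, 139, 143, 144, 145, 147, 156, 157, 159], [(126, 131), (127, 132), (128, 133), (135, 136), (141, 142), (148, 152), (149, 153), (150, 154)], e8iP23457, e8iL23457, e8i_ok_234567_3, e8i_claim_23457 R hL hC⟩
  · exact ⟨159, [5, 6, 4, 5, 3, 2, 1, 3], [121, 132, 133, 135, 138, 139, 141, 144, 145, 149, 150, 152, 159], [(123, 127), (124, 128), (130, 131), (136, 137), (142, 143), (147, 148), (153, 156), (154, 157)], e8iP23457, e8iL23457, e8i_ok_234567_4, e8i_claim_23457 R hL hC⟩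
  · exact ⟨159, [5, 6, 4, 3, 2, 1, 3, 4], [128, 130, 133, 135, 136, 139, 141, 142, 145, 147, 150, 154, 156], [(121, 124), (126, 127), (131, 132), (137, 138), (143, 144), (148, 149), (152, 153), (157, 159)], e8iP23457, e8iL23457, e8i_ok_234567_5, e8i_claim_23457 R hL hC⟩
  · exact ⟨159, [5, 4, 3, 2, 1, 3, 4, 5], [126, 130, 131, 135, 136, 137, 141, 142, 143, 147, 148, 152, 159], [(123, 124), (127, 128), (132, 133), (138, 139), (144, 145), (149, 150), (153, 154), (156, 157)], e8iP23457, e8iL23457, e8i_ok_234567_6, e8i_claim_23457 R hL hC⟩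

theorem e8i_claim_1234567 [Finite F] [CharP F 2] (R : BRel chevE8 F η) (hL : ChiLowS R) (hC : ChiCocS R) :
    ChiClaim R e8iP1234567 e8iL1234567 := by
  refine chi_claim e8i_hD R hL hC e8iP1234567 [0, 1, 2, 3, 4, 5, 6] e8iL1234567 e8i_low_1234567 (by decide +kernel) (by decide +kernel) ?_
  intro j hj
  simp only [List.mem_cons, List.not_mem_nil, or_false] at hj
  rcases hj with rfl | rfl | rfl | rfl | rfl | rfl | rfl
  · exact ⟨226, [0, 2, 3, 4, 5, 6, 1, 3, 4, 5, 2, 3, 4, 1, 3, 2], [121, 123, 124, 126, 127, 128, 130, 131, 132, 133, 141, 142, 143, 144, 145, 184, 185, 186, 188, 189, 191, 194, 195, 197, 200, 204, 205, 207, 210, 214], [(135, 163), (136, 164), (137, 165), (138, 166), (139, 167), (147, 169), (148, 170), (149, 171), (150, 172), (152, 174), (153, 175), (154, 176), (156, 178), (157, 179), (159, 181), (219, 226)], e8iP234567, e8iL234567, e8i_ok_1234567_0, e8i_claim_234567 R hL hC⟩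
  · exact ⟨226, [0, 2, 3, 4, 5, 6, 1, 3, 4, 5, 2, 3, 4, 0, 2, 3], [121, 123, 124, 126, 127, 128, 135, 152, 153, 154, 156, 157, 159, 162, 163, 174, 175, 176, 178, 179, 181, 184, 185, 186, 188, 189, 191, 214, 219, 226], [(130, 142), (131, 143), (132, 144), (133, 145), (136, 147), (137, 148), (138, 149), (139, 150), (164, 169), (165, 170), (166, 171), (167, 172), (194, 204), (195, 205), (197, 207), (200, 210)], e8iP234567, e8iL234567, e8i_ok_1234567_1, e8i_claim_234567 R hL hC⟩
  · exact ⟨226, [0, 2, 3, 4, 5, 6, 1, 3, 4, 5, 2, 3, 4, 1, 3, 0], [121, 123, 124, 126, 127, 128, 141, 152, 153, 154, 156, 157, 159, 164, 165, 166, 167, 169, 170, 171, 172, 194, 195, 197, 200, 204, 205, 207, 210, 226], [(130, 136), (131, 137), (132, 138), (133, 139), (142, 147), (143, 148), (144, 149), (145, 150), (162, 163), (174, 184), (175, 185), (176, 186), (178, 188), (179, 189), (181, 191), (214, 219)], e8iP234567, e8iL234567, e8i_ok_1234567_2, e8i_claim_234567 R hL hC⟩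
  · exact ⟨226, [0, 2, 3, 4, 5, 6, 1, 3, 4, 5, 2, 3, 4, 0, 2, 1], [121, 123, 124, 137, 138, 139, 143, 144, 145, 147, 156, 157, 159, 162, 165, 166, 167, 169, 178, 179, 181, 184, 185, 186, 200, 204, 205, 207, 219, 226], [(126, 131), (127, 132), (128, 133), (135, 136), (141, 142), (148, 152), (149, 153), (150, 154), (163, 164), (170, 174), (171, 175), (172, 176), (188, 194), (189, 195), (191, 197), (210, 214)], e8iP234567, e8iL234567, e8i_ok_1234567_3, e8i_claim_234567 R hL hC⟩
  · exact ⟨226, [0, 2, 3, 4, 5, 6, 1, 3, 4, 5, 2, 3, 0, 2, 1, 3], [121, 132, 133, 135, 138, 139, 141, 144, 145, 149, 150, 152, 159, 162, 163, 166, 167, 171, 172, 174, 181, 184, 191, 194, 195, 204, 205, 214, 219, 226], [(123, 127), (124, 128), (130, 131), (136, 137), (142, 143), (147, 148), (153, 156), (154, 157), (164, 165), (169, 170), (175, 178), (176, 179), (185, 188), (186, 189), (197, 200), (207, 210)], e8iP234567, e8iL234567, e8i_ok_1234567_4, e8i_claim_234567 R hL hC⟩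
  · exact ⟨226, [0, 2, 3, 4, 5, 6, 1, 3, 4, 2, 3, 0, 2, 1, 3, 4], [128, 130, 133, 135, 136, 139, 141, 142, 145, 147, 150, 154, 156, 162, 163, 164, 167, 169, 172, 176, 178, 186, 188, 194, 200, 204, 210, 214, 219, 226], [(121, 124), (126, 127), (131, 132), (137, 138), (143, 144), (148, 149), (152, 153), (157, 159), (165, 166), (170, 171), (174, 175), (179, 181), (184, 185), (189, 191), (195, 197), (205, 207)], e8iP234567, e8iL234567, e8i_ok_1234567_5, e8i_claim_234567 R hL hC⟩
  · exact ⟨226, [0, 2, 3, 4, 5, 1, 3, 4, 2, 3, 0, 2, 1, 3, 4, 5], [126, 130, 131, 135, 136, 137, 141, 142, 143, 147, 148, 152, 159, 162, 163, 164, 165, 169, 170, 174, 181, 184, 191, 197, 200, 207, 210, 214, 219, 226], [(123, 124), (127, 128), (132, 133), (138, 139), (144, 145), (149, 150), (153, 154), (156, 157), (166, 167), (171, 172), (175, 176), (178, 179), (185, 186), (188, 189), (194, 195), (204, 205)], e8iP234567, e8iL234567, e8i_ok_1234567_6, e8i_claim_234567 R hL hC⟩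

theorem e8i_claim_12345678 [Finite F] [CharP F 2] (R : BRel chevE8 F η) (hL : ChiLowS R) (hC : ChiCocS R) :
    ChiClaim R e8iP12345678 e8iL12345678 := by
  refine chi_claim e8i_hD R hL hC e8iP12345678 [0, 1, 2, 3, 4, 5, 6, 7] e8iL12345678 e8i_low_12345678 (by decide +kernel) (by decide +kernel) ?_
  intro j hj
  simp only [List.mem_cons, List.not_mem_nil, or_false] at hj
  rcases hj with rfl | rfl | rfl | rfl | rfl | rfl | rfl | rfl
  · exact ⟨239, [7, 6, 5, 4, 3, 2, 1, 3, 4, 5, 6, 7, 0, 2, 3, 4, 5, 6, 1, 3, 4, 5, 2, 3, 4, 1, 3, 2], [120, 121, 122, 123, 124, 125, 126, 127, 128, 129, 130, 131, 132, 133, 134, 141, 142, 143, 144, 145, 146, 184, 185, 186, 187, 188, 189, 190, 191, 192, 193, 194, 195, 196, 197, 198, 199, 200, 201, 202, 203, 204, 205, 206, 207, 208, 209, 210, 211, 212, 213, 214, 215, 216, 217, 218, 232, 234, 235, 236, 237, 238, 239], [(135, 163), (136, 164), (137, 165), (138, 166), (139, 167), (140, 168), (147, 169), (148, 170), (149, 171), (150, 172),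 (151, 173), (152, 174), (153, 175), (154, 176), (155, 177), (156, 178), (157, 179), (158, 180), (159, 181), (160, 182), (161, 183), (219, 226), (220, 227), (221, 228), (222, 229), (223, 230), (224, 231), (225, 233)], e8iP1234567, e8iL1234567, e8i_ok_12345678_0, e8i_claim_1234567 R hL hC⟩
  · exact ⟨239, [7, 6, 5, 4, 3, 2, 1, 3, 4, 5, 6, 7, 0, 2, 3, 4, 5, 6, 1, 3, 4, 5, 2, 3, 4, 0, 2, 3], [120, 121, 122, 123, 124, 125, 126, 127, 128, 129, 135, 152, 153, 154, 155, 156, 157, 158, 159, 160, 161, 162, 163, 174, 175, 176, 177, 178, 179, 180, 181, 182, 183, 184, 185, 186, 187, 188, 189, 190, 191, 192, 193, 214, 215, 216, 217, 218, 219, 220, 221, 222, 223, 226, 227, 228, 229, 230, 235, 236, 237, 238, 239], [(130, 142), (131, 143), (132, 144), (133, 145), (134, 146), (136, 147), (137, 148), (138, 149), (139, 150), (140, 151), (164, 169), (165, 170), (166, 171), (167, 172), (168, 173), (194, 204), (195, 205), (196, 206), (197, 207), (198, 208), (199, 209), (200, 210), (201,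 211), (202, 212), (203, 213), (224, 225), (231, 233), (232, 234)], e8iP1234567, e8iL1234567, e8i_ok_12345678_1, e8i_claim_1234567 R hL hC⟩
  · exact ⟨239, [7, 6, 5, 4, 3, 2, 1, 3, 4, 5, 6, 7, 0, 2, 3, 4, 5, 6, 1, 3, 4, 5, 2, 3, 4, 1, 3, 0], [120, 121, 122, 123, 124, 125, 126, 127, 128, 129, 141, 152, 153, 154, 155, 156, 157, 158, 159, 160, 161, 164, 165, 166, 167, 168, 169, 170, 171, 172, 173, 194, 195, 196, 197, 198, 199, 200, 201, 202, 203, 204, 205, 206, 207, 208, 209, 210, 211, 212, 213, 224, 225, 226, 227, 228, 229, 230, 235, 236, 237, 238, 239], [(130, 136), (131, 137), (132, 138), (133, 139), (134, 140), (142, 147), (143, 148), (144, 149), (145, 150), (146, 151), (162, 163), (174, 184), (175, 185), (176, 186), (177, 187), (178, 188), (179, 189), (180, 190), (181, 191), (182, 192), (183, 193), (214, 219), (215, 220), (216, 221), (217, 222), (218, 223), (231, 232), (233, 234)], e8iP1234567, e8iL1234567, e8i_ok_12345678_2, e8i_claim_1234567 R hL hC⟩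
  · exact ⟨239, [7, 6, 5, 4, 3, 2, 1, 3, 4, 5, 6, 7, 0, 2, 3, 4, 5, 6, 1, 3, 4, 5, 2, 3, 4, 0, 2, 1], [120, 121, 122, 123, 124, 125, 137, 138, 139, 140, 143, 144, 145, 146, 147, 156, 157, 158, 159, 160, 161, 162, 165, 166, 167, 168, 169, 178, 179, 180, 181, 182, 183, 184, 185, 186, 187, 200, 201, 202, 203, 204, 205, 206, 207, 208, 209, 218, 219, 220, 221, 222, 225, 226, 227, 228, 229, 232, 233, 236, 237, 238, 239], [(126, 131), (127, 132), (128, 133), (129, 134), (135, 136), (141, 142), (148, 152), (149, 153), (150, 154), (151, 155), (163, 164), (170, 174), (171, 175), (172, 176), (173, 177), (188, 194), (189, 195), (190, 196), (191, 197), (192, 198), (193, 199), (210, 214), (211, 215), (212, 216), (213, 217), (223, 224), (230, 231), (234, 235)], e8iP1234567, e8iL1234567, e8i_ok_12345678_3, e8i_claim_1234567 R hL hC⟩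
  · exact ⟨239, [7, 6, 5, 4, 3, 2, 1, 3, 4, 5, 6, 7, 0, 2, 3, 4, 5, 6, 1, 3, 4, 5, 2, 3, 0, 2, 1, 3], [120, 121, 122, 132, 133, 134, 135, 138, 139, 140, 141, 144, 145, 146, 149, 150, 151, 152, 159, 160, 161, 162, 163, 166, 167, 168, 171, 172, 173, 174, 181, 182, 183, 184, 191, 192, 193, 194, 195, 196, 203, 204, 205, 206, 213, 214, 215, 216, 219, 220, 221, 224, 225, 226, 227, 228, 231, 232, 233, 234, 237, 238, 239], [(123, 127), (124, 128), (125, 129), (130, 131), (136, 137), (142, 143), (147, 148), (153, 156), (154, 157), (155, 158), (164, 165), (169, 170), (175, 178), (176, 179), (177, 180), (185, 188), (186, 189), (187, 190), (197, 200), (198, 201), (199, 202), (207, 210), (208, 211), (209, 212), (217, 218), (222, 223), (229, 230), (235, 236)], e8iP1234567, e8iL1234567, e8i_ok_12345678_4, e8i_claim_1234567 R hL hC⟩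
  · exact ⟨239, [7, 6, 5, 4, 3, 2, 1, 3, 4, 5, 6, 7, 0, 2, 3, 4, 5, 6, 1, 3, 4, 2, 3, 0, 2, 1, 3, 4], [120, 128, 129, 130, 133, 134, 135, 136, 139, 140, 141, 142, 145, 146, 147, 150, 151, 154, 155, 156, 161, 162, 163, 164, 167, 168, 169, 172, 173, 176, 177, 178, 183, 186, 187, 188, 193, 194, 199, 200, 201, 204, 209, 210, 211, 214, 215, 218, 219, 220, 223, 224, 225, 226, 227, 230, 231, 232, 233, 234, 235, 238, 239], [(121, 124), (122, 125), (126, 127), (131, 132), (137, 138), (143, 144), (148, 149), (152, 153), (157, 159), (158, 160), (165, 166), (170, 171), (174, 175), (179, 181), (180, 182), (184, 185), (189, 191), (190, 192), (195, 197), (196, 198), (202, 203), (205, 207), (206, 208), (212, 213), (216, 217), (221, 222), (228, 229), (236, 237)], e8iP1234567, e8iL1234567, e8i_ok_12345678_5, e8i_claim_1234567 R hL hC⟩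
  · exact ⟨239, [7, 6, 5, 4, 3, 2, 1, 3, 4, 5, 6, 7, 0, 2, 3, 4, 5, 1, 3, 4, 2, 3, 0, 2, 1, 3, 4, 5], [125, 126, 129, 130, 131, 134, 135, 136, 137, 140, 141, 142, 143, 146, 147, 148, 151, 152, 155, 158, 159, 162, 163, 164, 165, 168, 169, 170, 173, 174, 177, 180, 181, 184, 187, 190, 191, 196, 197, 200, 203, 206, 207, 210, 213, 214, 217, 218, 219, 222, 223, 224, 225, 226, 229, 230, 231, 232, 233, 234, 235, 236, 239], [(120, 122), (123, 124), (127, 128), (132, 133), (138, 139), (144, 145), (149, 150), (153, 154), (156, 157), (160, 161), (166, 167), (171, 172), (175, 176), (178, 179), (182, 183), (185, 186), (188, 189), (192, 193), (194, 195), (198, 199), (201, 202), (204, 205), (208, 209), (211, 212), (215, 216), (220, 221), (227, 228), (237, 238)], e8iP1234567, e8iL1234567, e8i_ok_12345678_6, e8i_claim_1234567 R hL hC⟩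
  · exact ⟨239, [7, 6, 5, 4, 3, 2, 1, 3, 4, 5, 6, 0, 2, 3, 4, 5, 1, 3, 4, 2, 3, 0, 2, 1, 3, 4, 5, 6], [123, 126, 127, 130, 131, 132, 135, 136, 137, 138, 141, 142, 143, 144, 147, 148, 149, 152, 153, 156, 161, 162, 163, 164, 165, 166, 169, 170, 171, 174, 175, 178, 183, 184, 185, 188, 193, 194, 199, 202, 203, 204, 209, 212, 213, 216, 217, 218, 221, 222, 223, 224, 225, 228, 229, 230, 231, 232, 233, 234, 235, 236, 237], [(121, 122), (124, 125), (128, 129), (133, 134), (139, 140), (145, 146), (150, 151), (154, 155), (157, 158), (159, 160), (167, 168), (172, 173), (176, 177), (179, 180), (181, 182), (186, 187), (189, 190), (191, 192), (195, 196), (197, 198), (200, 201), (205, 206), (207, 208), (210, 211), (214, 215), (219, 220), (226, 227), (238, 239)], e8iP1234567, e8iL1234567, e8i_ok_12345678_7, e8i_claim_1234567 R hL hC⟩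

end E8IRec

end Cfsg.Agent.Helper81
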