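/-
helper81: involutions of the Chevalley group of type E8 in characteristic two - the assembly: the Sylow step,
the orders of the four representatives, and the three parts of S2176 (the non-conjugacy is helper27's
`e8i_noconj`, from the ranks 58, 92, 110, 120 of `y - 1` on the adjoint module).
-/
import Cfsg.Agent.Helper81.E8IRec
import Cfsg.Agent.Helper81.E8IFus
import Cfsg.Agent.Helper27.E8INC
import Cfsg.Agent.Helper18.FAut5
import Cfsg.Agent.Helper18.RSubCoc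

set_option autoImplicit false
set_option linter.unusedSectionVars false
set_option linter.unusedVariables false
set_option maxRecDepth 100000

namespace Cfsg.Agent.Helper81

open Cfsg Cfsg.Lie Cfsg.Agent.Helper36 Cfsg.Agent.Helper17 Cfsg.Agent.Helper18 Cfsg.Agent.Helper38

section E8IMain

variable {F : Type*} [Field F] {η : ℕ → ℕ → ℤ}

/-- An involution of the group is conjugate into `U` (the index of `U` is odd). -/
theorem e8i_sylow [Fintype F] [CharP F 2] {g : GL chevE8.Idx F} (hg : g ∈ chevE8.group F)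
    (hg2 : g * g = 1) : ∃ x ∈ chevE8.group F, x⁻¹ * g * x ∈ chevE8.posUnipotent F := by
  classical
  have hodd := (Cfsg.Agent.Helper18.char_two_data (F := F) (D := chevE8) (by simp)).2.2.1
  let g' : ↥(chevE8.group F) := ⟨g, hg⟩
  have hg'2 : g' ^ 2 = 1 := Subtype.ext (by rw [pow_two]; exact hg2)
  have : Fintype (↥(chevE8.group F) ⧸ (chevE8.posUnipotent F).subgroupOf (chevE8.group F)) :=
    Fintype.ofFinite _
  have hc : ¬ 2 ∣ Fintype.card
      (↥(chevE8.group F) ⧸ (chevE8.posUnipotent F).subgroupOf (chevE8.group F)) := by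
    rw [← Nat.card_eq_fintype_card, ← Subgroup.index_eq_card]
    exact hodd
  have : Fact (Nat.Prime 2) := ⟨Nat.prime_two⟩
  obtain ⟨q, hq⟩ := Equiv.Perm.exists_fixed_point_of_prime (p := 2) (n := 1) hc
    (σ := MulAction.toPermHom ↥(chevE8.group F)
      (↥(chevE8.group F) ⧸ (chevE8.posUnipotent F).subgroupOf (chevE8.group F)) g')
    (by rw [pow_one, ← map_pow, hg'2, map_one])
  induction q using Quotient.inductionOn' with
  | h x =>
    have hq' : (QuotientGroup.mk (g' * x) :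
        ↥(chevE8.group F) ⧸ (chevE8.posUnipotent F).subgroupOf (chevE8.group F)) =
        QuotientGroup.mk x := hq
    rw [QuotientGroup.eq] at hq'
    refine ⟨x, x.2, ?_⟩
    have h1 := inv_mem hq'
    have e : ((g' * x)⁻¹ * x)⁻¹ = x⁻¹ * g' * x := by group
    rw [e] at h1
    exact h1

theorem e8i_sq_chk : ∀ y ∈ Cfsg.Agent.Helper27.e8iReps,
    (goodWord chevE8 (oneW (y ++ y)) && goodWord chevE8 (oneW []) &&
    Cfsg.Agent.Helper18.allBelow (chevE8.rank + chevE8.nroots)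
      (fun k => allEvenF (fsub (fapplyW chevE8 (oneW (y ++ y)) [(k, 1, 0)])
        (fapplyW chevE8 (oneW []) [(k, 1, 0)])))) = true := by
  decide +kernel

/-- The word of a list, with all parameters `1`. -/
noncomputable def e8w (R : BRel chevE8 F η) (l : List ℕ) : GL chevE8.Idx F :=
  wordGL R.xadd (l.map fun r => (r, (1 : F)))

/-- The four representatives have order two. -/
theorem e8i_order [CharP F 2] (R : BRel chevE8 F η) {y : List ℕ}
    (hy : y ∈ Cfsg.Agent.Helper27.e8iReps) : orderOf (e8w R y) = 2 := by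
  have : Fact (Nat.Prime 2) := ⟨Nat.prime_two⟩
  apply orderOf_eq_prime
  · rw [pow_two]
    unfold e8w
    rw [← wordGL_append, ← List.map_append]
    apply Units.ext
    rw [wordGL_val, Units.val_one, wordMat_one_eq chevE8 (y ++ y) [] (e8i_sq_chk y hy)]
    rfl
  · exact Cfsg.Agent.Helper27.e8i_ne_one R.xadd hy

/-- A matrix of the list of S2176 is the word of one of the four representatives. -/
theorem e8i_word_of_mat (R : BRel chevE8 F η) {y : GL chevE8.Idx F}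
    (hy : ((y : GL chevE8.Idx F) : Matrix chevE8.Idx chevE8.Idx F) ∈
      [chevE8.x F 239 1, chevE8.x F 232 1 * chevE8.x F 233 1,
        chevE8.x F 228 1 * chevE8.x F 222 1 * chevE8.x F 218 1,
        chevE8.x F 226 1 * chevE8.x F 220 1 * chevE8.x F 213 1 * chevE8.x F 216 1]) :
    ∃ l ∈ Cfsg.Agent.Helper27.e8iReps, y = e8w R l := by
  simp only [List.mem_cons, List.not_mem_nil, or_false] at hy
  rcases hy with hy | hy | hy | hy
  · refine ⟨[239], by decide +kernel, Units.ext ?_⟩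
    rw [hy]
    simp [e8w, wordGL_cons, wordGL_nil, xGL_val, mul_assoc]
  · refine ⟨[232, 233], by decide +kernel, Units.ext ?_⟩
    rw [hy]
    simp [e8w, wordGL_cons, wordGL_nil, xGL_val, mul_assoc]
  · refine ⟨[228, 222, 218], by decide +kernel, Units.ext ?_⟩
    rw [hy]
    simp [e8w, wordGL_cons, wordGL_nil, xGL_val, mul_assoc]
  · refine ⟨[226, 220, 213, 216], by decide +kernel, Units.ext ?_⟩
    rw [hy]
    simp [e8w, wordGL_cons, wordGL_nil, xGL_val, mul_assoc]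

/-- The word of a representative is a matrix of the list of S2176. -/
theorem e8i_mat_of_word (R : BRel chevE8 F η) {l : List ℕ}
    (hl : l ∈ Cfsg.Agent.Helper27.e8iReps) :
    (((e8w R l : GL chevE8.Idx F)) : Matrix chevE8.Idx chevE8.Idx F) ∈
      [chevE8.x F 239 1, chevE8.x F 232 1 * chevE8.x F 233 1,
        chevE8.x F 228 1 * chevE8.x F 222 1 * chevE8.x F 218 1,
        chevE8.x F 226 1 * chevE8.x F 220 1 * chevE8.x F 213 1 * chevE8.x F 216 1] := by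
  unfold Cfsg.Agent.Helper27.e8iReps at hl
  simp only [List.mem_cons, List.not_mem_nil, or_false] at hl
  rcases hl with rfl | rfl | rfl | rfl <;>
    simp [e8w, wordGL_cons, wordGL_nil, xGL_val, mul_assoc]

/-- The three parts of S2176. -/
theorem e8i_main [Fintype F] [CharP F 2] :
    (∀ y : GL Cfsg.Lie.chevE8.Idx F, ((y : GL Cfsg.Lie.chevE8.Idx F) : Matrix Cfsg.Lie.chevE8.Idx Cfsg.Lie.chevE8.Idx F) ∈ [Cfsg.Lie.chevE8.x F 239 1, Cfsg.Lie.chevE8.x F 232 1 * Cfsg.Lie.chevE8.x F 233 1, Cfsg.Lie.chevE8.x F 228 1 * Cfsg.Lie.chevE8.x F 222 1 * Cfsg.Lie.chevE8.x F 218 1, Cfsg.Lie.chevE8.x F 226 1 * Cfsg.Lie.chevE8.x F 220 1 * Cfsg.Lie.chevE8.x F 213 1 * Cfsg.Lie.chevE8.x F 216 1] → y ∈ Cfsg.Lie.chevE8.group F ∧ orderOf y = 2) ∧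
    (∀ g ∈ Cfsg.Lie.chevE8.group F, orderOf g = 2 → ∃ y ∈ Cfsg.Lie.chevE8.group F, ((y : GL Cfsg.Lie.chevE8.Idx F) : Matrix Cfsg.Lie.chevE8.Idx Cfsg.Lie.chevE8.Idx F) ∈ [Cfsg.Lie.chevE8.x F 239 1, Cfsg.Lie.chevE8.x F 232 1 * Cfsg.Lie.chevE8.x F 233 1, Cfsg.Lie.chevE8.x F 228 1 * Cfsg.Lie.chevE8.x F 222 1 * Cfsg.Lie.chevE8.x F 218 1, Cfsg.Lie.chevE8.x F 226 1 * Cfsg.Lie.chevE8.x F 220 1 * Cfsg.Lie.chevE8.x F 213 1 * Cfsg.Lie.chevE8.x F 216 1] ∧ ∃ h ∈ Cfsg.Lie.chevE8.group F, h * g * h⁻¹ = y) ∧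
    (∀ y₁ ∈ Cfsg.Lie.chevE8.group F, ∀ y₂ ∈ Cfsg.Lie.chevE8.group F, ((y₁ : GL Cfsg.Lie.chevE8.Idx F) : Matrix Cfsg.Lie.chevE8.Idx Cfsg.Lie.chevE8.Idx F) ∈ [Cfsg.Lie.chevE8.x F 239 1, Cfsg.Lie.chevE8.x F 232 1 * Cfsg.Lie.chevE8.x F 233 1, Cfsg.Lie.chevE8.x F 228 1 * Cfsg.Lie.chevE8.x F 222 1 * Cfsg.Lie.chevE8.x F 218 1, Cfsg.Lie.chevE8.x F 226 1 * Cfsg.Lie.chevE8.x F 220 1 * Cfsg.Lie.chevE8.x F 213 1 * Cfsg.Lie.chevE8.x F 216 1] → ((y₂ : GL Cfsg.Lie.chevE8.Idx F) : Matrix Cfsg.Lie.chevE8.Idx Cfsg.Lie.chevE8.Idx F) ∈ [Cfsg.Lie.chevE8.x F 239 1, Cfsg.Lie.chevE8.x F 232 1 * Cfsg.Lie.chevE8.x F 233 1, Cfsg.Lie.chevE8.x F 228 1 * Cfsg.Lie.chevE8.x F 222 1 * Cfsg.Lie.chevE8.x F 218 1, Cfsg.Lie.chevE8.x F 226 1 * Cfsg.Lie.chevE8.x F 220 1 * Cfsg.Lie.chevE8.x F 213 1 * Cfsg.Lie.chevE8.x F 216 1] →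
      (∃ h ∈ Cfsg.Lie.chevE8.group F, h * y₁ * h⁻¹ = y₂) → ((y₁ : GL Cfsg.Lie.chevE8.Idx F) : Matrix Cfsg.Lie.chevE8.Idx Cfsg.Lie.chevE8.Idx F) = ((y₂ : GL Cfsg.Lie.chevE8.Idx F) : Matrix Cfsg.Lie.chevE8.Idx Cfsg.Lie.chevE8.Idx F)) := by
  have hD7 := e8i_hD
  have R := Cfsg.Agent.Helper36.bRel_of_mem (F := F) hD7
  have hW := Cfsg.Agent.Helper17.wtFacts_of_wtOK Cfsg.Agent.Helper17.chainPackOK_E8
    Cfsg.Agent.Helper17.wtOK_E8
  have hE : Cfsg.Agent.Helper17.RootElts chevE8 F := Cfsg.Agent.Helper17.rootElts_of_mem hD7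
  have hL : ChiLowS R := chi_lowS R hW hE
  have hC : ChiCocS R := chi_cocS R hW hE
  have hcl := e8i_claim_12345678 R hL hC
  have hP : chevE8.posRoots = e8iP12345678 := by decide +kernel
  have hinv : ∀ g ∈ chevE8.group F, orderOf g = 2 → ∃ h ∈ chevE8.group F,
      ∃ y ∈ Cfsg.Agent.Helper27.e8iReps, h * g * h⁻¹ = e8w R y := fun g hg hord =>
    chi_invol R (fun g hg hg2 => e8i_sylow hg hg2) e8iP12345678 hP e8iL12345678 hcl
      Cfsg.Agent.Helper27.e8iReps (e8i_fusion R) hg hord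
  refine ⟨?_, ?_, ?_⟩
  · intro y hy
    obtain ⟨l, hl, rfl⟩ := e8i_word_of_mat R hy
    exact ⟨Cfsg.Agent.Helper36.wordGL_mem_group R.xadd _, e8i_order R hl⟩
  · intro g hg hg2
    obtain ⟨h, hh, l, hl, e⟩ := hinv g hg hg2
    exact ⟨e8w R l, Cfsg.Agent.Helper36.wordGL_mem_group R.xadd _, e8i_mat_of_word R hl, h, hh, e⟩
  · intro y₁ _ y₂ _ hm₁ hm₂ hc
    obtain ⟨l₁, hl₁, rfl⟩ := e8i_word_of_mat R hm₁
    obtain ⟨l₂, hl₂, rfl⟩ := e8i_word_of_mat R hm₂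
    obtain ⟨h, _, e⟩ := hc
    have e' := Cfsg.Agent.Helper27.e8i_noconj R.xadd h hl₁ hl₂ e
    rw [e']

end E8IMain

end Cfsg.Agent.Helper81
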