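import Cfsg.Agent.Helper81.KleinFour
import Cfsg.Agent.Helper77.BlockRank

/-!
# Counting the characters of the principal block by sections

* `sum_pRegular_block`: `∑_{y p-regular} ∑_{ζ ∈ B} |ζ(y)|² = |G| · l(B)`.
* `card_mul_card_block`: `|G| · k(B) = |G| · l(B) + ∑_{g p-singular} ∑_{ζ ∈ B} |ζ(g)|²`.
* `sum_pSingular_eq_sum_sections`: a sum over the `p`-singular elements is a sum over the pairs
  (`p`-part, `p'`-part).
* `sum_section_of_normal_pComplement`: the contribution of the section of a `p`-element whose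
  centralizer has a normal `p`-complement is the order of the centralizer (principal block).
* `card_principalBlock_of_sections`: if the nontrivial `p`-elements are `c` central ones and one
  class with centralizers having normal `p`-complements, then `k(B₀) = (c + 1) · l(B₀) + 1`.
-/

set_option autoImplicit false
open Cfsg

namespace Cfsg.Agent.Helper81

open scoped ComplexConjugate

universe u

section sectionCount

variable {G : Type u} [Group G] [Fintype G]

omit [Group G] [Fintype G] in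
/-- A `finsum` over a set of a fintype as a filtered sum. -/
theorem finsum_mem_eq_sum_filter_univ {ι : Type*} [Fintype ι] (B : Set ι)
    [DecidablePred (fun i => i ∈ B)] (f : ι → ℂ) :
    ∑ᶠ i ∈ B, f i = ∑ i ∈ Finset.univ.filter (fun i => i ∈ B), f i := by
  rw [finsum_mem_def, finsum_eq_sum_of_fintype, Finset.sum_filter]
  refine Finset.sum_congr rfl fun i _ => ?_
  rw [Set.indicator_apply]

/-- `∑_{y p-regular} ∑_{ζ ∈ B} |ζ(y)|² = |G| · l(B)`. -/
theorem sum_pRegular_block {p : ℕ} [Fact p.Prime] {M : Ideal Cfsg.AlgInt}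
    (hM : Cfsg.IsPModular p M) {B : Set (Cfsg.IrrCharacter G)} (hB : Cfsg.IsPBlock M B) :
    ∑ y ∈ Finset.univ.filter (fun y : G => ¬ p ∣ orderOf y),
        ∑ᶠ ζ ∈ B, (ζ : G → ℂ) y * conj ((ζ : G → ℂ) y)
      = (Nat.card G : ℂ) * (Cfsg.blockRank p B : ℂ) := by
  classical
  have := Fintype.ofFinite (Cfsg.IrrCharacter G)
  rw [Helper77.card_mul_blockRank hM hB]
  simp only [finsum_mem_eq_sum_filter_univ]
  rw [Finset.sum_comm]
  refine Finset.sum_congr rfl fun ζ _ => ?_
  rw [Helper77.pregInner, Finset.sum_filter]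

/-- `|G| · k(B) = |G| · l(B) + ∑_{g p-singular} ∑_{ζ ∈ B} |ζ(g)|²`. -/
theorem card_mul_card_block {p : ℕ} [Fact p.Prime] {M : Ideal Cfsg.AlgInt}
    (hM : Cfsg.IsPModular p M) {B : Set (Cfsg.IrrCharacter G)} (hB : Cfsg.IsPBlock M B) :
    (Nat.card G : ℂ) * (Nat.card B : ℂ)
      = (Nat.card G : ℂ) * (Cfsg.blockRank p B : ℂ)
        + ∑ g ∈ Finset.univ.filter (fun g : G => p ∣ orderOf g),
            ∑ᶠ ζ ∈ B, (ζ : G → ℂ) g * conj ((ζ : G → ℂ) g) := by
  classical
  have := Fintype.ofFinite (Cfsg.IrrCharacter G)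
  rw [← sum_pRegular_block hM hB]
  have hsplit : ∀ F : G → ℂ, ∑ g : G, F g
      = ∑ g ∈ Finset.univ.filter (fun g : G => ¬ p ∣ orderOf g), F g
        + ∑ g ∈ Finset.univ.filter (fun g : G => p ∣ orderOf g), F g := by
    intro F
    rw [add_comm]
    exact (Finset.sum_filter_add_sum_filter_not Finset.univ (fun g : G => p ∣ orderOf g) F).symm
  rw [← hsplit]
  simp only [finsum_mem_eq_sum_filter_univ]
  rw [Finset.sum_comm]
  have hrow : ∀ ζ : Cfsg.IrrCharacter G,
      ∑ g : G, (ζ : G → ℂ) g * conj ((ζ : G → ℂ) g) = (Nat.card G : ℂ) := by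
    intro ζ
    have h := irr_orthonormal ζ ζ
    rw [if_pos rfl] at h
    have hcard : (Nat.card G : ℂ) ≠ 0 := by
      have : 0 < Nat.card G := Nat.card_pos
      exact_mod_cast this.ne'
    have h2 : ∑ g : G, (ζ : G → ℂ) g * (ζ : G → ℂ) g⁻¹ = (Nat.card G : ℂ) := by
      field_simp at h
      linear_combination h
    rw [← h2]
    refine Finset.sum_congr rfl fun g _ => ?_
    rw [Helper77.irr_inv]
  rw [Finset.sum_congr rfl fun ζ _ => hrow ζ, Finset.sum_const, nsmul_eq_mul, mul_comm]
  congr 1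
  rw [Nat.card_eq_fintype_card, Fintype.card_subtype]

open Classical in
/-- A sum over the `p`-singular elements, decomposed by `p`-part and `p'`-part. -/
theorem sum_pSingular_eq_sum_sections (p : ℕ) [Fact p.Prime] (f : G → ℂ) :
    ∑ g ∈ Finset.univ.filter (fun g : G => p ∣ orderOf g), f g
      = ∑ x ∈ Finset.univ.filter (fun x : G => x ≠ 1 ∧ ∃ k : ℕ, orderOf x = p ^ k),
          ∑ y ∈ Finset.univ.filter (fun y : G => Commute x y ∧ ¬ p ∣ orderOf y), f (x * y) := by
  classical
  have hp : p.Prime := Fact.out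
  obtain ⟨pp, hpp⟩ : ∃ pp : G → G, ∀ g, Cfsg.IsPPart p g (pp g) :=
    ⟨fun g => Classical.choose (Helper16.exists_isPPart p g (orderOf_pos g)),
      fun g => Classical.choose_spec (Helper16.exists_isPPart p g (orderOf_pos g))⟩
  have hmaps : ∀ g ∈ Finset.univ.filter (fun g : G => p ∣ orderOf g),
      pp g ∈ Finset.univ.filter (fun x : G => x ≠ 1 ∧ ∃ k : ℕ, orderOf x = p ^ k) := by
    intro g hg
    rw [Finset.mem_filter] at hg
    obtain ⟨y, hxy, hcomm, hk, hy⟩ := hpp g
    refine Finset.mem_filter.mpr ⟨Finset.mem_univ _, ?_, hk⟩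
    intro h1
    rw [h1, one_mul] at hxy
    rw [hxy] at hy
    exact hy hg.2
  rw [← Finset.sum_fiberwise_of_maps_to hmaps f]
  refine Finset.sum_congr rfl fun x hx => ?_
  rw [Finset.mem_filter] at hx
  obtain ⟨-, hx1, hxk⟩ := hx
  refine Finset.sum_nbij' (fun g => x⁻¹ * g) (fun y => x * y) ?_ ?_ ?_ ?_ ?_
  · intro g hg
    rw [Finset.mem_filter, Finset.mem_filter] at hg
    obtain ⟨⟨-, hgs⟩, hgx⟩ := hg
    obtain ⟨y, hxy, hcomm, hk, hy⟩ := hpp g
    rw [hgx] at hxy hcomm
    have hy' : x⁻¹ * g = y := by rw [← hxy]; group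
    rw [Finset.mem_filter, hy']
    exact ⟨Finset.mem_univ _, hcomm, hy⟩
  · intro y hy
    rw [Finset.mem_filter] at hy
    obtain ⟨-, hcomm, hyreg⟩ := hy
    have hpart : Cfsg.IsPPart p (x * y) x := Helper16.isPPart_mul hcomm hxk hyreg
    rw [Finset.mem_filter, Finset.mem_filter]
    refine ⟨⟨Finset.mem_univ _, ?_⟩, Helper16.isPPart_unique (hpp (x * y)) hpart⟩
    obtain ⟨k, hk⟩ := hxk
    have hk0 : k ≠ 0 := by
      rintro rfl
      rw [pow_zero, orderOf_eq_one_iff] at hk
      exact hx1 hk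
    have hcop : Nat.Coprime (orderOf x) (orderOf y) := by
      rw [hk]
      exact Nat.Coprime.pow_left k ((Nat.Prime.coprime_iff_not_dvd hp).mpr hyreg)
    rw [hcomm.orderOf_mul_eq_mul_orderOf_of_coprime hcop, hk]
    exact Dvd.dvd.mul_right (dvd_pow_self p hk0) _
  · intro g _
    group
  · intro y _
    group
  · intro g _
    congr 1
    group

/-- In a group whose largest normal `p'`-subgroup has `p`-power index, the `p`-regular elements
are exactly the elements of that subgroup. -/
theorem mem_pPrimeCore_of_pRegular {H : Type u} [Group H] [Finite H] {p : ℕ} [Fact p.Prime]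
    (hK : ∃ k : ℕ, (Cfsg.pPrimeCore p H).index = p ^ k) {y : H} (hy : ¬ p ∣ orderOf y) :
    y ∈ Cfsg.pPrimeCore p H := by
  have hp : p.Prime := Fact.out
  have hKn : (Cfsg.pPrimeCore p H).Normal := Helper76.pPrimeCore_normal
  obtain ⟨k, hk⟩ := hK
  have hcardQ : Nat.card (H ⧸ Cfsg.pPrimeCore p H) = p ^ k := by
    rw [← hk]; rfl
  have h1 : orderOf (QuotientGroup.mk y : H ⧸ Cfsg.pPrimeCore p H) ∣ p ^ k := by
    rw [← hcardQ]
    exact orderOf_dvd_natCard _
  have h2 : orderOf (QuotientGroup.mk y : H ⧸ Cfsg.pPrimeCore p H) ∣ orderOf y :=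
    orderOf_map_dvd (QuotientGroup.mk' (Cfsg.pPrimeCore p H)) y
  obtain ⟨j, -, hj⟩ := (Nat.dvd_prime_pow hp).mp h1
  have hj0 : j = 0 := by
    by_contra hne
    apply hy
    rw [hj] at h2
    exact (dvd_pow_self p hne).trans h2
  rw [hj0, pow_zero, orderOf_eq_one_iff] at hj
  exact (QuotientGroup.eq_one_iff y).mp hj

open Classical in
/-- The contribution of the section of a `p`-element `x` whose centralizer has a normal
`p`-complement to the principal block is the order of the centralizer of `x`. -/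
theorem sum_section_of_normal_pComplement {p : ℕ} [Fact p.Prime] {M : Ideal Cfsg.AlgInt}
    (hM : Cfsg.IsPModular p M) (x : G) (hx : ∃ k : ℕ, orderOf x = p ^ k)
    (hK : ∃ k : ℕ, (Cfsg.pPrimeCore p (Subgroup.centralizer ({x} : Set G))).index = p ^ k) :
    ∑ y ∈ Finset.univ.filter (fun y : G => Commute x y ∧ ¬ p ∣ orderOf y),
        ∑ᶠ ζ ∈ Cfsg.principalBlock M G, (ζ : G → ℂ) (x * y) * conj ((ζ : G → ℂ) (x * y))
      = (Nat.card (Subgroup.centralizer ({x} : Set G)) : ℂ) := by
  classical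
  have hp : p.Prime := Fact.out
  have : Fintype (Subgroup.centralizer ({x} : Set G)) := Fintype.ofFinite _
  have hKn : (Cfsg.pPrimeCore p (Subgroup.centralizer ({x} : Set G))).Normal :=
    Helper76.pPrimeCore_normal
  have hcop : (Nat.card (Cfsg.pPrimeCore p (Subgroup.centralizer ({x} : Set G)))).Coprime p :=
    Helper76.pPrimeCore_coprime
  have hnd : ¬ p ∣ Nat.card (Cfsg.pPrimeCore p (Subgroup.centralizer ({x} : Set G))) :=
    (Nat.Prime.coprime_iff_not_dvd hp).mp hcop.symm
  -- the exponent of `p` in the order of the centralizer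
  obtain ⟨k, hk⟩ := hK
  have hmul := Subgroup.card_mul_index (Cfsg.pPrimeCore p (Subgroup.centralizer ({x} : Set G)))
  rw [hk] at hmul
  have hfac : (Nat.card (Subgroup.centralizer ({x} : Set G))).factorization p = k := by
    rw [← hmul, Nat.factorization_mul Nat.card_pos.ne' (pow_ne_zero k hp.ne_zero),
      Finsupp.add_apply, Nat.factorization_eq_zero_of_not_dvd hnd, hp.factorization_pow,
      Finsupp.single_eq_same, zero_add]
  -- each term
  have hterm : ∀ y ∈ Finset.univ.filter (fun y : G => Commute x y ∧ ¬ p ∣ orderOf y),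
      ∑ᶠ ζ ∈ Cfsg.principalBlock M G, (ζ : G → ℂ) (x * y) * conj ((ζ : G → ℂ) (x * y))
        = ((p ^ k : ℕ) : ℂ) := by
    intro y hy
    rw [Finset.mem_filter] at hy
    obtain ⟨-, hcomm, hyreg⟩ := hy
    have hyH : y ∈ Subgroup.centralizer ({x} : Set G) := by
      rw [Subgroup.mem_centralizer_iff]
      intro s hs
      rw [Set.mem_singleton_iff] at hs
      rw [hs]
      exact hcomm.eq
    have hyreg' : ¬ p ∣ orderOf (⟨y, hyH⟩ : Subgroup.centralizer ({x} : Set G)) := by
      rw [← Subgroup.orderOf_coe]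
      exact hyreg
    have key := sum_principalBlock_section hM x hx ⟨y, hyH⟩ ⟨y, hyH⟩ hyreg' hyreg'
    rw [sum_principalBlock_of_normal_pComplement hM ⟨k, hk⟩ ⟨y, hyH⟩ hyreg', hfac] at key
    exact key
  rw [Finset.sum_congr rfl hterm, Finset.sum_const, nsmul_eq_mul]
  -- the number of `p`-regular elements of the centralizer
  have hcount : (Finset.univ.filter (fun y : G => Commute x y ∧ ¬ p ∣ orderOf y)).card
      = Nat.card (Cfsg.pPrimeCore p (Subgroup.centralizer ({x} : Set G))) := by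
    have h1 : Nat.card (Cfsg.pPrimeCore p (Subgroup.centralizer ({x} : Set G)))
        = Nat.card ((Cfsg.pPrimeCore p (Subgroup.centralizer ({x} : Set G))).map
            (Subgroup.centralizer ({x} : Set G)).subtype) :=
      (Subgroup.card_map_of_injective (Subgroup.subtype_injective _)).symm
    rw [h1, Nat.card_eq_fintype_card, Fintype.card_subtype]
    congr 1
    ext y
    simp only [Finset.mem_filter, Finset.mem_univ, true_and]
    constructor
    · rintro ⟨hcomm, hyreg⟩
      have hyH : y ∈ Subgroup.centralizer ({x} : Set G) := by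
        rw [Subgroup.mem_centralizer_iff]
        intro s hs
        rw [Set.mem_singleton_iff] at hs
        rw [hs]
        exact hcomm.eq
      have hyreg' : ¬ p ∣ orderOf (⟨y, hyH⟩ : Subgroup.centralizer ({x} : Set G)) := by
        rw [← Subgroup.orderOf_coe]
        exact hyreg
      exact ⟨⟨y, hyH⟩, mem_pPrimeCore_of_pRegular ⟨k, hk⟩ hyreg', rfl⟩
    · rintro ⟨y', hy', rfl⟩
      refine ⟨?_, ?_⟩
      · exact (Subgroup.mem_centralizer_iff.mp y'.2 x rfl)
      · rw [Subgroup.coe_subtype, Subgroup.orderOf_coe]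
        have h2 := Helper76.pPrimeCore_forall_coprime (p := p) y' hy'
        exact (Nat.Prime.coprime_iff_not_dvd hp).mp h2.symm
  rw [hcount, ← hmul]
  push_cast
  ring

/-- **Counting the principal block by sections.**  Suppose the nontrivial `p`-elements of `G` are
the elements of a finite set `Zs` of central elements `x` (with `|ζ(xg)| = |ζ(g)|` for `ζ` in the
principal block) together with the conjugates of one element `u`, and the centralizers of the
conjugates of `u` have normal `p`-complements.  Then `k(B₀) = (|Zs| + 1) · l(B₀) + 1`. -/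
theorem card_principalBlock_of_sections {p : ℕ} [Fact p.Prime] {M : Ideal Cfsg.AlgInt}
    (hM : Cfsg.IsPModular p M) (Zs : Finset G) (u : G)
    (hZ1 : ∀ x ∈ Zs, x ≠ 1 ∧ (∃ k : ℕ, orderOf x = p ^ k) ∧ ∀ g : G, Commute x g)
    (hZ2 : ∀ x ∈ Zs, ∀ ζ ∈ Cfsg.principalBlock M G, ∀ g : G,
      (ζ : G → ℂ) (x * g) * conj ((ζ : G → ℂ) (x * g)) = (ζ : G → ℂ) g * conj ((ζ : G → ℂ) g))
    (hu : u ≠ 1 ∧ ∃ k : ℕ, orderOf u = p ^ k)
    (hall : ∀ x : G, x ≠ 1 → (∃ k : ℕ, orderOf x = p ^ k) → x ∈ Zs ∨ IsConj u x)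
    (hdisj : ∀ x : G, IsConj u x → x ∉ Zs)
    (hK : ∀ x : G, IsConj u x →
      ∃ k : ℕ, (Cfsg.pPrimeCore p (Subgroup.centralizer ({x} : Set G))).index = p ^ k) :
    Nat.card (Cfsg.principalBlock M G)
      = (Zs.card + 1) * Cfsg.blockRank p (Cfsg.principalBlock M G) + 1 := by
  classical
  have hp : p.Prime := Fact.out
  have hB : Cfsg.IsPBlock M (Cfsg.principalBlock M G) := ⟨trivIrr G, by
    rw [Cfsg.principalBlock]
    congr 1⟩
  have hcard : (Nat.card G : ℂ) ≠ 0 := by
    have : 0 < Nat.card G := Nat.card_pos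
    exact_mod_cast this.ne'
  have h1 := card_mul_card_block hM hB
  rw [sum_pSingular_eq_sum_sections p
    (fun g => ∑ᶠ ζ ∈ Cfsg.principalBlock M G, (ζ : G → ℂ) g * conj ((ζ : G → ℂ) g))] at h1
  -- the nontrivial `p`-elements
  have hset : Finset.univ.filter (fun x : G => x ≠ 1 ∧ ∃ k : ℕ, orderOf x = p ^ k)
      = Zs ∪ classFinset u := by
    ext x
    simp only [Finset.mem_filter, Finset.mem_univ, true_and, Finset.mem_union, mem_classFinset]
    constructor
    · rintro ⟨hx1, hxk⟩
      exact hall x hx1 hxk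
    · rintro (hx | hx)
      · exact ⟨(hZ1 x hx).1, (hZ1 x hx).2.1⟩
      · obtain ⟨c, rfl⟩ := isConj_iff.mp hx
        refine ⟨?_, ?_⟩
        · intro h
          apply hu.1
          have : u = c⁻¹ * (c * u * c⁻¹) * c := by group
          rw [this, h]
          group
        · obtain ⟨k, hk⟩ := hu.2
          exact ⟨k, by rw [← hk]; exact (MulAut.conj c).orderOf_eq u⟩
  have hdisj' : Disjoint Zs (classFinset u) := by
    rw [Finset.disjoint_left]
    intro x hx hx'
    exact hdisj x (mem_classFinset.mp hx') hx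
  rw [hset, Finset.sum_union hdisj'] at h1
  -- central sections
  have hcentral : ∀ x ∈ Zs,
      ∑ y ∈ Finset.univ.filter (fun y : G => Commute x y ∧ ¬ p ∣ orderOf y),
        ∑ᶠ ζ ∈ Cfsg.principalBlock M G, (ζ : G → ℂ) (x * y) * conj ((ζ : G → ℂ) (x * y))
      = (Nat.card G : ℂ) * (Cfsg.blockRank p (Cfsg.principalBlock M G) : ℂ) := by
    intro x hx
    rw [← sum_pRegular_block hM hB]
    have hf : Finset.univ.filter (fun y : G => Commute x y ∧ ¬ p ∣ orderOf y)
        = Finset.univ.filter (fun y : G => ¬ p ∣ orderOf y) := by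
      ext y
      simp only [Finset.mem_filter, Finset.mem_univ, true_and, and_iff_right_iff_imp]
      intro _
      exact (hZ1 x hx).2.2 y
    rw [hf]
    refine Finset.sum_congr rfl fun y _ => ?_
    exact finsum_mem_congr rfl fun ζ hζ => hZ2 x hx ζ hζ y
  -- the sections of the conjugates of `u`
  have hclass : ∀ x ∈ classFinset u,
      ∑ y ∈ Finset.univ.filter (fun y : G => Commute x y ∧ ¬ p ∣ orderOf y),
        ∑ᶠ ζ ∈ Cfsg.principalBlock M G, (ζ : G → ℂ) (x * y) * conj ((ζ : G → ℂ) (x * y))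
      = (Nat.card (Subgroup.centralizer ({u} : Set G)) : ℂ) := by
    intro x hx
    rw [mem_classFinset] at hx
    have hxk : ∃ k : ℕ, orderOf x = p ^ k := by
      obtain ⟨c, rfl⟩ := isConj_iff.mp hx
      obtain ⟨k, hk⟩ := hu.2
      exact ⟨k, by rw [← hk]; exact (MulAut.conj c).orderOf_eq u⟩
    rw [sum_section_of_normal_pComplement hM x hxk (hK x hx)]
    obtain ⟨c, rfl⟩ := isConj_iff.mp hx
    rw [Helper16.card_centralizer_conj]
  rw [Finset.sum_congr rfl hcentral, Finset.sum_congr rfl hclass, Finset.sum_const,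
    Finset.sum_const, card_classFinset, nsmul_eq_mul, nsmul_eq_mul] at h1
  have h2 : ((Subgroup.centralizer ({u} : Set G)).index : ℂ)
      * (Nat.card (Subgroup.centralizer ({u} : Set G)) : ℂ) = (Nat.card G : ℂ) := by
    rw [← Nat.cast_mul, mul_comm, Subgroup.card_mul_index]
  rw [h2] at h1
  have h3 : (Nat.card G : ℂ) * (Nat.card (Cfsg.principalBlock M G) : ℂ)
      = (Nat.card G : ℂ) * (((Zs.card + 1) * Cfsg.blockRank p (Cfsg.principalBlock M G) + 1 : ℕ) : ℂ) := by
    rw [h1]
    push_cast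
    ring
  exact_mod_cast mul_left_cancel₀ hcard h3

end sectionCount

end Cfsg.Agent.Helper81
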